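import Mathlib
import Cfsg.Prelude.Def_Sporadic_a

/-!
Projective planes of order 4 as Steiner systems S(2,5,21): hyperovals, counts, extension of
bijections of hyperovals to isomorphisms.
-/

set_option autoImplicit false

namespace CfsgLib.ExtraspecialLarge

variable {α : Type*} [Fintype α] [DecidableEq α]

/-- A projective plane of order four. -/
structure IsPlaneFour (L : Set (Finset α)) : Prop where
  card_pts : Fintype.card α = 21
  steiner : Cfsg.IsSteinerSystem 2 5 L

/-- No line meets `S` in more than two points. -/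
def Indep (L : Set (Finset α)) (S : Finset α) : Prop := ∀ l ∈ L, (l ∩ S).card ≤ 2

open Classical in
/-- The line joining two points (empty if none). -/
@[irreducible] noncomputable def join (L : Set (Finset α)) (a b : α) : Finset α :=
  if h : ∃ l ∈ L, a ∈ l ∧ b ∈ l then h.choose else ∅

namespace IsPlaneFour

variable {L : Set (Finset α)} (h : IsPlaneFour L)
include h

theorem line_card {l : Finset α} (hl : l ∈ L) : l.card = 5 := h.steiner.1 l hl

theorem exists_join {a b : α} (hab : a ≠ b) : ∃ l ∈ L, a ∈ l ∧ b ∈ l := by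
  obtain ⟨l, ⟨hl, hs⟩, -⟩ := h.steiner.2 {a, b} (Finset.card_pair hab)
  exact ⟨l, hl, hs (by simp), hs (by simp)⟩

theorem join_spec {a b : α} (hab : a ≠ b) :
    join L a b ∈ L ∧ a ∈ join L a b ∧ b ∈ join L a b := by
  classical
  have he := h.exists_join hab
  rw [join, dif_pos he]
  exact he.choose_spec

theorem line_unique {l m : Finset α} (hl : l ∈ L) (hm : m ∈ L) {a b : α} (hab : a ≠ b)
    (hal : a ∈ l) (hbl : b ∈ l) (ham : a ∈ m) (hbm : b ∈ m) : l = m := by
  obtain ⟨k, -, hk⟩ := h.steiner.2 {a, b} (Finset.card_pair hab)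
  rw [hk l ⟨hl, by simp [Finset.insert_subset_iff, hal, hbl]⟩,
    hk m ⟨hm, by simp [Finset.insert_subset_iff, ham, hbm]⟩]

theorem eq_join {l : Finset α} (hl : l ∈ L) {a b : α} (hab : a ≠ b) (hal : a ∈ l) (hbl : b ∈ l) :
    l = join L a b :=
  h.line_unique hl (h.join_spec hab).1 hab hal hbl (h.join_spec hab).2.1 (h.join_spec hab).2.2

theorem join_comm {a b : α} (hab : a ≠ b) : join L a b = join L b a :=
  h.eq_join (h.join_spec hab).1 hab.symm (h.join_spec hab).2.2 (h.join_spec hab).2.1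

theorem point_unique {l m : Finset α} (hl : l ∈ L) (hm : m ∈ L) (hlm : l ≠ m) {a b : α}
    (hal : a ∈ l) (ham : a ∈ m) (hbl : b ∈ l) (hbm : b ∈ m) : a = b := by
  by_contra hab
  exact hlm (h.line_unique hl hm hab hal hbl ham hbm)

/-- The lines through a point. -/
theorem exists_pencil (p : α) : ∃ P : Finset (Finset α), P.card = 5 ∧
    (∀ l, l ∈ P ↔ (l ∈ L ∧ p ∈ l)) ∧ (∀ q, q ≠ p → ∃! l, l ∈ P ∧ q ∈ l) := by
  classical
  let P : Finset (Finset α) := Finset.univ.filter fun l => l ∈ L ∧ p ∈ l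
  have hP : ∀ l, l ∈ P ↔ (l ∈ L ∧ p ∈ l) := fun l => by simp [P]
  refine ⟨P, ?_, hP, fun q hq => ?_⟩
  · have hu : P.biUnion (fun l => l.erase p) = Finset.univ.erase p := by
      ext q
      simp only [Finset.mem_biUnion, Finset.mem_erase, hP, Finset.mem_univ, and_true]
      refine ⟨fun ⟨l, _, hq, _⟩ => hq, fun hq => ?_⟩
      obtain ⟨hl, hql, hpl⟩ := h.join_spec hq
      exact ⟨_, ⟨hl, hpl⟩, hq, hql⟩
    have hd : (P : Set (Finset α)).PairwiseDisjoint (fun l => l.erase p) := by
      intro l hl m hm hlm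
      rw [Function.onFun, Finset.disjoint_left]
      intro q hql hqm
      simp only [Finset.mem_erase] at hql hqm
      rw [Finset.mem_coe, hP] at hl hm
      exact hql.1 (h.point_unique hl.1 hm.1 hlm hql.2 hqm.2 hl.2 hm.2)
    have := congrArg Finset.card hu
    rw [Finset.card_biUnion hd, Finset.card_erase_of_mem (Finset.mem_univ p), Finset.card_univ,
      h.card_pts, Finset.sum_congr rfl (fun l hl => by
        rw [Finset.card_erase_of_mem ((hP l).mp hl).2, h.line_card ((hP l).mp hl).1])] at this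
    simp at this; omega
  · obtain ⟨hl, hql, hpl⟩ := h.join_spec hq
    exact ⟨_, ⟨(hP _).mpr ⟨hl, hpl⟩, hql⟩, fun m hm =>
      h.eq_join ((hP m).mp hm.1).1 hq hm.2 ((hP m).mp hm.1).2⟩

/-- Two lines meet. -/
theorem meet {l m : Finset α} (hl : l ∈ L) (hm : m ∈ L) : ∃ p, p ∈ l ∧ p ∈ m := by
  by_cases hlm : l = m
  · subst hlm
    obtain ⟨p, hp⟩ := Finset.card_pos.mp (show 0 < l.card by rw [h.line_card hl]; omega)
    exact ⟨p, hp, hp⟩
  obtain ⟨p, hpm, hpl⟩ : ∃ p ∈ m, p ∉ l := by
    by_contra hne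
    push Not at hne
    exact hlm (Finset.eq_of_subset_of_card_le hne
      (by rw [h.line_card hl, h.line_card hm])).symm
  obtain ⟨P, hP5, hP, -⟩ := h.exists_pencil p
  have hmaps : ∀ q ∈ l, join L p q ∈ P := fun q hq =>
    (hP _).mpr ⟨(h.join_spec (fun e => hpl (e ▸ hq) : p ≠ q)).1,
      (h.join_spec (fun e => hpl (e ▸ hq) : p ≠ q)).2.1⟩
  have hinj : Set.InjOn (join L p) (l : Set α) := by
    intro q hq r hr e
    by_contra hqr
    have hpq : p ≠ q := fun e => hpl (e ▸ hq)
    have hpr : p ≠ r := fun e => hpl (e ▸ hr)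
    have := h.line_unique hl (h.join_spec hpq).1 hqr hq hr (h.join_spec hpq).2.2
      (e ▸ (h.join_spec hpr).2.2)
    exact hpl (this ▸ (h.join_spec hpq).2.1)
  obtain ⟨q, hq, e⟩ := Finset.surj_on_of_inj_on_of_card_le (fun q _ => join L p q) hmaps
    (fun a b ha hb e => hinj ha hb e) (by rw [hP5, h.line_card hl]) m ((hP m).mpr ⟨hm, hpm⟩)
  exact ⟨q, hq, e ▸ (h.join_spec (fun e => hpl (e ▸ hq) : p ≠ q)).2.2⟩

/-! ### independent sets -/

theorem indep_iff {S : Finset α} : Indep L S ↔ ∀ a ∈ S, ∀ b ∈ S, ∀ c ∈ S,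
    a ≠ b → c ≠ a → c ≠ b → c ∉ join L a b := by
  constructor
  · intro hS a ha b hb c hc hab hca hcb hmem
    obtain ⟨hl, hal, hbl⟩ := h.join_spec hab
    have h1 : ({a, b, c} : Finset α) ⊆ join L a b ∩ S := by
      simp [Finset.insert_subset_iff, ha, hb, hc, hal, hbl, hmem]
    have h2 := Finset.card_le_card h1
    have h3 := hS _ hl
    rw [show ({a, b, c} : Finset α).card = 3 by simp [hab, hca.symm, hcb.symm]] at h2
    omega
  · intro hS l hl
    by_contra hcard
    obtain ⟨a, ha, b, hb, c, hc, hab, hac, hbc⟩ := Finset.two_lt_card.mp (not_le.mp hcard)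
    simp only [Finset.mem_inter] at ha hb hc
    refine hS a ha.2 b hb.2 c hc.2 hab hac.symm hbc.symm ?_
    rw [← h.eq_join hl hab ha.1 hb.1]; exact hc.1

theorem join_ne {S : Finset α} (hS : Indep L S) {a b c d : α} (ha : a ∈ S) (hb : b ∈ S)
    (hc : c ∈ S) (hd : d ∈ S) (hab : a ≠ b) (hcd : c ≠ d) (hca : c ≠ a) (hcb : c ≠ b) :
    join L a b ≠ join L c d := fun e =>
  h.indep_iff.mp hS a ha b hb c hc hab hca hcb (e ▸ (h.join_spec hcd).2.1)

/-- `p` is on no line through two points of `S`. -/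
def OffSecants (L : Set (Finset α)) (S : Finset α) (p : α) : Prop :=
  ∀ x ∈ S, ∀ y ∈ S, x ≠ y → p ∉ join L x y

omit h in
theorem offSecants_notMem {S : Finset α} (h : IsPlaneFour L) (hS : 2 ≤ S.card) {p : α}
    (hp : OffSecants L S p) : p ∉ S := by
  intro hpS
  obtain ⟨x, hx, hxp⟩ := Finset.exists_mem_ne (show 1 < S.card by omega) p
  exact hp p hpS x hx hxp.symm (h.join_spec hxp.symm).2.1

/-- On a line through one of four independent points meeting no other of them, exactly one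
further point is off all six secants. -/
theorem off_on_line {a b c d : α} (hbc : b ≠ c) (hbd : b ≠ d) (hcd : c ≠ d)
    (c_bd : c ∉ join L b d) (b_cd : b ∉ join L c d) (a_bc : a ∉ join L b c) (a_bd : a ∉ join L b d)
    (a_cd : a ∉ join L c d) {x : Finset α} (hxL : x ∈ L) (hax : a ∈ x) (bx : b ∉ x) (cx : c ∉ x)
    (dx : d ∉ x) :
    ∃ e, ∀ p, ((p ∈ x ∧ p ≠ a) ∧ p ∉ join L b c ∧ p ∉ join L b d ∧ p ∉ join L c d) ↔ p = e := by
  obtain ⟨jbc, b_bc, c_bc⟩ := h.join_spec hbc
  obtain ⟨jbd, b_bd, d_bd⟩ := h.join_spec hbd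
  obtain ⟨jcd, c_cd, d_cd⟩ := h.join_spec hcd
  obtain ⟨p1, p1x, p1l⟩ := h.meet hxL jbc
  obtain ⟨p2, p2x, p2l⟩ := h.meet hxL jbd
  obtain ⟨p3, p3x, p3l⟩ := h.meet hxL jcd
  have p12 : p1 ≠ p2 := fun e => bx (h.point_unique jbc jbd (fun e' => c_bd (e' ▸ c_bc))
    b_bc b_bd p1l (e.symm ▸ p2l) ▸ p1x)
  have p13 : p1 ≠ p3 := fun e => cx (h.point_unique jbc jcd (fun e' => b_cd (e' ▸ b_bc))
    c_bc c_cd p1l (e.symm ▸ p3l) ▸ p1x)
  have p23 : p2 ≠ p3 := fun e => dx (h.point_unique jbd jcd (fun e' => b_cd (e' ▸ b_bd))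
    d_bd d_cd p2l (e.symm ▸ p3l) ▸ p2x)
  have hsub : ({p1, p2, p3} : Finset α) ⊆ x.erase a := by
    simp only [Finset.insert_subset_iff, Finset.singleton_subset_iff, Finset.mem_erase]
    exact ⟨⟨fun e => a_bc (e ▸ p1l), p1x⟩, ⟨fun e => a_bd (e ▸ p2l), p2x⟩,
      fun e => a_cd (e ▸ p3l), p3x⟩
  have h1 : ((x.erase a) \ {p1, p2, p3}).card = 1 := by
    rw [Finset.card_sdiff_of_subset hsub, Finset.card_erase_of_mem hax, h.line_card hxL]
    simp [p12, p13, p23]
  obtain ⟨e, he⟩ := Finset.card_eq_one.mp h1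
  refine ⟨e, fun p => ?_⟩
  rw [← Finset.mem_singleton (a := e), ← he]
  simp only [Finset.mem_sdiff, Finset.mem_erase, Finset.mem_insert, Finset.mem_singleton, not_or]
  constructor
  · rintro ⟨⟨hpx, hpa⟩, h1, h2, h3⟩
    exact ⟨⟨hpa, hpx⟩, fun e => h1 (e ▸ p1l), fun e => h2 (e ▸ p2l), fun e => h3 (e ▸ p3l)⟩
  · rintro ⟨⟨hpa, hpx⟩, h1, h2, h3⟩
    exact ⟨⟨hpx, hpa⟩,
      fun e => h1 (h.point_unique hxL jbc (fun e' => bx (e' ▸ b_bc)) hpx e p1x p1l),
      fun e => h2 (h.point_unique hxL jbd (fun e' => bx (e' ▸ b_bd)) hpx e p2x p2l),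
      fun e => h3 (h.point_unique hxL jcd (fun e' => cx (e' ▸ c_cd)) hpx e p3x p3l)⟩

/-- Four independent points: exactly two points are off the six secants, and their join avoids
any of the four. -/
theorem outside {S : Finset α} (hS4 : S.card = 4) (hS : Indep L S) {a : α} (ha : a ∈ S) :
    ∃ e f, e ≠ f ∧ a ∉ join L e f ∧ ∀ p, OffSecants L S p ↔ (p = e ∨ p = f) := by
  classical
  obtain ⟨b, c, d, hbc, hbd, hcd, hbcd⟩ := Finset.card_eq_three.mp
    (show (S.erase a).card = 3 by rw [Finset.card_erase_of_mem ha, hS4])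
  have hb : b ∈ S.erase a := by rw [hbcd]; simp
  have hc : c ∈ S.erase a := by rw [hbcd]; simp
  have hd : d ∈ S.erase a := by rw [hbcd]; simp
  rw [Finset.mem_erase] at hb hc hd
  obtain ⟨hba, hb⟩ := hb
  obtain ⟨hca, hc⟩ := hc
  obtain ⟨hda, hd⟩ := hd
  have key := h.indep_iff.mp hS
  obtain ⟨P, hP5, hP, hPu⟩ := h.exists_pencil a
  obtain ⟨jab, a_ab, b_ab⟩ := h.join_spec hba.symm
  obtain ⟨jac, a_ac, c_ac⟩ := h.join_spec hca.symm
  obtain ⟨jad, a_ad, d_ad⟩ := h.join_spec hda.symm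
  have n1 : join L a b ≠ join L a c := fun e =>
    key a ha b hb c hc hba.symm hca hbc.symm (e ▸ c_ac)
  have n2 : join L a b ≠ join L a d := fun e =>
    key a ha b hb d hd hba.symm hda hbd.symm (e ▸ d_ad)
  have n3 : join L a c ≠ join L a d := fun e =>
    key a ha c hc d hd hca.symm hda hcd.symm (e ▸ d_ad)
  let M := P \ {join L a b, join L a c, join L a d}
  have hM : M.card = 2 := by
    rw [Finset.card_sdiff_of_subset (by
      simp [Finset.insert_subset_iff, hP, jab, jac, jad, a_ab, a_ac, a_ad]), hP5]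
    simp [n1, n2, n3]
  obtain ⟨m, m', hmm, hMe⟩ := Finset.card_eq_two.mp hM
  have hmM : ∀ {x}, x ∈ M → (x ∈ L ∧ a ∈ x ∧ x ≠ join L a b ∧ x ≠ join L a c ∧ x ≠ join L a d) :=
    fun {x} hx => by
      simp only [M, Finset.mem_sdiff, hP, Finset.mem_insert, Finset.mem_singleton, not_or] at hx
      exact ⟨hx.1.1, hx.1.2, hx.2⟩
  have hone : ∀ x ∈ M, ∃ e, ∀ p, ((p ∈ x ∧ p ≠ a) ∧ p ∉ join L b c ∧ p ∉ join L b d ∧
      p ∉ join L c d) ↔ p = e := by
    intro x hx
    obtain ⟨hxL, hax, xab, xac, xad⟩ := hmM hx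
    exact h.off_on_line hbc hbd hcd (key b hb d hd c hc hbd hbc.symm hcd)
      (key c hc d hd b hb hcd hbc hbd) (key b hb c hc a ha hbc hba.symm hca.symm)
      (key b hb d hd a ha hbd hba.symm hda.symm) (key c hc d hd a ha hcd hca.symm hda.symm) hxL hax
      (fun q => xab (h.eq_join hxL hba.symm hax q)) (fun q => xac (h.eq_join hxL hca.symm hax q))
      (fun q => xad (h.eq_join hxL hda.symm hax q))
  obtain ⟨e, he⟩ := hone m (by rw [hMe]; simp)
  obtain ⟨f, hf⟩ := hone m' (by rw [hMe]; simp)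
  obtain ⟨⟨hem, hea⟩, he'⟩ := (he e).mpr rfl
  obtain ⟨⟨hfm, hfa⟩, hf'⟩ := (hf f).mpr rfl
  obtain ⟨hmL, ham, hmne⟩ := hmM (show m ∈ M by rw [hMe]; simp)
  obtain ⟨hm'L, ham', hm'ne⟩ := hmM (show m' ∈ M by rw [hMe]; simp)
  refine ⟨e, f, fun q => hea (h.point_unique hmL hm'L hmm hem (q ▸ hfm) ham ham'), fun haj => ?_,
    fun p => ?_⟩
  · have hef : e ≠ f := fun q => hea (h.point_unique hmL hm'L hmm hem (q ▸ hfm) ham ham')
    obtain ⟨j, ej, fj⟩ := h.join_spec hef
    exact hfa (h.point_unique hmL hm'L hmm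
      ((h.line_unique j hmL hea ej haj hem ham) ▸ fj) hfm ham ham')
  constructor
  · intro hoff
    have hpa : p ≠ a := fun q =>
      hoff a ha b hb hba.symm (q.symm ▸ a_ab)
    obtain ⟨x, ⟨hxP, hpx⟩, -⟩ := hPu p hpa
    have hxM : x ∈ M := by
      simp only [M, Finset.mem_sdiff, hxP, true_and, Finset.mem_insert, Finset.mem_singleton, not_or]
      exact ⟨fun q => hoff a ha b hb hba.symm (q ▸ hpx), fun q => hoff a ha c hc hca.symm (q ▸ hpx),
        fun q => hoff a ha d hd hda.symm (q ▸ hpx)⟩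
    rw [hMe, Finset.mem_insert, Finset.mem_singleton] at hxM
    have q4 : p ∉ join L b c ∧ p ∉ join L b d ∧ p ∉ join L c d :=
      ⟨hoff b hb c hc hbc, hoff b hb d hd hbd, hoff c hc d hd hcd⟩
    rcases hxM with rfl | rfl
    · exact Or.inl ((he p).mp ⟨⟨hpx, hpa⟩, q4⟩)
    · exact Or.inr ((hf p).mp ⟨⟨hpx, hpa⟩, q4⟩)
  · intro hp
    obtain ⟨x, hx, ⟨hpx, hpa⟩, q4, q5, q6⟩ : ∃ x ∈ M, (p ∈ x ∧ p ≠ a) ∧
        p ∉ join L b c ∧ p ∉ join L b d ∧ p ∉ join L c d := by
      rcases hp with rfl | rfl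
      · exact ⟨m, by rw [hMe]; simp, (he p).mpr rfl⟩
      · exact ⟨m', by rw [hMe]; simp, (hf p).mpr rfl⟩
    obtain ⟨hxL, hax, xab, xac, xad⟩ := hmM hx
    have qa : ∀ t, (t = b ∨ t = c ∨ t = d) → p ∉ join L a t := by
      rintro t (rfl | rfl | rfl) q
      · exact hpa (h.point_unique hxL jab xab hpx q hax a_ab)
      · exact hpa (h.point_unique hxL jac xac hpx q hax a_ac)
      · exact hpa (h.point_unique hxL jad xad hpx q hax a_ad)
    have qo : ∀ x y, (x = b ∨ x = c ∨ x = d) → (y = b ∨ y = c ∨ y = d) → x ≠ y → p ∉ join L x y := by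
      rintro x y (rfl | rfl | rfl) (rfl | rfl | rfl) hxy <;>
        first | exact absurd rfl hxy | assumption | (rw [h.join_comm hxy]; assumption)
    have hcase : ∀ t ∈ S, t = a ∨ (t = b ∨ t = c ∨ t = d) := fun t ht => by
      by_cases hta : t = a
      · exact Or.inl hta
      · have : t ∈ S.erase a := Finset.mem_erase.mpr ⟨hta, ht⟩
        rw [hbcd] at this
        exact Or.inr (by simpa using this)
    intro x hx' y hy' hxy
    rcases hcase x hx' with rfl | qx <;> rcases hcase y hy' with rfl | qy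
    · exact absurd rfl hxy
    · exact qa y qy
    · rw [h.join_comm hxy]; exact qa x qx
    · exact qo x y qx qy hxy

/-- A set of four independent points lies in exactly one hyperoval. -/
theorem existsUnique_hyperoval {S : Finset α} (hS4 : S.card = 4) (hS : Indep L S) :
    ∃! H : Finset α, (H.card = 6 ∧ Indep L H) ∧ S ⊆ H := by
  classical
  obtain ⟨a, ha⟩ := Finset.card_pos.mp (show 0 < S.card by omega)
  obtain ⟨e, f, hef, -, hout⟩ := h.outside hS4 hS ha
  have heO := (hout e).mpr (Or.inl rfl)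
  have hfO := (hout f).mpr (Or.inr rfl)
  have heS := offSecants_notMem h (by omega) heO
  have hfS := offSecants_notMem h (by omega) hfO
  have hline : ∀ x ∈ S, x ∉ join L e f := by
    intro x hx
    obtain ⟨e', f', hef', hx', ho⟩ := h.outside hS4 hS hx
    have e1 := (hout e').mp ((ho e').mpr (Or.inl rfl))
    have e2 := (hout f').mp ((ho f').mpr (Or.inr rfl))
    rcases e1 with rfl | rfl <;> rcases e2 with rfl | rfl
    · exact absurd rfl hef'
    · exact hx'
    · rw [h.join_comm hef]; exact hx'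
    · exact absurd rfl hef'
  have hc6 : (insert e (insert f S)).card = 6 := by
    rw [Finset.card_insert_of_notMem (by simp [hef, heS]), Finset.card_insert_of_notMem hfS, hS4]
  refine ⟨insert e (insert f S), ⟨⟨hc6, fun l hl => ?_⟩,
    (Finset.subset_insert _ _).trans (Finset.subset_insert _ _)⟩, ?_⟩
  · have hone : ∀ p, OffSecants L S p → p ∈ l → (l ∩ S).card ≤ 1 := by
      intro p hp hpl
      by_contra hc
      obtain ⟨x, hx, y, hy, hxy⟩ := Finset.one_lt_card.mp (not_le.mp hc)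
      simp only [Finset.mem_inter] at hx hy
      exact hp x hx.2 y hy.2 hxy (h.eq_join hl hxy hx.1 hy.1 ▸ hpl)
    by_cases hel : e ∈ l
    · by_cases hfl : f ∈ l
      · have h0 : l ∩ S = ∅ := by
          ext x
          simp only [Finset.mem_inter, Finset.notMem_empty, iff_false, not_and]
          exact fun hxl hxS => hline x hxS (h.eq_join hl hef hel hfl ▸ hxl)
        rw [Finset.inter_insert_of_mem hel, Finset.inter_insert_of_mem hfl, h0]
        simp [Finset.card_le_two]
      · rw [Finset.inter_insert_of_mem hel, Finset.inter_insert_of_notMem hfl]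
        exact (Finset.card_insert_le _ _).trans (by have := hone e heO hel; omega)
    · by_cases hfl : f ∈ l
      · rw [Finset.inter_insert_of_notMem hel, Finset.inter_insert_of_mem hfl]
        exact (Finset.card_insert_le _ _).trans (by have := hone f hfO hfl; omega)
      · rw [Finset.inter_insert_of_notMem hel, Finset.inter_insert_of_notMem hfl]
        exact hS l hl
  · rintro H ⟨⟨hH6, hH⟩, hSH⟩
    refine Finset.eq_of_subset_of_card_le (fun p hp => ?_) (by omega)
    by_cases hpS : p ∈ S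
    · simp [hpS]
    · have : p = e ∨ p = f := (hout p).mp fun x hx y hy hxy =>
        h.indep_iff.mp hH x (hSH hx) y (hSH hy) p hp hxy (fun q => hpS (q ▸ hx)) (fun q => hpS (q ▸ hy))
      rcases this with rfl | rfl <;> simp

/-! ### counting -/

omit h in
theorem double_count {ι κ : Type*} (A : Finset ι) (B : Finset κ) (r : ι → κ → Prop)
    [∀ i, DecidablePred (r i)] [∀ j, DecidablePred (fun i => r i j)] (m n : ℕ)
    (hA : ∀ i ∈ A, (B.filter (r i)).card = m) (hB : ∀ j ∈ B, (A.filter (fun i => r i j)).card = n) :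
    A.card * m = B.card * n := by
  have := Finset.sum_card_bipartiteAbove_eq_sum_card_bipartiteBelow r (s := A) (t := B)
  simp only [Finset.bipartiteAbove, Finset.bipartiteBelow] at this
  rw [Finset.sum_congr rfl hA, Finset.sum_congr rfl hB] at this
  simpa using this

theorem card_counts :
    {S : Finset α | S.card = 4 ∧ Indep L S}.ncard = 2520 ∧
    {H : Finset α | H.card = 6 ∧ Indep L H}.ncard = 168 := by
  classical
  let F : ℕ → Finset (Finset α) := fun k => Finset.univ.filter fun S => S.card = k ∧ Indep L S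
  have hF : ∀ k S, S ∈ F k ↔ (S.card = k ∧ Indep L S) := fun k S => by simp [F]
  have hmono : ∀ S T : Finset α, S ⊆ T → Indep L T → Indep L S := fun S T hST hT l hl =>
    le_trans (Finset.card_le_card (Finset.inter_subset_inter subset_rfl hST)) (hT l hl)
  have hsmall : ∀ S : Finset α, S.card ≤ 2 → Indep L S := fun S hS l _ =>
    le_trans (Finset.card_le_card Finset.inter_subset_right) hS
  have hstep : ∀ k m, (∀ S ∈ F k, (Finset.univ.filter fun p => p ∉ S ∧ Indep L (insert p S)).card = m) →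
      (F k).card * m = (F (k + 1)).card * (k + 1) := by
    intro k m hm
    refine double_count (F k) (F (k + 1)) (fun S T => S ⊆ T) m (k + 1) (fun S hS => ?_) (fun T hT => ?_)
    · rw [← hm S hS, ← Finset.card_image_of_injOn (f := fun p => insert p S)]
      · congr 1
        ext T
        simp only [Finset.mem_filter, hF, Finset.mem_image, Finset.mem_univ, true_and]
        constructor
        · rintro ⟨⟨hTc, hTi⟩, hST⟩
          obtain ⟨p, hp⟩ := Finset.card_eq_one.mp (show (T \ S).card = 1 by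
            rw [Finset.card_sdiff_of_subset hST, hTc, ((hF k S).mp hS).1]; omega)
          have hpT : p ∈ T \ S := by rw [hp]; simp
          have he : insert p S = T := by
            rw [Finset.insert_eq, ← hp, Finset.sdiff_union_of_subset hST]
          exact ⟨p, ⟨(Finset.mem_sdiff.mp hpT).2, he.symm ▸ hTi⟩, he⟩
        · rintro ⟨p, ⟨hp, hpi⟩, rfl⟩
          exact ⟨⟨by rw [Finset.card_insert_of_notMem hp, ((hF k S).mp hS).1], hpi⟩,
            Finset.subset_insert p S⟩
      · intro p hp q hq e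
        simp only [Finset.coe_filter, Finset.mem_univ, true_and, Set.mem_setOf_eq] at hp hq
        simp only at e
        have : p ∈ insert q S := e ▸ Finset.mem_insert_self p S
        rcases Finset.mem_insert.mp this with e' | e'
        · exact e'
        · exact absurd e' hp.1
    · have hc : (F k).filter (fun S => S ⊆ T) = T.powersetCard k := by
        ext S
        simp only [Finset.mem_filter, hF, Finset.mem_powersetCard]
        exact ⟨fun q => ⟨q.2, q.1.1⟩, fun q => ⟨⟨q.2, hmono S T q.1 ((hF _ T).mp hT).2⟩, q.1⟩⟩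
      rw [hc, Finset.card_powersetCard, ((hF _ T).mp hT).1, Nat.choose_succ_self_right]
  have h0 : (F 0).card = 1 := by
    rw [Finset.card_eq_one]
    exact ⟨∅, by ext S; simp [hF]; exact fun e => e ▸ hsmall ∅ (by simp)⟩
  have e0 := hstep 0 21 (fun S hS => by
    rw [Finset.card_eq_zero.mp ((hF 0 S).mp hS).1, Finset.filter_true_of_mem, Finset.card_univ,
      h.card_pts]
    exact fun p _ => ⟨by simp, hsmall _ (by simp)⟩)
  have e1 := hstep 1 20 (fun S hS => by
    obtain ⟨a, rfl⟩ := Finset.card_eq_one.mp ((hF 1 S).mp hS).1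
    rw [show (Finset.univ.filter fun p => p ∉ ({a} : Finset α) ∧ Indep L (insert p {a})) =
      Finset.univ.erase a by
        ext p; simp; exact fun _ => hsmall _ (Finset.card_le_two),
      Finset.card_erase_of_mem (Finset.mem_univ a), Finset.card_univ, h.card_pts])
  have e2 := hstep 2 16 (fun S hS => by
    obtain ⟨a, b, hab, rfl⟩ := Finset.card_eq_two.mp ((hF 2 S).mp hS).1
    obtain ⟨jab, ha, hb⟩ := h.join_spec hab
    rw [show (Finset.univ.filter fun p => p ∉ ({a, b} : Finset α) ∧ Indep L (insert p {a, b})) =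
      (join L a b)ᶜ by
        ext p
        simp only [Finset.mem_filter, Finset.mem_univ, true_and, Finset.mem_compl,
          Finset.mem_insert, Finset.mem_singleton, not_or]
        constructor
        · rintro ⟨⟨hpa, hpb⟩, hi⟩
          exact h.indep_iff.mp hi a (by simp) b (by simp) p (by simp) hab hpa hpb
        · intro hp
          refine ⟨⟨fun e => hp (e ▸ ha), fun e => hp (e ▸ hb)⟩, fun l hl => ?_⟩
          by_cases hall : a ∈ l ∧ b ∈ l
          · have hpl : p ∉ l := fun q => hp (h.eq_join hl hab hall.1 hall.2 ▸ q)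
            rw [Finset.inter_insert_of_notMem hpl]
            exact le_trans (Finset.card_le_card Finset.inter_subset_right) Finset.card_le_two
          · have h1 : (l ∩ {a, b}).card ≤ 1 := by
              rw [Finset.card_le_one]
              intro x hx y hy
              simp only [Finset.mem_inter, Finset.mem_insert, Finset.mem_singleton] at hx hy
              rcases hx.2 with rfl | rfl <;> rcases hy.2 with rfl | rfl <;>
                first | rfl | exact (hall ⟨hx.1, hy.1⟩).elim | exact (hall ⟨hy.1, hx.1⟩).elim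
            exact le_trans (Finset.card_le_card (show l ∩ insert p {a, b} ⊆ insert p (l ∩ {a, b}) from
              fun x hx => by simp at hx ⊢; tauto)) ((Finset.card_insert_le _ _).trans (by omega)),
      Finset.card_compl, h.card_pts, h.line_card jab])
  have e3 := hstep 3 9 (fun S hS => by
    obtain ⟨hS3, hSi⟩ := (hF 3 S).mp hS
    obtain ⟨a, b, c, hab, hac, hbc, rfl⟩ := Finset.card_eq_three.mp hS3
    obtain ⟨jab, a_ab, b_ab⟩ := h.join_spec hab
    obtain ⟨jac, a_ac, c_ac⟩ := h.join_spec hac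
    obtain ⟨jbc, b_bc, c_bc⟩ := h.join_spec hbc
    have c_ab : c ∉ join L a b :=
      h.indep_iff.mp hSi a (by simp) b (by simp) c (by simp) hab hac.symm hbc.symm
    have a_bc : a ∉ join L b c :=
      h.indep_iff.mp hSi b (by simp) c (by simp) a (by simp) hbc hab hac
    have n1 : join L a b ≠ join L a c := fun e => c_ab (e ▸ c_ac)
    have n2 : join L a b ≠ join L b c := fun e => c_ab (e ▸ c_bc)
    have n3 : join L a c ≠ join L b c := fun e => a_bc (e ▸ a_ac)
    have i1 : join L a b ∩ join L a c = {a} := by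
      ext p; simp only [Finset.mem_inter, Finset.mem_singleton]
      exact ⟨fun q => h.point_unique jab jac n1 q.1 q.2 a_ab a_ac, fun q => by rw [q]; exact ⟨a_ab, a_ac⟩⟩
    have i2 : (join L a b ∪ join L a c) ∩ join L b c = {b, c} := by
      ext p; simp only [Finset.mem_inter, Finset.mem_union, Finset.mem_insert, Finset.mem_singleton]
      constructor
      · rintro ⟨q | q, q'⟩
        · exact Or.inl (h.point_unique jab jbc n2 q q' b_ab b_bc)
        · exact Or.inr (h.point_unique jac jbc n3 q q' c_ac c_bc)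
      · rintro (rfl | rfl)
        · exact ⟨Or.inl b_ab, b_bc⟩
        · exact ⟨Or.inr c_ac, c_bc⟩
    rw [show (Finset.univ.filter fun p => p ∉ ({a, b, c} : Finset α) ∧ Indep L (insert p {a, b, c})) =
      (join L a b ∪ join L a c ∪ join L b c)ᶜ by
        ext p
        simp only [Finset.mem_filter, Finset.mem_univ, true_and, Finset.mem_compl, Finset.mem_union,
          not_or]
        constructor
        · rintro ⟨hp, hi⟩
          simp only [Finset.mem_insert, Finset.mem_singleton, not_or] at hp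
          have := h.indep_iff.mp hi
          exact ⟨⟨this a (by simp) b (by simp) p (by simp) hab hp.1 hp.2.1,
            this a (by simp) c (by simp) p (by simp) hac hp.1 hp.2.2⟩,
            this b (by simp) c (by simp) p (by simp) hbc hp.2.1 hp.2.2⟩
        · rintro ⟨⟨q1, q2⟩, q3⟩
          have hp : p ∉ ({a, b, c} : Finset α) := by
            simp only [Finset.mem_insert, Finset.mem_singleton]
            rintro (rfl | rfl | rfl)
            · exact q1 a_ab
            · exact q1 b_ab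
            · exact q2 c_ac
          refine ⟨hp, fun l hl => ?_⟩
          have hp2 := hSi l hl
          by_cases hpl : p ∈ l
          · have h1 : (l ∩ {a, b, c}).card ≤ 1 := by
              by_contra hc
              obtain ⟨x, hx, y, hy, hxy⟩ := Finset.one_lt_card.mp (not_le.mp hc)
              simp only [Finset.mem_inter, Finset.mem_insert, Finset.mem_singleton] at hx hy
              have hq : p ∈ join L x y := h.eq_join hl hxy hx.1 hy.1 ▸ hpl
              rcases hx.2 with rfl | rfl | rfl <;> rcases hy.2 with rfl | rfl | rfl <;>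
                first
                  | exact absurd rfl hxy
                  | exact q1 hq
                  | exact q2 hq
                  | exact q3 hq
                  | exact q1 (h.join_comm hxy ▸ hq)
                  | exact q2 (h.join_comm hxy ▸ hq)
                  | exact q3 (h.join_comm hxy ▸ hq)
            rw [Finset.inter_insert_of_mem hpl]
            exact le_trans (Finset.card_insert_le _ _) (by omega)
          · rwa [Finset.inter_insert_of_notMem hpl],
      Finset.card_compl, h.card_pts]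
    have u1 := Finset.card_union_add_card_inter (join L a b) (join L a c)
    have u2 := Finset.card_union_add_card_inter (join L a b ∪ join L a c) (join L b c)
    rw [i1, Finset.card_singleton, h.line_card jab, h.line_card jac] at u1
    rw [i2, Finset.card_pair hbc, h.line_card jbc] at u2
    omega)
  have h4 : (F 4).card = 2520 := by norm_num [h0] at e0 e1 e2 e3; omega
  have e4 : (F 4).card * 1 = (F 6).card * 15 := by
    refine double_count (F 4) (F 6) (fun S T => S ⊆ T) 1 15 (fun S hS => ?_) (fun T hT => ?_)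
    · obtain ⟨H, hH, hu⟩ := h.existsUnique_hyperoval ((hF 4 S).mp hS).1 ((hF 4 S).mp hS).2
      rw [Finset.card_eq_one]
      refine ⟨H, ?_⟩
      ext T
      simp only [Finset.mem_filter, hF, Finset.mem_singleton]
      exact ⟨fun q => hu T q, fun q => q ▸ hH⟩
    · have hc : (F 4).filter (fun S => S ⊆ T) = T.powersetCard 4 := by
        ext S
        simp only [Finset.mem_filter, hF, Finset.mem_powersetCard]
        exact ⟨fun q => ⟨q.2, q.1.1⟩, fun q => ⟨⟨q.2, hmono S T q.1 ((hF _ T).mp hT).2⟩, q.1⟩⟩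
      rw [hc, Finset.card_powersetCard, ((hF _ T).mp hT).1]
      rfl
  have hset : ∀ k, {S : Finset α | S.card = k ∧ Indep L S}.ncard = (F k).card := fun k => by
    rw [show {S : Finset α | S.card = k ∧ Indep L S} = ↑(F k) by ext S; simp [hF],
      Set.ncard_coe_finset]
  rw [hset, hset]
  omega

/-! ### points and lines relative to a hyperoval -/

theorem exists_hyperoval : ∃ H : Finset α, H.card = 6 ∧ Indep L H := by
  have := h.card_counts.2
  exact Set.nonempty_of_ncard_ne_zero (s := {H : Finset α | H.card = 6 ∧ Indep L H}) (by omega)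

/-- No line meets a hyperoval in exactly one point. -/
theorem two_of_mem {H l : Finset α} (hH6 : H.card = 6) (hH : Indep L H) (hl : l ∈ L) {x : α}
    (hxH : x ∈ H) (hxl : x ∈ l) : ∃ y ∈ H, y ≠ x ∧ l = join L x y := by
  classical
  obtain ⟨P, hP5, hP, -⟩ := h.exists_pencil x
  have hmaps : ∀ y ∈ H.erase x, join L x y ∈ P := fun y hy => by
    obtain ⟨j, sx, -⟩ := h.join_spec (Finset.ne_of_mem_erase hy).symm
    exact (hP _).mpr ⟨j, sx⟩
  obtain ⟨y, hy, e⟩ := Finset.surj_on_of_inj_on_of_card_le (fun y _ => join L x y) hmaps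
    (fun y z hy hz e => by
      by_contra hne
      have hxy := (Finset.ne_of_mem_erase hy).symm
      have hxz := (Finset.ne_of_mem_erase hz).symm
      exact h.indep_iff.mp hH x hxH y (Finset.mem_of_mem_erase hy) z (Finset.mem_of_mem_erase hz)
        hxy hxz.symm (Ne.symm hne) (e ▸ (h.join_spec hxz).2.2))
    (by rw [hP5, Finset.card_erase_of_mem hxH, hH6]) l ((hP l).mpr ⟨hl, hxl⟩)
  exact ⟨y, Finset.mem_of_mem_erase hy, Finset.ne_of_mem_erase hy, e.symm ▸ rfl⟩

/-- The partner of a point of a hyperoval as seen from an external point. -/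
theorem partner {H : Finset α} (hH6 : H.card = 6) (hH : Indep L H) {P : α} (hP : P ∉ H) {x : α}
    (hx : x ∈ H) : ∃! y, y ∈ H ∧ y ≠ x ∧ P ∈ join L x y := by
  have hxP : x ≠ P := fun e => hP (e ▸ hx)
  obtain ⟨j, sx, sP⟩ := h.join_spec hxP
  obtain ⟨y, hy, hyx, e⟩ := h.two_of_mem hH6 hH j hx sx
  refine ⟨y, ⟨hy, hyx, e ▸ sP⟩, fun z hz => ?_⟩
  obtain ⟨hzH, hzx, hPz⟩ := hz
  by_contra hzy
  have e' := h.eq_join (h.join_spec hzx.symm).1 hxP (h.join_spec hzx.symm).2.1 hPz
  exact h.indep_iff.mp hH x hx y hy z hzH hyx.symm hzx hzy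
    (e ▸ e' ▸ (h.join_spec hzx.symm).2.2)

/-- The three secants through an external point. -/
theorem secants {H : Finset α} (hH6 : H.card = 6) (hH : Indep L H) {P : α} (hP : P ∉ H) :
    ∃ a b c d g k, ({a, b, c, d, g, k} : Finset α) = H ∧ [a, b, c, d, g, k].Nodup ∧
      P ∈ join L a b ∧ P ∈ join L c d ∧ P ∈ join L g k := by
  classical
  have sym : ∀ {x y}, x ∈ H → y ∈ H → x ≠ y → P ∈ join L x y →
      ∀ z ∈ H, z ≠ x → z ≠ y → ∀ w ∈ H, w ≠ z → P ∈ join L z w → w ≠ x ∧ w ≠ y := by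
    intro x y hx hy hxy hPxy z hz hzx hzy w hw hwz hPzw
    constructor
    · rintro rfl
      exact hzy ((h.partner hH6 hH hP hx).unique
        ⟨hz, hzx, h.join_comm hwz.symm ▸ hPzw⟩ ⟨hy, hxy.symm, hPxy⟩)
    · rintro rfl
      exact hzx ((h.partner hH6 hH hP hy).unique
        ⟨hz, hzy, h.join_comm hwz.symm ▸ hPzw⟩ ⟨hx, hxy, h.join_comm hxy ▸ hPxy⟩)
  obtain ⟨a, ha⟩ := Finset.card_pos.mp (show 0 < H.card by omega)
  obtain ⟨b, ⟨hb, hba, hPab⟩, -⟩ := h.partner hH6 hH hP ha
  obtain ⟨c, hc, hca, hcb⟩ : ∃ c ∈ H, c ≠ a ∧ c ≠ b := by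
    by_contra hne
    push Not at hne
    have : H ⊆ {a, b} := fun x hx => by
      by_cases hxa : x = a
      · simp [hxa]
      · simp [hne x hx hxa]
    have := Finset.card_le_card this
    have := Finset.card_le_two (a := a) (b := b)
    omega
  obtain ⟨d, ⟨hd, hdc, hPcd⟩, -⟩ := h.partner hH6 hH hP hc
  obtain ⟨hda, hdb⟩ := sym ha hb hba.symm hPab c hc hca hcb d hd hdc hPcd
  obtain ⟨g, hg, hga, hgb, hgc, hgd⟩ : ∃ g ∈ H, g ≠ a ∧ g ≠ b ∧ g ≠ c ∧ g ≠ d := by
    by_contra hne
    push Not at hne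
    have : H ⊆ {a, b, c, d} := fun x hx => by
      by_cases hxa : x = a
      · simp [hxa]
      · by_cases hxb : x = b
        · simp [hxb]
        · by_cases hxc : x = c
          · simp [hxc]
          · simp [hne x hx hxa hxb hxc]
    have := Finset.card_le_card this
    have := Finset.card_le_four (a := a) (b := b) (c := c) (d := d)
    omega
  obtain ⟨k, ⟨hk, hkg, hPgk⟩, -⟩ := h.partner hH6 hH hP hg
  obtain ⟨hka, hkb⟩ := sym ha hb hba.symm hPab g hg hga hgb k hk hkg hPgk
  obtain ⟨hkc, hkd⟩ := sym hc hd hdc.symm hPcd g hg hgc hgd k hk hkg hPgk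
  have hnd : [a, b, c, d, g, k].Nodup := by
    simp [hba.symm, hca.symm, hcb.symm, hda.symm, hdb.symm, hdc.symm, hga.symm, hgb.symm,
      hgc.symm, hgd.symm, hka.symm, hkb.symm, hkc.symm, hkd.symm, hkg.symm]
  refine ⟨a, b, c, d, g, k, ?_, hnd, hPab, hPcd, hPgk⟩
  refine Finset.eq_of_subset_of_card_le (by simp [Finset.insert_subset_iff, ha, hb, hc, hd, hg, hk]) ?_
  rw [hH6]
  have := List.toFinset_card_of_nodup hnd
  simp at this
  omega

/-- An external point is determined by two of its secants. -/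
theorem eq_of_secants {H : Finset α} (hH : Indep L H) {a b c d : α} (ha : a ∈ H) (hb : b ∈ H)
    (hc : c ∈ H) (hd : d ∈ H) (hab : a ≠ b) (hcd : c ≠ d) (hca : c ≠ a) (hcb : c ≠ b) {P Q : α}
    (hP1 : P ∈ join L a b) (hP2 : P ∈ join L c d) (hQ1 : Q ∈ join L a b) (hQ2 : Q ∈ join L c d) :
    P = Q :=
  h.point_unique (h.join_spec hab).1 (h.join_spec hcd).1 (h.join_ne hH ha hb hc hd hab hcd hca hcb)
    hP1 hP2 hQ1 hQ2

/-- An external point lies on exactly two lines missing the hyperoval. -/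
theorem two_passants {H : Finset α} (hH6 : H.card = 6) (hH : Indep L H) {P : α} (hP : P ∉ H) :
    ∃ m m', m ≠ m' ∧ ∀ l, (l ∈ L ∧ P ∈ l ∧ ∀ x ∈ H, x ∉ l) ↔ (l = m ∨ l = m') := by
  classical
  obtain ⟨a, b, c, d, g, k, hHe, hnd, hPab, hPcd, hPgk⟩ := h.secants hH6 hH hP
  obtain ⟨Pn, hPn5, hPn, -⟩ := h.exists_pencil P
  simp only [List.nodup_cons, List.mem_cons, List.not_mem_nil, or_false, not_or, ← ne_eq] at hnd
  obtain ⟨⟨hab, hac, had, hag, hak⟩, ⟨hbc, hbd, hbg, hbk⟩, ⟨hcd, hcg, hck⟩, ⟨hdg, hdk⟩, hgk, -⟩ := hnd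
  have mema : a ∈ H := by rw [← hHe]; simp
  have memb : b ∈ H := by rw [← hHe]; simp
  have memc : c ∈ H := by rw [← hHe]; simp
  have memd : d ∈ H := by rw [← hHe]; simp
  have memg : g ∈ H := by rw [← hHe]; simp
  have memk : k ∈ H := by rw [← hHe]; simp
  have n1 : join L a b ≠ join L c d := h.join_ne hH mema memb memc memd hab hcd hac.symm hbc.symm
  have n2 : join L a b ≠ join L g k := h.join_ne hH mema memb memg memk hab hgk hag.symm hbg.symm
  have n3 : join L c d ≠ join L g k := h.join_ne hH memc memd memg memk hcd hgk hcg.symm hdg.symm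
  have hM : (Pn \ {join L a b, join L c d, join L g k}).card = 2 := by
    rw [Finset.card_sdiff_of_subset (by
      simp [Finset.insert_subset_iff, hPn, hPab, hPcd, hPgk, (h.join_spec hab).1,
        (h.join_spec hcd).1, (h.join_spec hgk).1]), hPn5]
    simp [n1, n2, n3]
  obtain ⟨m, m', hmm, hMe⟩ := Finset.card_eq_two.mp hM
  refine ⟨m, m', hmm, fun l => ?_⟩
  rw [show (l = m ∨ l = m') ↔ l ∈ Pn \ {join L a b, join L c d, join L g k} by rw [hMe]; simp]
  simp only [Finset.mem_sdiff, hPn, Finset.mem_insert, Finset.mem_singleton, not_or]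
  constructor
  · rintro ⟨hl, hPl, hno⟩
    exact ⟨⟨hl, hPl⟩, fun e => hno a mema (e ▸ (h.join_spec hab).2.1),
      fun e => hno c memc (e ▸ (h.join_spec hcd).2.1), fun e => hno g memg (e ▸ (h.join_spec hgk).2.1)⟩
  · rintro ⟨⟨hl, hPl⟩, q1, q2, q3⟩
    refine ⟨hl, hPl, fun x hx hxl => ?_⟩
    have hxP : x ≠ P := fun e => hP (e ▸ hx)
    rw [← hHe] at hx
    simp only [Finset.mem_insert, Finset.mem_singleton] at hx
    rcases hx with rfl | rfl | rfl | rfl | rfl | rfl
    · exact q1 (h.line_unique hl (h.join_spec hab).1 hxP hxl hPl (h.join_spec hab).2.1 hPab)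
    · exact q1 (h.line_unique hl (h.join_spec hab).1 hxP hxl hPl (h.join_spec hab).2.2 hPab)
    · exact q2 (h.line_unique hl (h.join_spec hcd).1 hxP hxl hPl (h.join_spec hcd).2.1 hPcd)
    · exact q2 (h.line_unique hl (h.join_spec hcd).1 hxP hxl hPl (h.join_spec hcd).2.2 hPcd)
    · exact q3 (h.line_unique hl (h.join_spec hgk).1 hxP hxl hPl (h.join_spec hgk).2.1 hPgk)
    · exact q3 (h.line_unique hl (h.join_spec hgk).1 hxP hxl hPl (h.join_spec hgk).2.2 hPgk)

/-- More than three external points, any two on a common passant, lie on one passant. -/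
theorem common_passant {H : Finset α} (hH6 : H.card = 6) (hH : Indep L H) {T : Finset α}
    (hT : ∀ P ∈ T, P ∉ H) (hT4 : 4 ≤ T.card)
    (hpair : ∀ P ∈ T, ∀ Q ∈ T, P ≠ Q → ∀ x ∈ H, x ∉ join L P Q) :
    ∃ l ∈ L, T ⊆ l := by
  obtain ⟨P, hPT⟩ := Finset.card_pos.mp (show 0 < T.card by omega)
  obtain ⟨m, m', hmm, hm⟩ := h.two_passants hH6 hH (hT P hPT)
  obtain ⟨hmL, hPm, hmH⟩ := (hm m).mpr (Or.inl rfl)
  obtain ⟨hm'L, hPm', hm'H⟩ := (hm m').mpr (Or.inr rfl)
  have hin : ∀ Q ∈ T, Q ∈ m ∨ Q ∈ m' := by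
    intro Q hQ
    by_cases e : P = Q
    · subst e; exact Or.inl hPm
    · obtain ⟨j, jP, jQ⟩ := h.join_spec e
      rcases (hm _).mp ⟨j, jP, hpair P hPT Q hQ e⟩ with e' | e'
      · exact Or.inl (e' ▸ jQ)
      · exact Or.inr (e' ▸ jQ)
  by_contra hne
  push Not at hne
  obtain ⟨R, hRT, hRm'⟩ := Finset.not_subset.mp (hne m' hm'L)
  obtain ⟨S, hST, hSm⟩ := Finset.not_subset.mp (hne m hmL)
  have hRm : R ∈ m := (hin R hRT).resolve_right hRm'
  have hSm' : S ∈ m' := (hin S hST).resolve_left hSm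
  have hRS : R ≠ S := fun e => hSm (e ▸ hRm)
  obtain ⟨n, nR, nS⟩ := h.join_spec hRS
  set ln := join L R S with hln
  have hnH : ∀ x ∈ H, x ∉ ln := hpair R hRT S hST hRS
  have nm : ln ≠ m := fun e => hSm (e ▸ nS)
  have nm' : ln ≠ m' := fun e => hRm' (e ▸ nR)
  have hall : T ⊆ {P, R, S} := by
    intro Q hQ
    simp only [Finset.mem_insert, Finset.mem_singleton]
    by_contra hQn
    push Not at hQn
    obtain ⟨hQP, hQR, hQS⟩ := hQn
    rcases hin Q hQ with hQm | hQm'
    · obtain ⟨j, jS, jQ⟩ := h.join_spec hQS.symm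
      obtain ⟨s1, s2, hs12, hs⟩ := h.two_passants hH6 hH (hT S hST)
      have a1 := (hs m').mp ⟨hm'L, hSm', hm'H⟩
      have a2 := (hs ln).mp ⟨n, nS, hnH⟩
      have a3 := (hs _).mp ⟨j, jS, hpair S hST Q hQ hQS.symm⟩
      have a4 : join L S Q = m' ∨ join L S Q = ln := by
        rcases a1 with a1 | a1 <;> rcases a2 with a2 | a2 <;> rcases a3 with a3 | a3 <;>
          first
            | exact Or.inl (a3.trans a1.symm)
            | exact Or.inr (a3.trans a2.symm)
            | exact absurd (a2.trans a1.symm) nm'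
      rcases a4 with e | e
      · exact hQP (h.point_unique hmL hm'L hmm hQm (e ▸ jQ) hPm hPm')
      · exact hQR (h.point_unique hmL n nm.symm hQm (e ▸ jQ) hRm nR)
    · obtain ⟨j, jR, jQ⟩ := h.join_spec hQR.symm
      obtain ⟨s1, s2, hs12, hs⟩ := h.two_passants hH6 hH (hT R hRT)
      have a1 := (hs m).mp ⟨hmL, hRm, hmH⟩
      have a2 := (hs ln).mp ⟨n, nR, hnH⟩
      have a3 := (hs _).mp ⟨j, jR, hpair R hRT Q hQ hQR.symm⟩
      have a4 : join L R Q = m ∨ join L R Q = ln := by
        rcases a1 with a1 | a1 <;> rcases a2 with a2 | a2 <;> rcases a3 with a3 | a3 <;>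
          first
            | exact Or.inl (a3.trans a1.symm)
            | exact Or.inr (a3.trans a2.symm)
            | exact absurd (a2.trans a1.symm) nm
      rcases a4 with e | e
      · exact hQP (h.point_unique hmL hm'L hmm (e ▸ jQ) hQm' hPm hPm')
      · exact hQS (h.point_unique hm'L n nm'.symm hQm' (e ▸ jQ) hSm' nS)
  have := Finset.card_le_card hall
  have := Finset.card_le_three (a := P) (b := R) (c := S)
  omega

end IsPlaneFour

/-- A bijection between hyperovals of two planes of order 4 extends to exactly one isomorphism. -/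
theorem existsUnique_extension {β : Type*} [Fintype β] [DecidableEq β] {L : Set (Finset α)}
    {L' : Set (Finset β)} (h : IsPlaneFour L) (h' : IsPlaneFour L') {H : Finset α} {H' : Finset β}
    (hH6 : H.card = 6) (hH : Indep L H) (hH6' : H'.card = 6) (hH' : Indep L' H') (e : ↥H ≃ ↥H') :
    ∃! g : α ≃ β, (fun l : Finset α => l.image g) '' L = L' ∧ ∀ p : ↥H, g p = e p := by
  classical
  let f : α → β → Prop := fun P Q => if hP : P ∈ H then Q = e ⟨P, hP⟩ else
    (Q ∉ H' ∧ ∀ a b : ↥H, a ≠ b → P ∈ join L a b → Q ∈ join L' (e a) (e b))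
  have heU : ∀ (a b : ↥H), a ≠ b → ((e a : β)) ≠ e b :=
    fun a b hab e' => hab (e.injective (Subtype.ext e'))
  -- existence and uniqueness of the image of an external point
  have himg : ∀ P, P ∉ H → ∃! Q, Q ∉ H' ∧
      ∀ a b : ↥H, a ≠ b → P ∈ join L a b → Q ∈ join L' (e a) (e b) := by
    intro P hP
    obtain ⟨a, b, c, d, g, k, hHe, hnd, hPab, hPcd, hPgk⟩ := h.secants hH6 hH hP
    simp only [List.nodup_cons, List.mem_cons, List.not_mem_nil, or_false, not_or, ← ne_eq] at hnd
    obtain ⟨⟨hab, hac, had, hag, hak⟩, ⟨hbc, hbd, hbg, hbk⟩, ⟨hcd, hcg, hck⟩, ⟨hdg, hdk⟩, hgk, -⟩ := hnd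
    obtain ⟨A, rfl⟩ : ∃ A : ↥H, (A : α) = a := ⟨⟨a, by rw [← hHe]; simp⟩, rfl⟩
    obtain ⟨B, rfl⟩ : ∃ A : ↥H, (A : α) = b := ⟨⟨b, by rw [← hHe]; simp⟩, rfl⟩
    obtain ⟨C, rfl⟩ : ∃ A : ↥H, (A : α) = c := ⟨⟨c, by rw [← hHe]; simp⟩, rfl⟩
    obtain ⟨D, rfl⟩ : ∃ A : ↥H, (A : α) = d := ⟨⟨d, by rw [← hHe]; simp⟩, rfl⟩
    obtain ⟨U, rfl⟩ : ∃ A : ↥H, (A : α) = g := ⟨⟨g, by rw [← hHe]; simp⟩, rfl⟩
    obtain ⟨V, rfl⟩ : ∃ A : ↥H, (A : α) = k := ⟨⟨k, by rw [← hHe]; simp⟩, rfl⟩
    have hne : ∀ {x y : ↥H}, (x : α) ≠ y → (e x : β) ≠ e y :=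
      fun hxy => heU _ _ (fun q => hxy (congrArg Subtype.val q))
    obtain ⟨l1, l1a, l1b⟩ := h'.join_spec (hne hab)
    obtain ⟨l2, l2c, l2d⟩ := h'.join_spec (hne hcd)
    obtain ⟨Q, hQ1, hQ2⟩ := h'.meet l1 l2
    have key' := h'.indep_iff.mp hH'
    have hQH : Q ∉ H' := by
      intro hQ
      have q1 : Q = e A ∨ Q = e B := by
        by_contra q; push Not at q
        exact key' _ (e A).2 _ (e B).2 Q hQ (hne hab) q.1 q.2 hQ1
      have q2 : Q = e C ∨ Q = e D := by
        by_contra q; push Not at q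
        exact key' _ (e C).2 _ (e D).2 Q hQ (hne hcd) q.1 q.2 hQ2
      rcases q1 with rfl | rfl <;> rcases q2 with q | q
      · exact hne hac q
      · exact hne had q
      · exact hne hbc q
      · exact hne hbd q
    have hQ3 : Q ∈ join L' (e U) (e V) := by
      obtain ⟨w, ⟨hw, hwU, hwQ⟩, -⟩ := h'.partner hH6' hH' hQH (e U).2
      obtain ⟨W, hW⟩ : ∃ W : ↥H, (e W : β) = w := ⟨e.symm ⟨w, hw⟩, by simp⟩
      subst hW
      have notAB : ∀ {x y : ↥H}, (x : α) ≠ y → Q ∈ join L' (e x) (e y) →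
          (U : α) ≠ y → W ≠ x := by
        intro x y hxy hQxy hUy hWx
        subst hWx
        apply hne hUy
        exact (h'.partner hH6' hH' hQH (e W).2).unique
          ⟨(e U).2, hwU.symm, h'.join_comm hwU.symm ▸ hwQ⟩ ⟨(e y).2, hne hxy.symm, hQxy⟩
      have n1 := notAB hab hQ1 hbg.symm
      have n2 := notAB hab.symm (h'.join_comm (hne hab) ▸ hQ1) hag.symm
      have n3 := notAB hcd hQ2 hdg.symm
      have n4 := notAB hcd.symm (h'.join_comm (hne hcd) ▸ hQ2) hcg.symm
      have n5 : W ≠ U := fun q => hwU (q ▸ rfl)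
      have hWm : (W : α) ∈ ({(A : α), ↑B, ↑C, ↑D, ↑U, ↑V} : Finset α) := hHe.symm ▸ W.2
      simp only [Finset.mem_insert, Finset.mem_singleton, ← Subtype.ext_iff] at hWm
      rcases hWm with rfl | rfl | rfl | rfl | rfl | rfl
      · exact absurd rfl n1
      · exact absurd rfl n2
      · exact absurd rfl n3
      · exact absurd rfl n4
      · exact absurd rfl n5
      · exact hwQ
    refine ⟨Q, ⟨hQH, ?_⟩, fun R hR => ?_⟩
    · intro x y hxy hPxy
      have hxy' : (x : α) ≠ y := fun q => hxy (Subtype.ext q)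
      have hu : ∀ {z : α}, (z ∈ H ∧ z ≠ x ∧ P ∈ join L x z) → (y : α) = z :=
        fun hz => (h.partner hH6 hH hP x.2).unique ⟨y.2, hxy'.symm, hPxy⟩ hz
      have hxm : (x : α) ∈ ({(A : α), ↑B, ↑C, ↑D, ↑U, ↑V} : Finset α) := hHe.symm ▸ x.2
      simp only [Finset.mem_insert, Finset.mem_singleton, ← Subtype.ext_iff] at hxm
      rcases hxm with rfl | rfl | rfl | rfl | rfl | rfl
      · rw [Subtype.ext (hu ⟨B.2, Ne.symm hab, hPab⟩)]; exact hQ1
      · rw [Subtype.ext (hu ⟨A.2, hab, h.join_comm hab ▸ hPab⟩)]; exact h'.join_comm (hne hab) ▸ hQ1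
      · rw [Subtype.ext (hu ⟨D.2, Ne.symm hcd, hPcd⟩)]; exact hQ2
      · rw [Subtype.ext (hu ⟨C.2, hcd, h.join_comm hcd ▸ hPcd⟩)]; exact h'.join_comm (hne hcd) ▸ hQ2
      · rw [Subtype.ext (hu ⟨V.2, Ne.symm hgk, hPgk⟩)]; exact hQ3
      · rw [Subtype.ext (hu ⟨U.2, hgk, h.join_comm hgk ▸ hPgk⟩)]; exact h'.join_comm (hne hgk) ▸ hQ3
    · exact h'.eq_of_secants hH' (e A).2 (e B).2 (e C).2 (e D).2 (hne hab) (hne hcd) (hne hac.symm)
        (hne hbc.symm) (hR.2 A B (fun q => hab (congrArg Subtype.val q)) hPab)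
        (hR.2 C D (fun q => hcd (congrArg Subtype.val q)) hPcd) hQ1 hQ2
  have hex : ∀ P, ∃! Q, f P Q := by
    intro P
    by_cases hP : P ∈ H
    · simp only [f, dif_pos hP]; exact ⟨_, rfl, fun _ q => q⟩
    · simp only [f, dif_neg hP]; exact himg P hP
  choose g hg hgu using hex
  have gH : ∀ p : ↥H, g p = e p := fun p => by
    have := hg p; simp only [f, dif_pos p.2] at this; exact this
  have gX : ∀ P, P ∉ H → g P ∉ H' ∧
      ∀ a b : ↥H, a ≠ b → P ∈ join L a b → g P ∈ join L' (e a) (e b) := fun P hP => by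
    have := hg P; simp only [f, dif_neg hP] at this; exact this
  -- secants are preserved
  have gsec : ∀ (a b : ↥H), a ≠ b → ∀ P ∈ join L a b, g P ∈ join L' (e a) (e b) := by
    intro a b hab P hP
    obtain ⟨-, sa, sb⟩ := h'.join_spec (heU a b hab)
    by_cases hPH : P ∈ H
    · have : P = a ∨ P = b := by
        by_contra q; push Not at q
        exact h.indep_iff.mp hH a a.2 b b.2 P hPH (fun q => hab (Subtype.ext q)) q.1 q.2 hP
      rcases this with rfl | rfl <;> rw [gH] <;> assumption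
    · exact (gX P hPH).2 a b hab hP
  -- and reflected
  have gsec' : ∀ P, P ∉ H → ∀ a b : ↥H, a ≠ b → g P ∈ join L' (e a) (e b) → P ∈ join L a b := by
    intro P hP a b hab hgP
    obtain ⟨y, ⟨hy, hya, hPy⟩, -⟩ := h.partner hH6 hH hP a.2
    have hay : a ≠ ⟨y, hy⟩ := fun q => hya (congrArg Subtype.val q).symm
    have := (h'.partner hH6' hH' (gX P hP).1 (e a).2).unique
      ⟨(e ⟨y, hy⟩).2, (heU _ _ hay).symm, (gX P hP).2 a ⟨y, hy⟩ hay hPy⟩
      ⟨(e b).2, (heU a b hab).symm, hgP⟩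
    rw [← e.injective (Subtype.ext this)]
    exact hPy
  have ginj : Function.Injective g := by
    intro P Q hPQ
    by_cases hP : P ∈ H
    · by_cases hQ : Q ∈ H
      · have := gH ⟨P, hP⟩
        rw [hPQ, gH ⟨Q, hQ⟩] at this
        exact (congrArg Subtype.val (e.injective (Subtype.ext this))).symm
      · exact absurd (hPQ ▸ (gH ⟨P, hP⟩).symm ▸ (e ⟨P, hP⟩).2) (gX Q hQ).1
    · by_cases hQ : Q ∈ H
      · exact absurd (hPQ.symm ▸ (gH ⟨Q, hQ⟩).symm ▸ (e ⟨Q, hQ⟩).2) (gX P hP).1
      · obtain ⟨a, b, c, d, x, k, hHe, hnd, hPab, hPcd, -⟩ := h.secants hH6 hH hP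
        simp only [List.nodup_cons, List.mem_cons, List.not_mem_nil, or_false, not_or, ← ne_eq] at hnd
        obtain ⟨⟨hab, hac, had, hax, hak⟩, ⟨hbc, hbd, hbx, hbk⟩, ⟨hcd, hcx, hck⟩, -, -⟩ := hnd
        have ma : a ∈ H := by rw [← hHe]; simp
        have mb : b ∈ H := by rw [← hHe]; simp
        have mc : c ∈ H := by rw [← hHe]; simp
        have md : d ∈ H := by rw [← hHe]; simp
        have nab : (⟨a, ma⟩ : ↥H) ≠ ⟨b, mb⟩ := fun q => hab (congrArg Subtype.val q)
        have ncd : (⟨c, mc⟩ : ↥H) ≠ ⟨d, md⟩ := fun q => hcd (congrArg Subtype.val q)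
        exact h.eq_of_secants hH ma mb mc md hab hcd hac.symm hbc.symm hPab hPcd
          (gsec' Q hQ ⟨a, ma⟩ ⟨b, mb⟩ nab (hPQ ▸ gsec _ _ nab P hPab))
          (gsec' Q hQ ⟨c, mc⟩ ⟨d, md⟩ ncd (hPQ ▸ gsec _ _ ncd P hPcd))
  have gbij : Function.Bijective g := by
    rw [Fintype.bijective_iff_injective_and_card]
    exact ⟨ginj, h.card_pts.trans h'.card_pts.symm⟩
  let gE : α ≃ β := Equiv.ofBijective g gbij
  have hgE : ∀ P, gE P = g P := fun P => rfl
  have hline : ∀ l ∈ L, l.image gE ∈ L' := by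
    intro l hl
    have hc : (l.image gE).card = 5 := by
      rw [Finset.card_image_of_injective _ gE.injective, h.line_card hl]
    suffices ∃ l' ∈ L', l.image gE ⊆ l' by
      obtain ⟨l', hl', hsub⟩ := this
      rwa [Finset.eq_of_subset_of_card_le hsub (by rw [hc, h'.line_card hl'])]
    by_cases hx : ∃ x ∈ H, x ∈ l
    · obtain ⟨x, hxH, hxl⟩ := hx
      obtain ⟨y, hy, hyx, rfl⟩ := h.two_of_mem hH6 hH hl hxH hxl
      have hxy : (⟨x, hxH⟩ : ↥H) ≠ ⟨y, hy⟩ := fun q => hyx (congrArg Subtype.val q).symm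
      refine ⟨join L' (e ⟨x, hxH⟩) (e ⟨y, hy⟩), (h'.join_spec (heU _ _ hxy)).1, ?_⟩
      intro Q hQ
      obtain ⟨P, hP, rfl⟩ := Finset.mem_image.mp hQ
      exact gsec _ _ hxy P hP
    · push Not at hx
      apply h'.common_passant hH6' hH'
      · intro Q hQ
        obtain ⟨P, hP, rfl⟩ := Finset.mem_image.mp hQ
        exact (gX P (fun q => hx P q hP)).1
      · omega
      · intro Q hQ R hR hQR z hz hzl
        obtain ⟨P, hP, rfl⟩ := Finset.mem_image.mp hQ
        obtain ⟨P2, hP2, rfl⟩ := Finset.mem_image.mp hR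
        obtain ⟨j, jP, jP2⟩ := h'.join_spec hQR
        obtain ⟨w, hw, hwz, hj⟩ := h'.two_of_mem hH6' hH' j hz hzl
        obtain ⟨A, hA⟩ : ∃ A : ↥H, (e A : β) = z := ⟨e.symm ⟨z, hz⟩, by simp⟩
        obtain ⟨B, hB⟩ : ∃ A : ↥H, (e A : β) = w := ⟨e.symm ⟨w, hw⟩, by simp⟩
        subst hA hB
        have hAB : A ≠ B := fun q => hwz (by rw [q])
        rw [hj] at jP jP2
        have q1 := gsec' P (fun q => hx P q hP) A B hAB jP
        have q2 := gsec' P2 (fun q => hx P2 q hP2) A B hAB jP2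
        have hABv : (A : α) ≠ B := fun q => hAB (Subtype.ext q)
        have hPP : P ≠ P2 := fun q => hQR (by rw [q])
        exact hx A A.2 (h.line_unique hl (h.join_spec hABv).1 hPP hP hP2 q1 q2 ▸
          (h.join_spec hABv).2.1)
  refine ⟨gE, ⟨?_, gH⟩, ?_⟩
  · apply Set.Subset.antisymm
    · rintro _ ⟨l, hl, rfl⟩; exact hline l hl
    · intro l' hl'
      obtain ⟨x, hx, y, hy, hxy⟩ := Finset.one_lt_card.mp
        (show 1 < l'.card by rw [h'.line_card hl']; omega)
      obtain ⟨p, rfl⟩ := gE.surjective x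
      obtain ⟨q, rfl⟩ := gE.surjective y
      obtain ⟨j, jp, jq⟩ := h.join_spec (show p ≠ q from fun e' => hxy (by rw [e']))
      exact ⟨_, j, h'.line_unique (hline _ j) hl' hxy (Finset.mem_image_of_mem _ jp)
        (Finset.mem_image_of_mem _ jq) hx hy⟩
  · rintro g' ⟨hg'L, hg'H⟩
    apply Equiv.ext
    intro P
    by_cases hP : P ∈ H
    · rw [hgE, gH ⟨P, hP⟩]; exact hg'H ⟨P, hP⟩
    · refine hgu P (g' P) ?_
      simp only [f, dif_neg hP]
      refine ⟨fun hQ => ?_, fun a b hab hPab => ?_⟩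
      · obtain ⟨A, hA⟩ : ∃ A : ↥H, (e A : β) = g' P := ⟨e.symm ⟨_, hQ⟩, by simp⟩
        rw [← hg'H A] at hA
        exact hP (g'.injective hA ▸ A.2)
      · obtain ⟨j, ja, jb⟩ := h.join_spec (fun q => hab (Subtype.ext q) : (a : α) ≠ b)
        have hmem : (join L (a : α) b).image g' ∈ L' := hg'L ▸ ⟨_, j, rfl⟩
        rw [← h'.eq_join hmem (heU a b hab) (hg'H a ▸ Finset.mem_image_of_mem _ ja)
          (hg'H b ▸ Finset.mem_image_of_mem _ jb)]
        exact Finset.mem_image_of_mem _ hPab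

end CfsgLib.ExtraspecialLarge
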