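import Mathlib
import Cfsg.Prelude.Def_Transfer
import Cfsg.Prelude.Def_Solvable
import Cfsg.Agent.Lib.Fischer2.LargeExtraspecial
import Cfsg.Agent.Lib.Cores.PCore

/-!
An extraspecial 2-subgroup `Q` with central involution `u`, containing its centraliser and
normal in the centraliser of `u`: commutator pairing, double centraliser, symmetry of orthogonality.
-/

set_option autoImplicit false

namespace CfsgLib.ExtraspecialLarge

open Cfsg

variable {G : Type*} [Group G]

/-- `Q` is a large extraspecial-like subgroup with central involution `u` (elementary form). -/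
structure Good (Q : Subgroup G) (u : G) : Prop where
  mem : u ∈ Q
  ne_one : u ≠ 1
  sq_u : u * u = 1
  comm : ∀ q ∈ Q, q * u = u * q
  cases_conj : ∀ q ∈ Q, ∀ r ∈ Q, q * r * q⁻¹ = r ∨ q * r * q⁻¹ = u * r
  center : ∀ r ∈ Q, (∀ q ∈ Q, q * r = r * q) → r = 1 ∨ r = u
  sq : ∀ q ∈ Q, q * q = 1 ∨ q * q = u
  cen : ∀ g : G, (∀ q ∈ Q, g * q = q * g) → g ∈ Q
  norm : ∀ g : G, g * u = u * g → ∀ q ∈ Q, g * q * g⁻¹ ∈ Q

namespace Good

variable {Q : Subgroup G} {u : G} (h : Good Q u)
include h

theorem conjugate (g : G) : Good (Q.map (MulAut.conj g).toMonoidHom) (g * u * g⁻¹) := by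
  have hm : ∀ {r : G}, r ∈ Q.map (MulAut.conj g).toMonoidHom ↔ g⁻¹ * r * g ∈ Q := by
    intro r
    rw [Subgroup.mem_map_equiv]
    simp [MulAut.conj_symm_apply]
  have hb : ∀ r : G, r = g * (g⁻¹ * r * g) * g⁻¹ := fun r => by group
  refine ⟨hm.mpr (by group; exact h.mem), ?_, ?_, ?_, ?_, ?_, ?_, ?_, ?_⟩
  · simpa using h.ne_one
  · calc g * u * g⁻¹ * (g * u * g⁻¹) = g * (u * u) * g⁻¹ := by group
      _ = 1 := by rw [h.sq_u]; group
  · intro q hq
    have := h.comm _ (hm.mp hq)
    calc q * (g * u * g⁻¹) = g * ((g⁻¹ * q * g) * u) * g⁻¹ := by group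
      _ = g * (u * (g⁻¹ * q * g)) * g⁻¹ := by rw [this]
      _ = g * u * g⁻¹ * q := by group
  · intro q hq r hr
    rcases h.cases_conj _ (hm.mp hq) _ (hm.mp hr) with e | e
    · left
      calc q * r * q⁻¹ = g * ((g⁻¹ * q * g) * (g⁻¹ * r * g) * (g⁻¹ * q * g)⁻¹) * g⁻¹ := by group
        _ = g * (g⁻¹ * r * g) * g⁻¹ := by rw [e]
        _ = r := by group
    · right
      calc q * r * q⁻¹ = g * ((g⁻¹ * q * g) * (g⁻¹ * r * g) * (g⁻¹ * q * g)⁻¹) * g⁻¹ := by group
        _ = g * (u * (g⁻¹ * r * g)) * g⁻¹ := by rw [e]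
        _ = g * u * g⁻¹ * r := by group
  · intro r hr hc
    rcases h.center _ (hm.mp hr) (fun q hq => by
      have := hc (g * q * g⁻¹) (hm.mpr (by group; exact hq))
      calc q * (g⁻¹ * r * g) = g⁻¹ * (g * q * g⁻¹ * r) * g := by group
        _ = g⁻¹ * (r * (g * q * g⁻¹)) * g := by rw [this]
        _ = g⁻¹ * r * g * q := by group) with e | e
    · left; rw [hb r, e]; group
    · right; rw [hb r, e]
  · intro q hq
    rcases h.sq _ (hm.mp hq) with e | e
    · left
      calc q * q = g * ((g⁻¹ * q * g) * (g⁻¹ * q * g)) * g⁻¹ := by group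
        _ = 1 := by rw [e]; group
    · right
      calc q * q = g * ((g⁻¹ * q * g) * (g⁻¹ * q * g)) * g⁻¹ := by group
        _ = _ := by rw [e]
  · intro a ha
    refine hm.mpr (h.cen _ fun q hq => ?_)
    have := ha (g * q * g⁻¹) (hm.mpr (by group; exact hq))
    calc g⁻¹ * a * g * q = g⁻¹ * (a * (g * q * g⁻¹)) * g := by group
      _ = g⁻¹ * (g * q * g⁻¹ * a) * g := by rw [this]
      _ = q * (g⁻¹ * a * g) := by group
  · intro a ha q hq
    refine hm.mpr ?_
    have hc : (g⁻¹ * a * g) * u = u * (g⁻¹ * a * g) := by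
      calc (g⁻¹ * a * g) * u = g⁻¹ * (a * (g * u * g⁻¹)) * g := by group
        _ = g⁻¹ * (g * u * g⁻¹ * a) * g := by rw [ha]
        _ = _ := by group
    have := h.norm _ hc _ (hm.mp hq)
    rw [show g⁻¹ * (a * q * a⁻¹) * g
      = (g⁻¹ * a * g) * (g⁻¹ * q * g) * (g⁻¹ * a * g)⁻¹ by group]
    exact this

theorem flip_mul {r p a : G} (hr : r ∈ Q) (hp : p ∈ Q)
    (hra : r * a * r⁻¹ = u * a) (hpa : p * a * p⁻¹ = u * a) : (r * p) * a = a * (r * p) := by
  rw [← mul_inv_eq_iff_eq_mul]
  calc r * p * a * (r * p)⁻¹ = r * (p * a * p⁻¹) * r⁻¹ := by group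
    _ = (r * u) * a * r⁻¹ := by rw [hpa]; group
    _ = u * (r * a * r⁻¹) := by rw [h.comm r hr]; group
    _ = a := by rw [hra, ← mul_assoc, h.sq_u, one_mul]

theorem flip_of_not_comm {q r : G} (hq : q ∈ Q) (hr : r ∈ Q) (hne : q * r ≠ r * q) :
    q * r * q⁻¹ = u * r := by
  rcases h.cases_conj q hq r hr with e | e
  · exact absurd (mul_inv_eq_iff_eq_mul.mp e) hne
  · exact e

theorem not_comm_of_flip {q r : G} (e : q * r * q⁻¹ = u * r) : q * r ≠ r * q := by
  intro e'
  rw [← mul_inv_eq_iff_eq_mul] at e'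
  rw [e'] at e
  exact h.ne_one (right_eq_mul.mp e)

/-- One step of the double centraliser argument. -/
theorem step (P : G → Prop) (hP : ∀ r p, P r → P p → P (r * p)) {a x : G} (ha : a ∈ Q) (hx : x ∈ Q)
    (hc : ∀ q ∈ Q, P q → q * a = a * q → q * x = x * q) :
    (∀ q ∈ Q, P q → q * x = x * q) ∨ (∀ q ∈ Q, P q → q * (a * x) = (a * x) * q) := by
  by_cases hall : ∀ q ∈ Q, P q → q * x = x * q
  · exact Or.inl hall
  right
  push Not at hall
  obtain ⟨p, hp, hpP, hpx⟩ := hall
  intro r hr hrP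
  by_cases hra : r * a = a * r
  · rw [← mul_assoc, hra, mul_assoc, hc r hr hrP hra, mul_assoc]
  · have era := h.flip_of_not_comm hr ha hra
    have epa := h.flip_of_not_comm hp ha (fun e => hpx (hc p hp hpP e))
    have hrp := hc _ (Q.mul_mem hr hp) (hP r p hrP hpP) (h.flip_mul hr hp era epa)
    have erx : r * x * r⁻¹ = u * x := by
      refine h.flip_of_not_comm hr hx (fun e => hpx ?_)
      rw [mul_assoc] at hrp
      have : r * (p * x) = r * (x * p) := by rw [hrp, ← mul_assoc, ← e, mul_assoc]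
      exact mul_left_cancel this
    rw [← mul_inv_eq_iff_eq_mul]
    calc r * (a * x) * r⁻¹ = (r * a * r⁻¹) * (r * x * r⁻¹) := by group
      _ = u * (a * u) * x := by rw [era, erx]; group
      _ = a * x := by rw [h.comm a ha, ← mul_assoc, h.sq_u, one_mul]

theorem double_centralizer (L : List G) : (∀ a ∈ L, a ∈ Q) → ∀ x ∈ Q,
    (∀ q ∈ Q, (∀ a ∈ L, q * a = a * q) → q * x = x * q) →
    x ∈ Subgroup.closure ({a | a ∈ L} ∪ {u}) := by
  induction L with
  | nil =>
    intro _ x hx hc
    rcases h.center x hx (fun q hq => hc q hq (by simp)) with rfl | rfl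
    · exact Subgroup.one_mem _
    · exact Subgroup.subset_closure (Or.inr rfl)
  | cons a L ih =>
    intro hL x hx hc
    have haQ : a ∈ Q := hL a (by simp)
    have hsub : Subgroup.closure ({b | b ∈ L} ∪ {u}) ≤ Subgroup.closure ({b | b ∈ a :: L} ∪ {u}) := by
      apply Subgroup.closure_mono
      rintro b (hb | hb)
      · exact Or.inl (by simp [show b ∈ L from hb])
      · exact Or.inr hb
    have hL' : ∀ b ∈ L, b ∈ Q := fun b hb => hL b (by simp [hb])
    have hP : ∀ r p, (∀ b ∈ L, r * b = b * r) → (∀ b ∈ L, p * b = b * p) →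
        ∀ b ∈ L, (r * p) * b = b * (r * p) := fun r p hr hp b hb => by
      rw [mul_assoc, hp b hb, ← mul_assoc, hr b hb, mul_assoc]
    rcases h.step (fun q => ∀ b ∈ L, q * b = b * q) hP haQ hx
        (fun q hq hqL hqa => hc q hq (fun b hb => by
          rcases List.mem_cons.mp hb with rfl | hb
          · exact hqa
          · exact hqL b hb)) with hcase | hcase
    · exact hsub (ih hL' x hx hcase)
    · have := hsub (ih hL' (a * x) (Q.mul_mem haQ hx) hcase)
      have ha : a ∈ Subgroup.closure ({b | b ∈ a :: L} ∪ {u}) :=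
        Subgroup.subset_closure (Or.inl (by simp))
      simpa using Subgroup.mul_mem _ (Subgroup.inv_mem _ ha) this

/-- If `x` is outside a subgroup `U` of `Q` containing `u`, some element of `Q` centralises `U`
and conjugates `x` to `u x`. -/
theorem exists_flip [Finite G] {U : Subgroup G} (hU : U ≤ Q) (hu : u ∈ U) {x : G} (hx : x ∈ Q)
    (hxU : x ∉ U) : ∃ q ∈ Q, (∀ a ∈ U, q * a = a * q) ∧ q * x * q⁻¹ = u * x := by
  classical
  by_contra hne
  push Not at hne
  apply hxU
  have hfin : (U : Set G).Finite := Set.toFinite _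
  have hmem : ∀ a, a ∈ hfin.toFinset.toList ↔ a ∈ U := fun a => by simp
  have := h.double_centralizer hfin.toFinset.toList (fun a ha => hU ((hmem a).mp ha)) x hx
    (fun q hq hqL => by
      by_contra e
      exact hne q hq (fun a ha => hqL a ((hmem a).mpr ha)) (h.flip_of_not_comm hq hx e))
  refine (Subgroup.closure_le U).mpr ?_ this
  rintro a (ha | ha)
  · exact (hmem a).mp ha
  · rw [Set.mem_singleton_iff] at ha; subst ha; exact hu

end Good

/-- Symmetry of orthogonality for two conjugate central involutions. -/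
theorem Good.symm {Q X : Subgroup G} {z x : G} (hQ : Good Q z) (hX : Good X x) (hxQ : x ∈ Q)
    (hQX : ∀ s : G, s * z * s⁻¹ = x → ∀ q ∈ Q, s * q * s⁻¹ ∈ X) : z ∈ X := by
  by_cases hxz : x = z
  · subst hxz
    simpa using hQX 1 (by group) x hxQ
  have hcxz : x * z = z * x := hQ.comm x hxQ
  obtain ⟨q2, hq2, eq2⟩ : ∃ q ∈ Q, q * x * q⁻¹ = z * x := by
    by_contra hne
    push Not at hne
    rcases hQ.center x hxQ (fun q hq => by
      rcases hQ.cases_conj q hq x hxQ with e | e
      · exact mul_inv_eq_iff_eq_mul.mp e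
      · exact absurd e (hne q hq)) with e | e
    · exact hX.ne_one e
    · exact hxz e
  have hq2z : q2 * z * q2⁻¹ = z := mul_inv_eq_iff_eq_mul.mpr (hQ.comm q2 hq2)
  by_cases hA : ∃ q ∈ X, q * z * q⁻¹ = x * z
  · -- a symmetric group of degree three on z, x, xz
    obtain ⟨q, hq, eq⟩ := hA
    have hqx : q * x * q⁻¹ = x := mul_inv_eq_iff_eq_mul.mpr (hX.comm q hq)
    have s1 : (q * q2 * q) * z * (q * q2 * q)⁻¹ = x := by
      calc (q * q2 * q) * z * (q * q2 * q)⁻¹
          = q * (q2 * (q * z * q⁻¹) * q2⁻¹) * q⁻¹ := by group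
        _ = q * ((q2 * x * q2⁻¹) * (q2 * z * q2⁻¹)) * q⁻¹ := by rw [eq]; group
        _ = q * (z * z * x) * q⁻¹ := by rw [eq2, hq2z, mul_assoc z x z, hcxz, ← mul_assoc z z x]
        _ = x := by rw [hQ.sq_u, one_mul, hqx]
    have s2 : (q * q2 * q) * x * (q * q2 * q)⁻¹ = z := by
      calc (q * q2 * q) * x * (q * q2 * q)⁻¹
          = q * (q2 * (q * x * q⁻¹) * q2⁻¹) * q⁻¹ := by group
        _ = q * (z * x) * q⁻¹ := by rw [hqx, eq2]
        _ = (q * z * q⁻¹) * (q * x * q⁻¹) := by group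
        _ = x * (z * x) := by rw [eq, hqx, mul_assoc]
        _ = z := by rw [← hcxz, ← mul_assoc, hX.sq_u, one_mul]
    rw [← s2]
    exact hQX _ s1 x hxQ
  push Not at hA
  by_contra hzX
  -- elements of Q ∩ X
  have hint : ∀ r, r ∈ Q → r ∈ X → r = 1 ∨ r = x := by
    intro r hrQ hrX
    have hcE : ∀ e ∈ Q, e * x = x * e → e * r = r * e := by
      intro e he hex
      rcases hQ.cases_conj e he r hrQ with c | c
      · exact mul_inv_eq_iff_eq_mul.mp c
      · exfalso; apply hzX
        have : e * r * e⁻¹ * r⁻¹ ∈ X := X.mul_mem (hX.norm e hex r hrX) (X.inv_mem hrX)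
        rwa [c, mul_inv_cancel_right] at this
    rcases hQ.step (fun _ => True) (fun _ _ _ _ => trivial) hxQ hrQ (fun e he _ hex => hcE e he hex)
      with c | c
    · rcases hQ.center r hrQ (fun q hq => c q hq trivial) with c | c
      · exact Or.inl c
      · exact absurd (c ▸ hrX) hzX
    · rcases hQ.center _ (Q.mul_mem hxQ hrQ) (fun q hq => c q hq trivial) with c | c
      · exact Or.inr ((eq_inv_of_mul_eq_one_right c).trans (inv_eq_of_mul_eq_one_right hX.sq_u))
      · exact absurd (c ▸ X.mul_mem hX.mem hrX) hzX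
  have hzc : ∀ f, f ∈ X → f * z = z * f → ∀ q ∈ Q, f * q * f⁻¹ ∈ Q :=
    fun f _ hf q hq => hQ.norm f hf q hq
  have hEF : ∀ e f, e ∈ Q → e * x = x * e → f ∈ X → f * z = z * f →
      e * f * e⁻¹ = f ∨ e * f * e⁻¹ = x * f := by
    intro e f he hex hf hfz
    have h1 : e * f * e⁻¹ * f⁻¹ ∈ Q := by
      rw [show e * f * e⁻¹ * f⁻¹ = e * (f * e⁻¹ * f⁻¹) by group]
      exact Q.mul_mem he (hzc f hf hfz _ (Q.inv_mem he))
    have h2 : e * f * e⁻¹ * f⁻¹ ∈ X := X.mul_mem (hX.norm e hex f hf) (X.inv_mem hf)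
    rcases hint _ h1 h2 with c | c
    · left; rwa [mul_inv_eq_one] at c
    · right; rwa [mul_inv_eq_iff_eq_mul] at c
  have hzinv : z⁻¹ = z := inv_eq_of_mul_eq_one_right hQ.sq_u
  have hzxX : ∀ q ∈ X, z * q * z⁻¹ ∈ X := fun q hq => hX.norm z hcxz.symm q hq
  -- commutators of z with X are fixed by z
  have hF : ∀ q ∈ X, (q⁻¹ * (z * q * z⁻¹)) * z = z * (q⁻¹ * (z * q * z⁻¹)) := by
    intro q hq
    set c := q⁻¹ * (z * q * z⁻¹) with hc
    have hcX : c ∈ X := X.mul_mem (X.inv_mem hq) (hzxX q hq)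
    have hzc' : z * c * z⁻¹ = c⁻¹ := by
      rw [hc]
      simp only [hzinv, mul_inv_rev, inv_inv, mul_assoc, hQ.sq_u, mul_one]
    rcases hX.sq c hcX with s | s
    · rw [inv_eq_of_mul_eq_one_right s] at hzc'
      exact (mul_inv_eq_iff_eq_mul.mp hzc').symm
    · exfalso
      have e1 : c⁻¹ = x * c := by
        apply inv_eq_of_mul_eq_one_right
        rw [← hX.comm c hcX, ← mul_assoc, s, hX.sq_u]
      rw [e1, mul_inv_eq_iff_eq_mul] at hzc'
      apply hA c hcX
      rw [mul_inv_eq_iff_eq_mul, mul_assoc x z c, hzc', ← mul_assoc, ← mul_assoc, hX.sq_u, one_mul]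
  have hno : ∀ q ∈ X, z * q * z⁻¹ ≠ x * q := by
    intro q hq e
    apply hA q hq
    rw [mul_inv_eq_iff_eq_mul] at e
    rw [mul_inv_eq_iff_eq_mul, mul_assoc x z q, e, ← mul_assoc, ← mul_assoc, hX.sq_u, one_mul]
  by_cases hE : ∃ a ∈ Q, ∃ b ∈ Q, a * x = x * a ∧ b * x = x * b ∧ a * b * a⁻¹ = z * b
  · -- the centraliser of x in Q is not abelian
    obtain ⟨a, ha, b, hb, hax, hbx, hab⟩ := hE
    have hM : ∀ m ∈ X, (∀ f ∈ X, f * z = z * f → m * f = f * m) → m * z = z * m := by
      intro m hm hmc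
      have hm' : z * m * z⁻¹ ∈ X := hzxX m hm
      have hd : ∀ q ∈ X, q * (m⁻¹ * (z * m * z⁻¹)) = (m⁻¹ * (z * m * z⁻¹)) * q := by
        intro q hq
        have hzz : ∀ t : G, z * (z * t) = t := fun t => by rw [← mul_assoc, hQ.sq_u, one_mul]
        have key : ∀ j : G, j * z = z * j → m * q⁻¹ * m⁻¹ = j * q⁻¹ → (∀ t ∈ X, t * j = j * t) →
            (z * m * z⁻¹) * q⁻¹ * (z * m * z⁻¹)⁻¹ = j * q⁻¹ := by
          intro j hjz e1 hjc
          have hcm := hmc _ (X.mul_mem (X.inv_mem hq) (hzxX q hq)) (hF q hq)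
          rw [← mul_inv_eq_iff_eq_mul] at hcm
          have e2 : m * (z * q * z⁻¹) * m⁻¹ = j⁻¹ * (z * q * z⁻¹) := by
            calc m * (z * q * z⁻¹) * m⁻¹
                = (m * q⁻¹ * m⁻¹)⁻¹ * (m * (q⁻¹ * (z * q * z⁻¹)) * m⁻¹) := by group
              _ = _ := by
                rw [e1, hcm, mul_inv_rev, inv_inv]
                have := hjc q hq
                have e3 : q * j⁻¹ = j⁻¹ * q := (Commute.inv_right (show Commute q j from this)).eq
                rw [e3]; group
          have e4 : (z * m * z⁻¹) * q * (z * m * z⁻¹)⁻¹ = j⁻¹ * q := by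
            calc (z * m * z⁻¹) * q * (z * m * z⁻¹)⁻¹
                = z * (m * (z⁻¹ * q * z) * m⁻¹) * z⁻¹ := by group
              _ = z * (j⁻¹ * (z * q * z⁻¹)) * z⁻¹ := by
                rw [show z⁻¹ * q * z = z * q * z⁻¹ by rw [hzinv], e2]
              _ = (z * j⁻¹ * z⁻¹) * (z * (z * q * z⁻¹) * z⁻¹) := by group
              _ = j⁻¹ * q := by
                have e5 : z * j⁻¹ * z⁻¹ = j⁻¹ :=
                  mul_inv_eq_iff_eq_mul.mpr (Commute.inv_right (show Commute z j from hjz.symm)).eq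
                rw [e5, hzinv]
                simp only [mul_assoc, hzz, hQ.sq_u, mul_one]
          calc (z * m * z⁻¹) * q⁻¹ * (z * m * z⁻¹)⁻¹
              = ((z * m * z⁻¹) * q * (z * m * z⁻¹)⁻¹)⁻¹ := by group
            _ = j * q⁻¹ := by
              rw [e4, mul_inv_rev, inv_inv]
              exact hjc _ (X.inv_mem hq)
        have e : (z * m * z⁻¹) * q⁻¹ * (z * m * z⁻¹)⁻¹ = m * q⁻¹ * m⁻¹ := by
          rcases hX.cases_conj m hm q⁻¹ (X.inv_mem hq) with c | c
          · rw [c]; simpa using key 1 (by simp) (by rw [c, one_mul]) (by simp)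
          · rw [c]; exact key x hcxz c hX.comm
        have e' : Commute (m⁻¹ * (z * m * z⁻¹)) q⁻¹ := by
          show _ * q⁻¹ = q⁻¹ * _
          rw [← mul_inv_eq_iff_eq_mul]
          calc m⁻¹ * (z * m * z⁻¹) * q⁻¹ * (m⁻¹ * (z * m * z⁻¹))⁻¹
              = m⁻¹ * ((z * m * z⁻¹) * q⁻¹ * (z * m * z⁻¹)⁻¹) * m := by group
            _ = q⁻¹ := by rw [e]; group
        simpa using e'.inv_right.eq.symm
      rcases hX.center _ (X.mul_mem (X.inv_mem hm) hm') hd with c | c
      · rw [inv_mul_eq_one] at c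
        exact (mul_inv_eq_iff_eq_mul.mp c.symm).symm
      · exfalso
        rw [inv_mul_eq_iff_eq_mul] at c
        exact hno m hm (c.trans (hX.comm m hm))
    -- each element of the centraliser of x moves q only by elements commuting with z
    have hmove : ∀ e ∈ Q, e * x = x * e → ∀ q ∈ X,
        ∃ t ∈ X, t * z = z * t ∧ e * q * e⁻¹ = t * q := by
      intro e he hex q hq
      have hq' : e * q * e⁻¹ ∈ X := hX.norm e hex q hq
      refine ⟨e * q * e⁻¹ * q⁻¹, X.mul_mem hq' (X.inv_mem hq),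
        hM _ (X.mul_mem hq' (X.inv_mem hq)) ?_, by group⟩
      intro f hf hfz
      have hxf : f * x = x * f := hX.comm f hf
      have e1 : (e * q * e⁻¹) * f * (e * q * e⁻¹)⁻¹ = q * f * q⁻¹ := by
        have hecx : e * x * e⁻¹ = x := mul_inv_eq_iff_eq_mul.mpr hex
        have hqx : q * x * q⁻¹ = x := mul_inv_eq_iff_eq_mul.mpr (hX.comm q hq)
        have hqf : e * (q * f * q⁻¹) * e⁻¹ = (q * f * q⁻¹) * (f⁻¹ * (e * f * e⁻¹)) := by
          rcases hX.cases_conj q hq f hf with c | c <;> rw [c]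
          · group
          · rw [show e * (x * f) * e⁻¹ = (e * x * e⁻¹) * (e * f * e⁻¹) by group, hecx]; group
        rcases hEF e f he hex hf hfz with c | c
        · calc (e * q * e⁻¹) * f * (e * q * e⁻¹)⁻¹
              = e * (q * (e⁻¹ * (e * f * e⁻¹) * e) * q⁻¹) * e⁻¹ := by rw [c]; group
            _ = e * (q * f * q⁻¹) * e⁻¹ := by group
            _ = q * f * q⁻¹ := by rw [hqf, c]; group
        · have hfx : e * (x * f) * e⁻¹ = f := by
            calc e * (x * f) * e⁻¹ = (e * x * e⁻¹) * (e * f * e⁻¹) := by group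
              _ = f := by rw [hecx, c, ← mul_assoc, hX.sq_u, one_mul]
          calc (e * q * e⁻¹) * f * (e * q * e⁻¹)⁻¹
              = e * (q * (e⁻¹ * (e * (x * f) * e⁻¹) * e) * q⁻¹) * e⁻¹ := by rw [hfx]; group
            _ = e * ((q * x * q⁻¹) * (q * f * q⁻¹)) * e⁻¹ := by group
            _ = (e * x * e⁻¹) * (e * (q * f * q⁻¹) * e⁻¹) := by rw [hqx]; group
            _ = q * f * q⁻¹ := by
              have hqfX : q * f * q⁻¹ ∈ X := X.mul_mem (X.mul_mem hq hf) (X.inv_mem hq)
              rw [hqf, hecx, c, ← hxf, inv_mul_cancel_left, hX.comm _ hqfX, ← mul_assoc,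
                hX.sq_u, one_mul]
      rw [← mul_inv_eq_iff_eq_mul]
      calc e * q * e⁻¹ * q⁻¹ * f * (e * q * e⁻¹ * q⁻¹)⁻¹
          = (e * q * e⁻¹) * (q⁻¹ * f * q) * (e * q * e⁻¹)⁻¹ := by group
        _ = f := by
          have hqf : q⁻¹ * f * q = q * f * q⁻¹ := by
            rcases hX.cases_conj q hq f hf with c | c
            · rw [c]; rw [mul_inv_eq_iff_eq_mul] at c
              calc q⁻¹ * f * q = q⁻¹ * (q * f) := by rw [c]; group
                _ = f := by group
            · rw [c]; rw [mul_inv_eq_iff_eq_mul] at c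
              calc q⁻¹ * f * q = q⁻¹ * (x * (x * f * q)) := by
                    rw [mul_assoc x f q, ← mul_assoc x x, hX.sq_u, one_mul, ← mul_assoc]
                _ = q⁻¹ * x * q * f := by rw [← c]; group
                _ = x * f := by rw [mul_assoc q⁻¹, ← hX.comm q hq, inv_mul_cancel_left]
          rw [hqf]
          rcases hX.cases_conj q hq f hf with c | c
          · rw [c, e1, c]
          · have hxq : (e * q * e⁻¹) * x * (e * q * e⁻¹)⁻¹ = x :=
              mul_inv_eq_iff_eq_mul.mpr (hX.comm _ hq')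
            rw [c, show (e * q * e⁻¹) * (x * f) * (e * q * e⁻¹)⁻¹ =
              ((e * q * e⁻¹) * x * (e * q * e⁻¹)⁻¹) * ((e * q * e⁻¹) * f * (e * q * e⁻¹)⁻¹) by group,
              hxq, e1, c, ← mul_assoc, hX.sq_u, one_mul]
    apply hzX
    apply hX.cen
    intro q hq
    obtain ⟨ta, hta, htaz, hqa⟩ := hmove a ha hax q hq
    obtain ⟨tb, htb, htbz, hqb⟩ := hmove b hb hbx q hq
    have hz_eq : (a * b) * (b * a)⁻¹ = z := by
      calc (a * b) * (b * a)⁻¹ = (a * b * a⁻¹) * b⁻¹ := by group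
        _ = z := by rw [hab]; group
    -- conjugates of q by ab and by ba differ at most by x
    have hxx : ∀ t : G, x * (x * t) = t := fun t => by rw [← mul_assoc, hX.sq_u, one_mul]
    have hpm : ∀ A B : G, (A = B ∨ A = x * B) → ∀ C : G, (B = C ∨ B = x * C) →
        (A = C ∨ A = x * C) := by
      intro A B hAB C hBC
      rcases hAB with rfl | rfl <;> rcases hBC with rfl | rfl <;> simp [hxx]
    have h1 : (a * b) * q * (a * b)⁻¹ = tb * (ta * q) ∨
        (a * b) * q * (a * b)⁻¹ = x * (tb * (ta * q)) := by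
      have : (a * b) * q * (a * b)⁻¹ = (a * tb * a⁻¹) * (a * q * a⁻¹) := by
        calc (a * b) * q * (a * b)⁻¹ = a * (b * q * b⁻¹) * a⁻¹ := by group
          _ = _ := by rw [hqb]; group
      rw [this, hqa]
      rcases hEF a tb ha hax htb htbz with c | c <;> rw [c] <;> simp [mul_assoc]
    have h2 : (b * a) * q * (b * a)⁻¹ = ta * (tb * q) ∨
        (b * a) * q * (b * a)⁻¹ = x * (ta * (tb * q)) := by
      have : (b * a) * q * (b * a)⁻¹ = (b * ta * b⁻¹) * (b * q * b⁻¹) := by
        calc (b * a) * q * (b * a)⁻¹ = b * (a * q * a⁻¹) * b⁻¹ := by group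
          _ = _ := by rw [hqa]; group
      rw [this, hqb]
      rcases hEF b ta hb hbx hta htaz with c | c <;> rw [c] <;> simp [mul_assoc]
    have h3 : tb * (ta * q) = ta * (tb * q) ∨ tb * (ta * q) = x * (ta * (tb * q)) := by
      rcases hX.cases_conj tb htb ta hta with c | c <;> rw [mul_inv_eq_iff_eq_mul] at c
      · left; rw [← mul_assoc, c, mul_assoc]
      · right; rw [← mul_assoc, c]; group
    have h2' : ta * (tb * q) = (b * a) * q * (b * a)⁻¹ ∨
        ta * (tb * q) = x * ((b * a) * q * (b * a)⁻¹) := by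
      rcases h2 with c | c <;> rw [c] <;> simp [hxx]
    have h4 := hpm _ _ h1 _ h3
    have h5 := hpm _ _ h4 _ h2'
    rcases h5 with c | c
    · have hba : z * (b * a) = (b * a) * z := (hQ.comm _ (Q.mul_mem hb ha)).symm
      rw [mul_inv_eq_iff_eq_mul.mp hz_eq, hba] at c
      rw [← mul_inv_eq_iff_eq_mul]
      calc z * q * z⁻¹ = (b * a)⁻¹ * ((b * a * z) * q * (b * a * z)⁻¹) * (b * a) := by group
        _ = q := by rw [c]; group
    · exfalso
      refine hno _ (hX.norm (b * a) ?_ q hq) ?_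
      · rw [mul_assoc, hax, ← mul_assoc, hbx, mul_assoc]
      · calc z * ((b * a) * q * (b * a)⁻¹) * z⁻¹
            = (a * b) * (b * a)⁻¹ * ((b * a) * q * (b * a)⁻¹) * ((a * b) * (b * a)⁻¹)⁻¹ := by
              rw [hz_eq]
          _ = (a * b) * q * (a * b)⁻¹ := by group
          _ = _ := c
  · -- the centraliser of x in Q is abelian: then Q has order 8
    push Not at hE
    have hEab : ∀ e ∈ Q, e * x = x * e → (∀ r ∈ Q, r * x = x * r → r * e = e * r) := by
      intro e he hex r hr hrx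
      by_contra hne
      exact hE r hr e he hrx hex (hQ.flip_of_not_comm hr he hne)
    have hE4 : ∀ e ∈ Q, e * x = x * e → e = 1 ∨ e = z ∨ e = x ∨ e = x * z := by
      intro e he hex
      rcases hQ.step (fun _ => True) (fun _ _ _ _ => trivial) hxQ he
        (fun r hr _ hrx => hEab e he hex r hr hrx) with c | c
      · rcases hQ.center e he (fun q hq => c q hq trivial) with c | c <;> simp [c]
      · have hxe : e = x * (x * e) := by rw [← mul_assoc, hX.sq_u, one_mul]
        rcases hQ.center _ (Q.mul_mem hxQ he) (fun q hq => c q hq trivial) with c | c <;>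
          rw [c] at hxe <;> rw [hxe] <;> simp
    apply hzX
    apply hX.cen
    intro m hm
    have hc := hF m hm
    set f := m⁻¹ * (z * m * z⁻¹) with hf
    have hfX : f ∈ X := X.mul_mem (X.inv_mem hm) (hzxX m hm)
    have hfz : f * z = z * f := hc
    have hfx : f * x = x * f := hX.comm f hfX
    have hr : f * q2 * f⁻¹ ∈ Q := hzc f hfX hfz q2 hq2
    have hrx : (f * q2 * f⁻¹) * x * (f * q2 * f⁻¹)⁻¹ = z * x := by
      calc (f * q2 * f⁻¹) * x * (f * q2 * f⁻¹)⁻¹
          = f * (q2 * (f⁻¹ * (x * f)) * q2⁻¹) * f⁻¹ := by group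
        _ = f * (z * x) * f⁻¹ := by rw [← hfx, inv_mul_cancel_left, eq2]
        _ = z * x := by rw [← mul_assoc, hfz, mul_assoc z f x, hfx]; group
    have hre : f * q2 * f⁻¹ * q2⁻¹ ∈ Q := Q.mul_mem hr (Q.inv_mem hq2)
    have hrex : (f * q2 * f⁻¹ * q2⁻¹) * x = x * (f * q2 * f⁻¹ * q2⁻¹) := by
      have hq2' : q2⁻¹ * x * q2 = z * x := by
        calc q2⁻¹ * x * q2 = q2⁻¹ * (z * (z * x)) * q2 := by
              rw [← mul_assoc z, hQ.sq_u, one_mul]
          _ = (q2⁻¹ * z * q2) * x := by rw [← eq2]; group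
          _ = z * x := by rw [mul_assoc q2⁻¹, ← hQ.comm q2 hq2, inv_mul_cancel_left]
      rw [← mul_inv_eq_iff_eq_mul]
      calc f * q2 * f⁻¹ * q2⁻¹ * x * (f * q2 * f⁻¹ * q2⁻¹)⁻¹
          = (f * q2 * f⁻¹) * (q2⁻¹ * x * q2) * (f * q2 * f⁻¹)⁻¹ := by group
        _ = ((f * q2 * f⁻¹) * z * (f * q2 * f⁻¹)⁻¹) *
              ((f * q2 * f⁻¹) * x * (f * q2 * f⁻¹)⁻¹) := by rw [hq2']; group
        _ = x := by
          rw [mul_inv_eq_iff_eq_mul.mpr (hQ.comm _ hr), hrx, ← mul_assoc, hQ.sq_u, one_mul]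
    -- squares exclude a move by x or xz
    have hfE : ∀ e ∈ Q, e * x = x * e → f * e * f⁻¹ = e := by
      intro e he hex
      rw [mul_inv_eq_iff_eq_mul]
      have c1 : Commute f z := hfz
      have c2 : Commute f x := hfx
      rcases hE4 e he hex with c | c | c | c <;> rw [c]
      · simp
      · exact c1.eq
      · exact c2.eq
      · exact (c2.mul_right c1).eq
    have hsq : ∀ w ∈ ({1, z} : Set G), f * q2 * f⁻¹ ≠ (x * w) * q2 := by
      intro w hw e
      have hwc : Commute q2 w := by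
        rcases hw with rfl | rfl
        · exact Commute.one_right _
        · exact hQ.comm q2 hq2
      have hwx : Commute x w := by
        rcases hw with rfl | rfl
        · exact Commute.one_right _
        · exact hcxz
      have hww : w * w = 1 := by
        rcases hw with rfl | rfl
        · simp
        · exact hQ.sq_u
      have h1 : (x * w * q2) * (x * w * q2) = z * (q2 * q2) := by
        calc (x * w * q2) * (x * w * q2) = x * (w * (q2 * x * q2⁻¹)) * (q2 * w) * q2 := by group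
          _ = x * (w * (z * x)) * (w * q2) * q2 := by rw [eq2, hwc.eq]
          _ = x * (w * z * (x * w)) * q2 * q2 := by group
          _ = x * ((w * z) * (w * x)) * q2 * q2 := by rw [hwx.eq]
          _ = z * (q2 * q2) := by
            have hwz : w * z * (w * x) = z * x := by
              rcases hw with rfl | rfl
              · simp
              · rw [hQ.sq_u, one_mul]
            rw [hwz, ← mul_assoc x z x, hcxz, mul_assoc z x x, hX.sq_u, mul_one, mul_assoc]
      have h2 : (f * q2 * f⁻¹) * (f * q2 * f⁻¹) = q2 * q2 := by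
        calc (f * q2 * f⁻¹) * (f * q2 * f⁻¹) = f * (q2 * q2) * f⁻¹ := by group
          _ = q2 * q2 := by
            rcases hQ.sq q2 hq2 with c | c <;> rw [c]
            · group
            · exact mul_inv_eq_iff_eq_mul.mpr hfz
      rw [e, h1] at h2
      exact hQ.ne_one (mul_eq_right.mp h2)
    have hmove2 : f * q2 * f⁻¹ = q2 ∨ f * q2 * f⁻¹ = z * q2 := by
      have hd : f * q2 * f⁻¹ = (f * q2 * f⁻¹ * q2⁻¹) * q2 := by group
      rcases hE4 _ hre hrex with c | c | c | c
      · left; rw [hd, c, one_mul]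
      · right; rw [hd, c]
      · exfalso; apply hsq 1 (by simp); rw [hd, c, mul_one]
      · exfalso; apply hsq z (by simp); rw [hd, c]
    have hdec : ∀ q ∈ Q, ¬ (q * x = x * q) → (q * q2) * x = x * (q * q2) := fun q hq hne =>
      hQ.flip_mul hq hq2 (hQ.flip_of_not_comm hq hxQ hne) eq2
    have hconj : ∀ g : G, g * q2 * g⁻¹ = q2 → (∀ e ∈ Q, e * x = x * e → g * e * g⁻¹ = e) →
        g ∈ Q := by
      intro g hg hgE
      apply hQ.cen
      intro q hq
      rw [← mul_inv_eq_iff_eq_mul]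
      by_cases hqx : q * x = x * q
      · exact hgE q hq hqx
      · calc g * q * g⁻¹ = (g * (q * q2) * g⁻¹) * (g * q2 * g⁻¹)⁻¹ := by group
          _ = (q * q2) * q2⁻¹ := by rw [hgE _ (Q.mul_mem hq hq2) (hdec q hq hqx), hg]
          _ = q := by group
    have hfQ : f ∈ Q := by
      rcases hmove2 with c | c
      · exact hconj f c hfE
      · have : x * f ∈ Q := by
          apply hconj
          · calc x * f * q2 * (x * f)⁻¹ = x * (f * q2 * f⁻¹) * x⁻¹ := by group
              _ = x * (z * q2) * x⁻¹ := by rw [c]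
              _ = (x * z) * (q2 * x⁻¹ * q2⁻¹) * q2 := by group
              _ = (x * z) * (z * x) * q2 := by rw [inv_eq_of_mul_eq_one_right hX.sq_u, eq2]
              _ = q2 := by rw [mul_assoc x z, ← mul_assoc z z, hQ.sq_u, one_mul, hX.sq_u, one_mul]
          · intro e he hex
            rw [show x * f * e * (x * f)⁻¹ = x * (f * e * f⁻¹) * x⁻¹ by group, hfE e he hex]
            exact mul_inv_eq_iff_eq_mul.mpr hex.symm
        have := Q.mul_mem (Q.inv_mem hxQ) this
        simpa using this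
    rcases hint f hfQ hfX with c | c
    · rw [hf, inv_mul_eq_one] at c
      exact mul_inv_eq_iff_eq_mul.mp c.symm
    · exfalso
      rw [hf, inv_mul_eq_iff_eq_mul] at c
      exact hno m hm (c.trans (hX.comm m hm))

end CfsgLib.ExtraspecialLarge
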