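import Mathlib
import Cfsg.Prelude.Def_Solvable
import Cfsg.Prelude.Def_Transfer
import Cfsg.Agent.Lib.ExtraspecialLarge.Basic

/-!
The setting `Q x = O₂(C(x))` with `Q z` extraspecial and containing its centraliser;
singular subgroups.
-/

set_option autoImplicit false

namespace CfsgLib.ExtraspecialLarge

open Cfsg

variable {G : Type*} [Group G]

/-- `Q x` is `O₂(C(x))`, `z` is an involution and `Q z` is extraspecial containing its centraliser. -/
structure CoreSetting (Q : G → Subgroup G) (z : G) : Prop where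
  def_Q : ∀ x : G, Q x = (Cfsg.pCore 2 ↥(Subgroup.centralizer ({x} : Set G))).map
    (Subgroup.centralizer ({x} : Set G)).subtype
  order : orderOf z = 2
  extra : Cfsg.IsExtraspecial 2 ↥(Q z)
  cen : Subgroup.centralizer ((Q z : Subgroup G) : Set G) ≤ Q z

namespace CoreSetting

variable {Q : G → Subgroup G} {z : G} (h : CoreSetting Q z)
include h

theorem le_centralizer (x : G) {q : G} (hq : q ∈ Q x) : q * x = x * q := by
  rw [h.def_Q x] at hq
  obtain ⟨⟨w, hw⟩, -, rfl⟩ := hq
  exact Subgroup.mem_centralizer_singleton_iff.mp hw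

theorem conj_mem (g x : G) {q : G} (hq : q ∈ Q x) : g * q * g⁻¹ ∈ Q (g * x * g⁻¹) := by
  rw [h.def_Q x] at hq
  rw [h.def_Q (g * x * g⁻¹)]
  obtain ⟨⟨w, hw⟩, hmem, rfl⟩ := hq
  have hiff : ∀ w : G, w ∈ Subgroup.centralizer ({x} : Set G) ↔
      g * w * g⁻¹ ∈ Subgroup.centralizer ({g * x * g⁻¹} : Set G) := by
    intro w
    rw [Subgroup.mem_centralizer_singleton_iff, Subgroup.mem_centralizer_singleton_iff]
    constructor
    · intro e
      calc g * w * g⁻¹ * (g * x * g⁻¹) = g * (w * x) * g⁻¹ := by group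
        _ = _ := by rw [e]; group
    · intro e
      calc w * x = g⁻¹ * (g * w * g⁻¹ * (g * x * g⁻¹)) * g := by group
        _ = x * w := by rw [e]; group
  let e : ↥(Subgroup.centralizer ({x} : Set G)) ≃* ↥(Subgroup.centralizer ({g * x * g⁻¹} : Set G)) :=
    { toFun := fun w => ⟨g * w * g⁻¹, (hiff w).mp w.2⟩
      invFun := fun w => ⟨g⁻¹ * w * g, (hiff _).mpr (by simpa [mul_assoc] using w.2)⟩
      left_inv := fun w => Subtype.ext (by simp [mul_assoc])
      right_inv := fun w => Subtype.ext (by simp [mul_assoc])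
      map_mul' := fun a b => Subtype.ext (by simp [mul_assoc]) }
  refine ⟨e ⟨w, hw⟩, ?_, rfl⟩
  rw [← CfsgLib.Cores.map_pCore_equiv e]
  exact ⟨_, hmem, rfl⟩

theorem eq_map (g x : G) : Q (g * x * g⁻¹) = (Q x).map (MulAut.conj g).toMonoidHom := by
  apply le_antisymm
  · intro q hq
    have := h.conj_mem g⁻¹ _ hq
    rw [show g⁻¹ * (g * x * g⁻¹) * g⁻¹⁻¹ = x by group] at this
    exact ⟨_, this, by simp [mul_assoc]⟩
  · rintro _ ⟨q, hq, rfl⟩
    exact h.conj_mem g x hq

theorem good [Finite G] : Good (Q z) z := by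
  have hz1 : z ≠ 1 := by intro e; simpa [e] using h.order
  have hcent : z ∈ Subgroup.centralizer ((Q z : Subgroup G) : Set G) :=
    Subgroup.mem_centralizer_iff.mpr fun q hq => h.le_centralizer z hq
  have hzQ : z ∈ Q z := h.cen hcent
  have hzZ : z ∈ (Subgroup.center (Q z)).map (Q z).subtype :=
    (CfsgLib.Fischer2.mem_centerImage_iff _ _).mpr ⟨hzQ, fun y hy => (h.le_centralizer z hy).symm⟩
  have hcard := CfsgLib.Fischer2.IsExtraspecial.card_centerImage h.extra
  refine ⟨hzQ, hz1, ?_, fun q hq => h.le_centralizer z hq,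
    fun q hq r hr => CfsgLib.Fischer2.IsExtraspecial.conj_eq_or h.extra hzZ hz1 hr hq, ?_, ?_, ?_, ?_⟩
  · rw [← pow_two, ← h.order]; exact pow_orderOf_eq_one z
  · intro r hr hrc
    exact CfsgLib.Fischer2.eq_one_or_eq_of_card_two hcard hzZ hz1
      ((CfsgLib.Fischer2.mem_centerImage_iff _ _).mpr ⟨hr, fun y hy => (hrc y hy).symm⟩)
  · intro q hq
    rw [← pow_two]
    exact CfsgLib.Fischer2.eq_one_or_eq_of_card_two hcard hzZ hz1
      (CfsgLib.Fischer2.IsExtraspecial.sq_mem h.extra hq)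
  · exact fun g hg => h.cen (Subgroup.mem_centralizer_iff.mpr fun q hq => (hg q hq).symm)
  · intro g hg q hq
    have := h.conj_mem g z hq
    rwa [mul_inv_eq_iff_eq_mul.mpr hg] at this

theorem good_of_conj [Finite G] {u : G} (hu : ∃ g : G, g * z * g⁻¹ = u) : Good (Q u) u := by
  obtain ⟨g, rfl⟩ := hu
  rw [h.eq_map g z]
  exact h.good.conjugate g

theorem symm [Finite G] {g : G} (hx : g * z * g⁻¹ ∈ Q z) : z ∈ Q (g * z * g⁻¹) := by
  refine h.good.symm (h.good_of_conj ⟨g, rfl⟩) hx fun s hs q hq => ?_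
  have := h.conj_mem s z hq
  rwa [hs] at this

end CoreSetting

end CfsgLib.ExtraspecialLarge
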