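import Cfsg.Agent.Lib.ExtraspecialLarge.RootReflectionCert

/-! Certificate data: the spider relation in central extensions of Fi₂₃ (nodes `d e c h f b i g a j`, root order of Y₄₃₂). -/

set_option autoImplicit false

namespace CfsgLib.ExtraspecialLarge.Fi23Data

open RootRefl

/-- a rewriting step on a list of roots -/
inductive Op
  | move (i : ℕ) (fwd : Bool) (g : List ℕ) (j : ℕ)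
  | ins (i : ℕ) (g : List ℕ) (j : ℕ)
  | del (i : ℕ)

/-- certificate data -/
def seedRoots : List (ℕ × List ℕ) :=
  [(7, [12,9,7,8,6,2,4,1,0,0]), (8, [12,7,9,8,2,6,4,0,1,0]), (0, [10,6,6,6,3,3,3,0,0,0])]

/-- certificate data -/
def trans0 : List (List ℕ × Bool) :=
  [([3,6,1,4,3,2], true), ([4], true)]

/-- certificate data -/
def trans1 : List (List ℕ × Bool) :=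
  [([3,6,1,4,3,2], false), ([4], false)]

/-- certificate data -/
def trans2 : List (List ℕ × Bool) :=
  [([], true)]

/-- certificate data -/
def env0 : List Entry :=
  [⟨[0,0,0,0,0,0,0,1,0,0], [12,9,7,8,6,2,4,1,0,0], 10, []⟩,
   ⟨[0,0,0,0,0,0,0,0,1,0], [12,7,9,8,2,6,4,0,1,0], 10, []⟩,
   ⟨[1,0,0,0,0,0,0,0,0,0], [10,6,6,6,3,3,3,0,0,0], 10, []⟩,
   ⟨[0,0,0,0,1,0,0,1,0,0], [12,9,7,8,4,2,4,1,0,0], 4, [(0,false)]⟩,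
   ⟨[0,1,0,0,1,0,0,1,0,0], [12,7,7,8,4,2,4,1,0,0], 1, [(3,false)]⟩,
   ⟨[1,1,0,0,1,0,0,1,0,0], [10,7,7,8,4,2,4,1,0,0], 0, [(4,false)]⟩,
   ⟨[1,1,1,0,1,0,0,1,0,0], [10,7,5,8,4,2,4,1,0,0], 2, [(5,false)]⟩,
   ⟨[1,1,1,1,1,0,0,1,0,0], [10,7,5,6,4,2,4,1,0,0], 3, [(6,false)]⟩,
   ⟨[2,1,1,1,1,0,0,1,0,0], [8,7,5,6,4,2,4,1,0,0], 0, [(7,false)]⟩,
   ⟨[2,2,1,1,1,0,0,1,0,0], [8,5,5,6,4,2,4,1,0,0], 1, [(8,false)]⟩,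
   ⟨[2,2,1,1,2,0,0,1,0,0], [8,5,5,6,2,2,4,1,0,0], 4, [(9,false)]⟩,
   ⟨[2,2,1,1,2,0,1,1,0,0], [8,5,5,6,2,2,2,1,0,0], 6, [(10,false)]⟩,
   ⟨[2,2,1,2,2,0,1,1,0,0], [8,5,5,4,2,2,2,1,0,0], 3, [(11,false)]⟩,
   ⟨[3,2,1,2,2,0,1,1,0,0], [6,5,5,4,2,2,2,1,0,0], 0, [(12,false)]⟩,
   ⟨[3,3,1,2,2,0,1,1,0,0], [6,3,5,4,2,2,2,1,0,0], 1, [(13,false)]⟩,
   ⟨[3,3,2,2,2,0,1,1,0,0], [6,3,3,4,2,2,2,1,0,0], 2, [(14,false)]⟩,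
   ⟨[4,3,2,2,2,0,1,1,0,0], [4,3,3,4,2,2,2,1,0,0], 0, [(15,false)]⟩,
   ⟨[4,3,2,3,2,0,1,1,0,0], [4,3,3,2,2,2,2,1,0,0], 3, [(16,false)]⟩,
   ⟨[4,3,2,3,2,0,2,1,0,0], [4,3,3,2,2,2,0,1,0,0], 6, [(17,false)]⟩,
   ⟨[4,3,3,2,2,2,0,1,0,0], [4,3,2,3,2,0,2,1,0,0], 10, [(18,true)]⟩,
   ⟨[0,0,0,0,0,1,0,0,1,0], [12,7,9,8,2,4,4,0,1,0], 5, [(1,false)]⟩,
   ⟨[0,0,1,0,0,1,0,0,1,0], [12,7,7,8,2,4,4,0,1,0], 2, [(20,false)]⟩,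
   ⟨[1,0,1,0,0,1,0,0,1,0], [10,7,7,8,2,4,4,0,1,0], 0, [(21,false)]⟩,
   ⟨[1,1,1,0,0,1,0,0,1,0], [10,5,7,8,2,4,4,0,1,0], 1, [(22,false)]⟩,
   ⟨[1,1,1,1,0,1,0,0,1,0], [10,5,7,6,2,4,4,0,1,0], 3, [(23,false)]⟩,
   ⟨[2,1,1,1,0,1,0,0,1,0], [8,5,7,6,2,4,4,0,1,0], 0, [(24,false)]⟩,
   ⟨[2,1,2,1,0,1,0,0,1,0], [8,5,5,6,2,4,4,0,1,0], 2, [(25,false)]⟩,
   ⟨[2,1,2,1,0,2,0,0,1,0], [8,5,5,6,2,2,4,0,1,0], 5, [(26,false)]⟩,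
   ⟨[2,1,2,1,0,2,1,0,1,0], [8,5,5,6,2,2,2,0,1,0], 6, [(27,false)]⟩,
   ⟨[2,1,2,2,0,2,1,0,1,0], [8,5,5,4,2,2,2,0,1,0], 3, [(28,false)]⟩,
   ⟨[3,1,2,2,0,2,1,0,1,0], [6,5,5,4,2,2,2,0,1,0], 0, [(29,false)]⟩,
   ⟨[3,2,2,2,0,2,1,0,1,0], [6,3,5,4,2,2,2,0,1,0], 1, [(30,false)]⟩,
   ⟨[3,2,3,2,0,2,1,0,1,0], [6,3,3,4,2,2,2,0,1,0], 2, [(31,false)]⟩,
   ⟨[4,2,3,2,0,2,1,0,1,0], [4,3,3,4,2,2,2,0,1,0], 0, [(32,false)]⟩,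
   ⟨[4,2,3,3,0,2,1,0,1,0], [4,3,3,2,2,2,2,0,1,0], 3, [(33,false)]⟩,
   ⟨[4,2,3,3,0,2,2,0,1,0], [4,3,3,2,2,2,0,0,1,0], 6, [(34,false)]⟩,
   ⟨[4,3,3,2,2,2,0,0,1,0], [4,2,3,3,0,2,2,0,1,0], 10, [(35,true)]⟩,
   ⟨[4,3,3,2,2,1,0,1,0,0], [4,3,2,3,2,2,2,1,0,0], 5, [(19,false)]⟩,
   ⟨[4,3,3,2,2,1,2,1,0,0], [4,3,2,3,2,2,1,1,0,0], 6, [(37,false)]⟩,
   ⟨[4,3,3,4,2,1,2,1,0,0], [4,3,2,2,2,2,1,1,0,0], 3, [(38,false)]⟩,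
   ⟨[6,3,3,4,2,1,2,1,0,0], [3,3,2,2,2,2,1,1,0,0], 0, [(39,false)]⟩,
   ⟨[6,5,3,4,2,1,2,1,0,0], [3,2,2,2,2,2,1,1,0,0], 1, [(40,false)]⟩,
   ⟨[6,5,4,4,2,1,2,1,0,0], [3,2,3,2,2,2,1,1,0,0], 2, [(41,false)]⟩,
   ⟨[7,5,4,4,2,1,2,1,0,0], [4,2,3,2,2,2,1,1,0,0], 0, [(42,false)]⟩,
   ⟨[7,5,4,5,2,1,2,1,0,0], [4,2,3,3,2,2,1,1,0,0], 3, [(43,false)]⟩,
   ⟨[7,5,4,5,4,1,2,1,0,0], [4,2,3,3,1,2,1,1,0,0], 4, [(44,false)]⟩,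
   ⟨[7,6,4,5,4,1,2,1,0,0], [4,3,3,3,1,2,1,1,0,0], 1, [(45,false)]⟩,
   ⟨[8,6,4,5,4,1,2,1,0,0], [5,3,3,3,1,2,1,1,0,0], 0, [(46,false)]⟩,
   ⟨[8,6,4,5,4,3,2,1,0,0], [5,3,3,3,1,1,1,1,0,0], 5, [(47,false)]⟩,
   ⟨[5,3,3,3,1,1,1,0,0,0], [8,6,4,5,4,3,2,3,0,0], 7, [(48,true)]⟩,
   ⟨[5,3,3,3,2,1,1,0,0,0], [8,6,4,5,5,3,2,3,0,0], 4, [(49,false)]⟩,
   ⟨[1,0,0,0,0,0,0,0,0,0], [8,6,6,6,3,3,3,0,0,0], 0, [(2,false)]⟩,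
   ⟨[1,1,0,0,0,0,0,0,0,0], [8,5,6,6,3,3,3,0,0,0], 1, [(51,false)]⟩,
   ⟨[1,1,1,0,0,0,0,0,0,0], [8,5,5,6,3,3,3,0,0,0], 2, [(52,false)]⟩,
   ⟨[1,1,1,1,0,0,0,0,0,0], [8,5,5,5,3,3,3,0,0,0], 3, [(53,false)]⟩,
   ⟨[2,1,1,1,0,0,0,0,0,0], [7,5,5,5,3,3,3,0,0,0], 0, [(54,false)]⟩,
   ⟨[2,1,1,1,1,0,0,0,0,0], [7,5,5,5,2,3,3,0,0,0], 4, [(55,false)]⟩,
   ⟨[2,2,1,1,1,0,0,0,0,0], [7,4,5,5,2,3,3,0,0,0], 1, [(56,false)]⟩,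
   ⟨[2,2,1,1,1,1,0,0,0,0], [7,4,5,5,2,2,3,0,0,0], 5, [(57,false)]⟩,
   ⟨[2,2,2,1,1,1,0,0,0,0], [7,4,4,5,2,2,3,0,0,0], 2, [(58,false)]⟩,
   ⟨[3,2,2,1,1,1,0,0,0,0], [6,4,4,5,2,2,3,0,0,0], 0, [(59,false)]⟩,
   ⟨[3,2,2,2,1,1,0,0,0,0], [6,4,4,4,2,2,3,0,0,0], 3, [(60,false)]⟩,
   ⟨[3,2,2,2,1,1,2,0,0,0], [6,4,4,4,2,2,1,0,0,0], 6, [(61,false)]⟩,
   ⟨[3,2,2,3,1,1,2,0,0,0], [6,4,4,3,2,2,1,0,0,0], 3, [(62,false)]⟩,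
   ⟨[4,2,2,3,1,1,2,0,0,0], [5,4,4,3,2,2,1,0,0,0], 0, [(63,false)]⟩,
   ⟨[4,3,2,3,1,1,2,0,0,0], [5,3,4,3,2,2,1,0,0,0], 1, [(64,false)]⟩,
   ⟨[8,6,5,5,4,1,2,1,0,0], [5,3,4,3,1,2,1,1,0,0], 2, [(47,false)]⟩,
   ⟨[8,6,5,5,4,1,2,3,0,0], [5,3,4,3,1,2,1,0,0,0], 7, [(66,false)]⟩,
   ⟨[8,6,5,5,5,1,2,3,0,0], [5,3,4,3,2,2,1,0,0,0], 4, [(67,false)]⟩,
   ⟨[4,3,3,3,1,1,2,0,0,0], [8,6,4,5,5,1,2,3,0,0], 2, [(65,false),(68,true)]⟩,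
   ⟨[4,3,3,3,1,2,2,0,0,0], [8,6,4,5,5,3,2,3,0,0], 5, [(69,false)]⟩,
   ⟨[3,2,2,1,1,1,1,0,0,0], [6,4,4,5,2,2,2,0,0,0], 6, [(60,false)]⟩,
   ⟨[3,2,2,3,1,1,1,0,0,0], [6,4,4,3,2,2,2,0,0,0], 3, [(71,false)]⟩,
   ⟨[4,2,2,3,1,1,1,0,0,0], [5,4,4,3,2,2,2,0,0,0], 0, [(72,false)]⟩,
   ⟨[4,3,2,3,1,1,1,0,0,0], [5,3,4,3,2,2,2,0,0,0], 1, [(73,false)]⟩,
   ⟨[4,3,3,3,1,1,1,0,0,0], [5,3,3,3,2,2,2,0,0,0], 2, [(74,false)]⟩,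
   ⟨[4,3,3,3,2,1,1,0,0,0], [5,3,3,3,1,2,2,0,0,0], 4, [(75,false)]⟩,
   ⟨[8,6,4,5,4,1,2,3,0,0], [5,3,3,3,1,2,1,0,0,0], 7, [(47,false)]⟩,
   ⟨[4,3,3,3,2,1,2,0,0,0], [8,6,4,5,4,1,2,3,0,0], 4, [(69,false)]⟩,
   ⟨[4,3,3,3,1,2,1,0,0,0], [5,3,3,3,2,1,2,0,0,0], 5, [(75,false)]⟩,
   ⟨[5,3,3,3,1,1,2,0,0,0], [7,6,4,5,5,1,2,3,0,0], 0, [(69,false)]⟩,
   ⟨[7,6,4,5,4,1,2,3,0,0], [4,3,3,3,1,2,1,0,0,0], 7, [(46,false)]⟩,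
   ⟨[7,6,4,5,5,1,2,3,0,0], [4,3,3,3,2,2,1,0,0,0], 4, [(81,false)]⟩,
   ⟨[5,3,3,3,1,1,1,0,0,0], [4,3,3,3,2,2,2,0,0,0], 0, [(75,false)]⟩,
   ⟨[5,3,3,3,1,1,1,1,0,0], [4,3,3,3,2,2,2,2,0,0], 7, [(83,false)]⟩,
   ⟨[5,3,3,3,3,1,1,1,0,0], [4,3,3,3,3,2,2,2,0,0], 4, [(84,false)]⟩,
   ⟨[4,3,2,2,2,1,0,1,0,0], [4,3,4,3,2,2,2,1,0,0], 2, [(37,false)]⟩,
   ⟨[3,3,2,2,2,1,0,1,0,0], [6,3,4,3,2,2,2,1,0,0], 0, [(86,false)]⟩,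
   ⟨[3,2,2,2,2,1,0,1,0,0], [6,5,4,3,2,2,2,1,0,0], 1, [(87,false)]⟩,
   ⟨[3,2,2,2,2,1,2,1,0,0], [6,5,4,3,2,2,1,1,0,0], 6, [(88,false)]⟩,
   ⟨[3,2,2,3,2,1,2,1,0,0], [6,5,4,4,2,2,1,1,0,0], 3, [(89,false)]⟩,
   ⟨[4,2,2,3,2,1,2,1,0,0], [7,5,4,4,2,2,1,1,0,0], 0, [(90,false)]⟩,
   ⟨[4,4,2,3,2,1,2,1,0,0], [7,4,4,4,2,2,1,1,0,0], 1, [(91,false)]⟩,
   ⟨[4,4,3,3,2,1,2,1,0,0], [7,4,5,4,2,2,1,1,0,0], 2, [(92,false)]⟩,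
   ⟨[6,4,3,3,2,1,2,1,0,0], [6,4,5,4,2,2,1,1,0,0], 0, [(93,false)]⟩,
   ⟨[6,4,3,5,2,1,2,1,0,0], [6,4,5,3,2,2,1,1,0,0], 3, [(94,false)]⟩,
   ⟨[6,4,3,5,3,1,2,1,0,0], [6,4,5,3,3,2,1,1,0,0], 4, [(95,false)]⟩,
   ⟨[6,4,3,5,3,1,3,1,0,0], [6,4,5,3,3,2,2,1,0,0], 6, [(96,false)]⟩,
   ⟨[4,3,3,2,1,2,0,0,1,0], [4,2,3,3,2,2,2,0,1,0], 4, [(36,false)]⟩,
   ⟨[4,3,3,2,1,2,2,0,1,0], [4,2,3,3,2,2,1,0,1,0], 6, [(98,false)]⟩,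
   ⟨[4,3,3,4,1,2,2,0,1,0], [4,2,3,2,2,2,1,0,1,0], 3, [(99,false)]⟩,
   ⟨[6,3,3,4,1,2,2,0,1,0], [3,2,3,2,2,2,1,0,1,0], 0, [(100,false)]⟩,
   ⟨[6,4,3,4,1,2,2,0,1,0], [3,3,3,2,2,2,1,0,1,0], 1, [(101,false)]⟩,
   ⟨[6,4,5,4,1,2,2,0,1,0], [3,3,2,2,2,2,1,0,1,0], 2, [(102,false)]⟩,
   ⟨[7,4,5,4,1,2,2,0,1,0], [4,3,2,2,2,2,1,0,1,0], 0, [(103,false)]⟩,
   ⟨[7,4,5,5,1,2,2,0,1,0], [4,3,2,3,2,2,1,0,1,0], 3, [(104,false)]⟩,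
   ⟨[7,4,5,5,1,4,2,0,1,0], [4,3,2,3,2,1,1,0,1,0], 5, [(105,false)]⟩,
   ⟨[7,4,6,5,1,4,2,0,1,0], [4,3,3,3,2,1,1,0,1,0], 2, [(106,false)]⟩,
   ⟨[8,4,6,5,1,4,2,0,1,0], [5,3,3,3,2,1,1,0,1,0], 0, [(107,false)]⟩,
   ⟨[8,4,6,5,1,4,2,0,3,0], [5,3,3,3,2,1,1,0,0,0], 8, [(108,false)]⟩,
   ⟨[8,4,6,5,1,4,2,1,3,0], [4,3,3,3,1,2,2,1,0,0], 7, [(109,false),(50,false),(70,true)]⟩,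
   ⟨[8,4,6,5,4,4,2,1,3,0], [4,3,3,3,3,2,2,1,0,0], 4, [(110,false)]⟩,
   ⟨[8,4,6,5,1,4,2,1,1,0], [5,3,3,3,2,1,1,2,1,0], 7, [(108,false)]⟩,
   ⟨[8,4,6,5,4,4,2,1,1,0], [5,3,3,3,3,1,1,2,1,0], 4, [(112,false)]⟩,
   ⟨[8,4,6,5,4,4,2,1,3,0], [5,3,3,3,3,1,1,2,0,0], 8, [(113,false)]⟩,
   ⟨[4,4,3,3,3,2,2,1,0,0], [5,5,3,3,3,1,1,2,0,0], 1, [(111,true),(114,false)]⟩,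
   ⟨[6,4,3,3,3,2,2,1,0,0], [6,5,3,3,3,1,1,2,0,0], 0, [(115,false)]⟩,
   ⟨[6,4,5,3,3,2,2,1,0,0], [6,5,4,3,3,1,1,2,0,0], 2, [(116,false)]⟩,
   ⟨[4,3,3,2,2,2,0,1,0,1], [4,3,2,3,2,0,2,1,0,1], 9, [(19,false)]⟩,
   ⟨[4,3,2,2,2,1,2,1,0,0], [4,3,4,3,2,2,1,1,0,0], 6, [(86,false)]⟩,
   ⟨[4,3,2,4,2,1,2,1,0,0], [4,3,4,2,2,2,1,1,0,0], 3, [(119,false)]⟩,
   ⟨[3,3,2,1,2,1,0,1,0,0], [6,3,4,5,2,2,2,1,0,0], 3, [(87,false)]⟩,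
   ⟨[3,3,2,1,2,1,1,1,0,0], [6,3,4,5,2,2,3,1,0,0], 6, [(121,false)]⟩,
   ⟨[3,3,2,3,2,1,1,1,0,0], [6,3,4,4,2,2,3,1,0,0], 3, [(122,false)]⟩,
   ⟨[5,3,2,3,2,1,1,1,0,0], [5,3,4,4,2,2,3,1,0,0], 0, [(123,false)]⟩,
   ⟨[5,4,2,3,2,1,1,1,0,0], [5,4,4,4,2,2,3,1,0,0], 1, [(124,false)]⟩,
   ⟨[5,4,4,3,2,1,1,1,0,0], [5,4,3,4,2,2,3,1,0,0], 2, [(125,false)]⟩,
   ⟨[6,4,4,3,2,1,1,1,0,0], [6,4,3,4,2,2,3,1,0,0], 0, [(126,false)]⟩,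
   ⟨[6,4,4,4,2,1,1,1,0,0], [6,4,3,5,2,2,3,1,0,0], 3, [(127,false)]⟩,
   ⟨[6,4,4,4,3,1,1,1,0,0], [6,4,3,5,3,2,3,1,0,0], 4, [(128,false)]⟩,
   ⟨[6,4,4,4,3,1,1,2,0,0], [6,4,3,5,3,2,3,2,0,0], 7, [(129,false)]⟩,
   ⟨[6,4,3,5,3,1,3,2,0,0], [6,4,5,3,3,2,2,2,0,0], 7, [(97,false)]⟩,
   ⟨[5,5,3,3,3,1,1,1,0,0], [4,4,3,3,3,2,2,2,0,0], 1, [(85,false)]⟩,
   ⟨[6,4,3,3,3,2,2,2,0,0], [6,5,3,3,3,1,1,1,0,0], 0, [(132,true)]⟩,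
   ⟨[6,4,5,3,3,2,2,2,0,0], [6,5,4,3,3,1,1,1,0,0], 2, [(133,false)]⟩,
   ⟨[6,4,3,5,3,2,3,2,0,0], [6,5,4,3,3,3,1,1,0,0], 5, [(131,false),(134,false)]⟩,
   ⟨[6,4,4,4,3,1,1,2,0,2], [6,5,4,3,3,3,1,1,0,1], 9, [(130,false),(135,false)]⟩,
   ⟨[6,4,4,4,3,1,1,3,0,2], [6,5,4,3,3,3,1,3,0,1], 7, [(136,false)]⟩,
   ⟨[6,5,4,3,5,3,1,3,0,1], [6,4,4,4,4,1,1,3,0,2], 4, [(137,true)]⟩,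
   ⟨[6,6,4,4,4,1,1,3,0,2], [6,6,4,3,5,3,1,3,0,1], 1, [(138,true)]⟩,
   ⟨[7,6,4,3,5,3,1,3,0,1], [8,6,4,4,4,1,1,3,0,2], 0, [(139,true)]⟩,
   ⟨[6,4,4,3,3,1,1,1,0,0], [6,4,3,4,3,2,3,1,0,0], 4, [(127,false)]⟩,
   ⟨[6,5,4,3,3,1,1,1,0,0], [6,5,3,4,3,2,3,1,0,0], 1, [(141,false)]⟩,
   ⟨[6,5,4,3,3,3,1,1,0,0], [6,5,3,4,3,1,3,1,0,0], 5, [(142,false)]⟩,
   ⟨[6,5,4,3,3,3,1,1,0,1], [6,5,3,4,3,1,3,1,0,1], 9, [(143,false)]⟩,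
   ⟨[6,5,4,3,3,3,1,3,0,1], [6,5,3,4,3,1,3,3,0,1], 7, [(144,false)]⟩,
   ⟨[6,5,4,3,5,3,1,3,0,1], [6,5,3,4,5,1,3,3,0,1], 4, [(145,false)]⟩,
   ⟨[6,6,4,3,5,3,1,3,0,1], [6,6,3,4,5,1,3,3,0,1], 1, [(146,false)]⟩,
   ⟨[7,6,4,3,5,3,1,3,0,1], [7,6,3,4,5,1,3,3,0,1], 0, [(147,false)]⟩,
   ⟨[6,4,4,3,2,1,1,1,0,1], [6,4,3,4,2,2,3,1,0,1], 9, [(127,false)]⟩,
   ⟨[6,4,4,3,2,1,1,2,0,1], [6,4,3,4,2,2,3,2,0,1], 7, [(149,false)]⟩,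
   ⟨[6,4,4,3,4,1,1,2,0,1], [6,4,3,4,4,2,3,2,0,1], 4, [(150,false)]⟩,
   ⟨[6,6,4,3,4,1,1,2,0,1], [6,6,3,4,4,2,3,2,0,1], 1, [(151,false)]⟩,
   ⟨[7,6,4,3,4,1,1,2,0,1], [7,6,3,4,4,2,3,2,0,1], 0, [(152,false)]⟩,
   ⟨[4,3,3,2,2,2,0,2,0,1], [4,3,2,3,2,0,2,2,0,1], 7, [(118,false)]⟩,
   ⟨[4,3,3,2,3,2,0,2,0,1], [4,3,2,3,3,0,2,2,0,1], 4, [(154,false)]⟩,
   ⟨[4,4,3,2,3,2,0,2,0,1], [4,4,2,3,3,0,2,2,0,1], 1, [(155,false)]⟩,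
   ⟨[4,3,3,2,2,1,0,1,0,1], [4,3,2,3,2,2,2,1,0,1], 9, [(37,false)]⟩,
   ⟨[4,3,3,2,2,1,0,2,0,1], [4,3,2,3,2,2,2,2,0,1], 7, [(157,false)]⟩,
   ⟨[4,3,3,2,3,1,0,2,0,1], [4,3,2,3,3,2,2,2,0,1], 4, [(158,false)]⟩,
   ⟨[5,3,3,3,1,1,2,1,0,0], [7,6,4,5,5,1,2,2,0,0], 7, [(80,false)]⟩,
   ⟨[5,3,3,3,3,1,2,1,0,0], [7,6,4,5,3,1,2,2,0,0], 4, [(160,false)]⟩,
   ⟨[5,3,2,4,2,1,2,1,0,0], [5,3,4,2,2,2,1,1,0,0], 0, [(120,false)]⟩,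
   ⟨[5,4,2,4,2,1,2,1,0,0], [5,4,4,2,2,2,1,1,0,0], 1, [(162,false)]⟩,
   ⟨[5,4,4,4,2,1,2,1,0,0], [5,4,3,2,2,2,1,1,0,0], 2, [(163,false)]⟩,
   ⟨[7,4,4,4,2,1,2,1,0,0], [4,4,3,2,2,2,1,1,0,0], 0, [(164,false)]⟩,
   ⟨[7,4,4,5,2,1,2,1,0,0], [4,4,3,3,2,2,1,1,0,0], 3, [(165,false)]⟩,
   ⟨[7,4,4,5,3,1,2,1,0,0], [4,4,3,3,3,2,1,1,0,0], 4, [(166,false)]⟩,
   ⟨[7,6,4,5,3,1,2,1,0,0], [4,3,3,3,3,2,1,1,0,0], 1, [(167,false)]⟩,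
   ⟨[7,6,4,5,3,1,2,2,0,0], [4,3,3,3,3,2,1,2,0,0], 7, [(168,false)]⟩,
   ⟨[3,3,2,2,2,1,2,1,0,0], [6,3,4,3,2,2,1,1,0,0], 6, [(87,false)]⟩,
   ⟨[3,3,2,3,2,1,2,1,0,0], [6,3,4,4,2,2,1,1,0,0], 3, [(170,false)]⟩,
   ⟨[5,3,2,3,2,1,2,1,0,0], [5,3,4,4,2,2,1,1,0,0], 0, [(171,false)]⟩,
   ⟨[5,4,2,3,2,1,2,1,0,0], [5,4,4,4,2,2,1,1,0,0], 1, [(172,false)]⟩,
   ⟨[5,4,4,3,2,1,2,1,0,0], [5,4,3,4,2,2,1,1,0,0], 2, [(173,false)]⟩,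
   ⟨[6,4,4,3,2,1,2,1,0,0], [6,4,3,4,2,2,1,1,0,0], 0, [(174,false)]⟩,
   ⟨[6,4,4,5,2,1,2,1,0,0], [6,4,3,3,2,2,1,1,0,0], 3, [(175,false)]⟩,
   ⟨[6,4,4,5,3,1,2,1,0,0], [6,4,3,3,3,2,1,1,0,0], 4, [(176,false)]⟩,
   ⟨[6,5,4,5,3,1,2,1,0,0], [6,5,3,3,3,2,1,1,0,0], 1, [(177,false)]⟩,
   ⟨[6,5,4,5,3,1,2,2,0,0], [6,5,3,3,3,2,1,2,0,0], 7, [(178,false)]⟩,
   ⟨[6,5,4,5,3,1,2,2,0,2], [6,5,3,3,3,2,1,2,0,2], 9, [(179,false)]⟩,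
   ⟨[6,5,4,5,3,1,2,3,0,2], [6,5,3,3,3,2,1,3,0,2], 7, [(180,false)]⟩,
   ⟨[4,3,3,3,1,1,2,1,0,0], [8,6,4,5,5,1,2,2,0,0], 7, [(69,false)]⟩,
   ⟨[4,3,3,3,3,1,2,1,0,0], [8,6,4,5,3,1,2,2,0,0], 4, [(182,false)]⟩,
   ⟨[4,4,3,3,3,1,2,1,0,0], [8,5,4,5,3,1,2,2,0,0], 1, [(183,false)]⟩,
   ⟨[6,4,3,3,3,1,2,1,0,0], [6,5,4,5,3,1,2,2,0,0], 0, [(184,false)]⟩,
   ⟨[6,4,3,3,3,1,2,1,0,1], [6,5,4,5,3,1,2,2,0,2], 9, [(185,false)]⟩,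
   ⟨[6,4,3,3,3,1,2,3,0,1], [6,5,4,5,3,1,2,3,0,2], 7, [(186,false)]⟩,
   ⟨[5,4,4,3,2,1,2,1,0,1], [5,4,3,4,2,2,1,1,0,1], 9, [(174,false)]⟩,
   ⟨[5,4,4,3,2,1,2,2,0,1], [5,4,3,4,2,2,1,2,0,1], 7, [(188,false)]⟩,
   ⟨[5,4,4,3,4,1,2,2,0,1], [5,4,3,4,4,2,1,2,0,1], 4, [(189,false)]⟩,
   ⟨[6,4,3,5,2,1,2,1,0,1], [6,4,5,3,2,2,1,1,0,1], 9, [(95,false)]⟩,
   ⟨[6,4,3,5,2,1,2,2,0,1], [6,4,5,3,2,2,1,2,0,1], 7, [(191,false)]⟩,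
   ⟨[6,4,3,5,4,1,2,2,0,1], [6,4,5,3,4,2,1,2,0,1], 4, [(192,false)]⟩,
   ⟨[6,6,3,5,4,1,2,2,0,1], [6,6,5,3,4,2,1,2,0,1], 1, [(193,false)]⟩,
   ⟨[6,4,4,3,3,3,1,1,0,0], [6,4,3,4,3,1,3,1,0,0], 5, [(141,false)]⟩,
   ⟨[6,4,4,3,3,3,1,1,0,1], [6,4,3,4,3,1,3,1,0,1], 9, [(195,false)]⟩,
   ⟨[6,4,4,3,3,3,1,3,0,1], [6,4,3,4,3,1,3,3,0,1], 7, [(196,false)]⟩,
   ⟨[6,4,4,3,4,3,1,3,0,1], [6,4,3,4,4,1,3,3,0,1], 4, [(197,false)]⟩,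
   ⟨[6,6,4,3,4,3,1,3,0,1], [6,6,3,4,4,1,3,3,0,1], 1, [(198,false)]⟩]

/-- certificate data -/
def env1 : List Entry :=
  [⟨[7,6,4,3,4,3,1,3,0,1], [7,6,3,4,4,1,3,3,0,1], 0, [(199,false)]⟩,
   ⟨[7,6,6,3,4,3,1,3,0,1], [7,6,5,4,4,1,3,3,0,1], 2, [(200,false)]⟩,
   ⟨[7,6,6,5,4,3,1,3,0,1], [7,6,5,6,4,1,3,3,0,1], 3, [(201,false)]⟩,
   ⟨[10,6,6,5,4,3,1,3,0,1], [10,6,5,6,4,1,3,3,0,1], 0, [(202,false)]⟩,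
   ⟨[6,4,4,3,2,3,2,1,0,0], [6,4,3,4,2,1,1,1,0,0], 5, [(175,false)]⟩,
   ⟨[3,2,2,1,2,1,0,1,0,0], [6,5,4,5,2,2,2,1,0,0], 3, [(88,false)]⟩,
   ⟨[3,2,2,1,2,1,1,1,0,0], [6,5,4,5,2,2,3,1,0,0], 6, [(205,false)]⟩,
   ⟨[3,2,2,3,2,1,1,1,0,0], [6,5,4,4,2,2,3,1,0,0], 3, [(206,false)]⟩,
   ⟨[4,2,2,3,2,1,1,1,0,0], [7,5,4,4,2,2,3,1,0,0], 0, [(207,false)]⟩,
   ⟨[4,4,2,3,2,1,1,1,0,0], [7,4,4,4,2,2,3,1,0,0], 1, [(208,false)]⟩,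
   ⟨[4,4,3,3,2,1,1,1,0,0], [7,4,5,4,2,2,3,1,0,0], 2, [(209,false)]⟩,
   ⟨[6,4,3,3,2,1,1,1,0,0], [6,4,5,4,2,2,3,1,0,0], 0, [(210,false)]⟩,
   ⟨[6,4,3,4,2,1,1,1,0,0], [6,4,5,5,2,2,3,1,0,0], 3, [(211,false)]⟩,
   ⟨[6,4,4,3,3,3,2,1,0,0], [6,4,5,5,3,2,3,1,0,0], 4, [(204,false),(212,false)]⟩,
   ⟨[6,4,4,3,3,3,1,1,0,0], [6,4,5,5,3,2,2,1,0,0], 6, [(213,false)]⟩,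
   ⟨[6,4,4,3,3,3,1,1,0,1], [6,4,5,5,3,2,2,1,0,1], 9, [(214,false)]⟩,
   ⟨[6,4,4,3,3,3,1,3,0,1], [6,4,5,5,3,2,2,3,0,1], 7, [(215,false)]⟩,
   ⟨[6,4,4,3,4,3,1,3,0,1], [6,4,5,5,4,2,2,3,0,1], 4, [(216,false)]⟩,
   ⟨[6,6,4,3,4,3,1,3,0,1], [6,6,5,5,4,2,2,3,0,1], 1, [(217,false)]⟩,
   ⟨[7,6,4,3,4,3,1,3,0,1], [10,6,5,5,4,2,2,3,0,1], 0, [(218,false)]⟩,
   ⟨[7,6,6,3,4,3,1,3,0,1], [10,6,7,5,4,2,2,3,0,1], 2, [(219,false)]⟩,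
   ⟨[7,6,6,5,4,3,1,3,0,1], [10,6,7,7,4,2,2,3,0,1], 3, [(220,false)]⟩,
   ⟨[10,6,6,5,4,3,1,3,0,1], [10,6,7,7,4,2,2,3,0,1], 0, [(221,false)]⟩,
   ⟨[6,4,4,3,3,1,1,1,0,1], [6,4,3,4,3,2,3,1,0,1], 9, [(141,false)]⟩,
   ⟨[6,5,4,4,3,1,1,1,0,0], [6,5,3,5,3,2,3,1,0,0], 1, [(129,false)]⟩,
   ⟨[6,5,4,4,3,1,1,2,0,0], [6,5,3,5,3,2,3,2,0,0], 7, [(224,false)]⟩,
   ⟨[4,3,3,3,1,1,1,1,0,0], [5,3,3,3,2,2,2,2,0,0], 7, [(75,false)]⟩,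
   ⟨[4,3,3,3,3,1,1,1,0,0], [5,3,3,3,3,2,2,2,0,0], 4, [(226,false)]⟩,
   ⟨[4,4,3,3,3,1,1,1,0,0], [5,5,3,3,3,2,2,2,0,0], 1, [(227,false)]⟩,
   ⟨[6,4,3,3,3,1,1,1,0,0], [6,5,3,3,3,2,2,2,0,0], 0, [(228,false)]⟩,
   ⟨[6,4,4,3,3,1,1,1,0,0], [6,5,5,3,3,2,2,2,0,0], 2, [(229,false)]⟩,
   ⟨[6,5,3,5,3,1,2,1,0,0], [6,5,5,3,3,2,1,1,0,0], 1, [(96,false)]⟩,
   ⟨[6,5,3,5,3,1,3,1,0,0], [6,5,5,3,3,2,2,1,0,0], 6, [(231,false)]⟩,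
   ⟨[6,5,3,5,3,1,3,2,0,0], [6,5,5,3,3,2,2,2,0,0], 7, [(232,false)]⟩,
   ⟨[6,4,4,3,3,3,1,1,0,0], [6,5,3,5,3,2,3,2,0,0], 5, [(230,false),(233,true)]⟩,
   ⟨[6,4,3,5,2,1,3,1,0,0], [6,4,5,3,2,2,2,1,0,0], 6, [(95,false)]⟩,
   ⟨[6,4,3,5,2,1,3,1,0,1], [6,4,5,3,2,2,2,1,0,1], 9, [(235,false)]⟩,
   ⟨[6,4,3,5,2,1,3,2,0,1], [6,4,5,3,2,2,2,2,0,1], 7, [(236,false)]⟩,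
   ⟨[6,4,3,5,4,1,3,2,0,1], [6,4,5,3,4,2,2,2,0,1], 4, [(237,false)]⟩,
   ⟨[6,6,3,5,4,1,3,2,0,1], [6,6,5,3,4,2,2,2,0,1], 1, [(238,false)]⟩,
   ⟨[8,5,6,5,1,4,2,0,3,0], [8,7,4,5,5,3,2,3,0,0], 1, [(109,false),(50,false)]⟩,
   ⟨[4,2,3,3,1,1,2,0,0,0], [5,4,3,3,2,2,1,0,0,0], 2, [(64,false)]⟩,
   ⟨[8,6,4,5,5,1,2,3,0,0], [5,3,3,3,2,2,1,0,0,0], 4, [(77,false)]⟩,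
   ⟨[8,7,4,5,5,1,2,3,0,0], [5,4,3,3,2,2,1,0,0,0], 1, [(242,false)]⟩,
   ⟨[4,2,3,3,1,2,2,0,0,0], [8,7,4,5,5,3,2,3,0,0], 5, [(241,false),(243,true)]⟩,
   ⟨[8,5,6,5,1,4,2,1,3,0], [4,2,3,3,1,2,2,1,0,0], 7, [(240,false),(244,true)]⟩,
   ⟨[4,2,3,3,2,2,2,1,0,0], [8,5,6,5,5,4,2,1,3,0], 4, [(245,true)]⟩,
   ⟨[4,4,3,3,2,2,2,1,0,0], [8,8,6,5,5,4,2,1,3,0], 1, [(246,false)]⟩,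
   ⟨[8,5,6,5,1,4,2,0,1,0], [5,4,3,3,2,1,1,0,1,0], 1, [(108,false)]⟩,
   ⟨[8,5,6,5,1,4,2,1,1,0], [5,4,3,3,2,1,1,2,1,0], 7, [(248,false)]⟩,
   ⟨[8,5,6,5,5,4,2,1,1,0], [5,4,3,3,4,1,1,2,1,0], 4, [(249,false)]⟩,
   ⟨[8,8,6,5,5,4,2,1,1,0], [5,5,3,3,4,1,1,2,1,0], 1, [(250,false)]⟩,
   ⟨[8,8,6,5,5,4,2,1,3,0], [5,5,3,3,4,1,1,2,0,0], 8, [(251,false)]⟩,
   ⟨[6,4,3,3,2,2,2,1,0,0], [6,5,3,3,4,1,1,2,0,0], 0, [(247,false),(252,false)]⟩,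
   ⟨[6,4,5,3,2,2,2,1,0,0], [6,5,4,3,4,1,1,2,0,0], 2, [(253,false)]⟩,
   ⟨[6,5,4,3,4,1,1,2,0,2], [6,4,3,5,2,1,3,1,0,1], 9, [(254,true),(235,true)]⟩,
   ⟨[6,4,3,5,2,1,3,2,0,1], [6,5,4,3,4,1,1,4,0,2], 7, [(255,true)]⟩,
   ⟨[6,4,3,5,4,1,3,2,0,1], [6,5,4,3,5,1,1,4,0,2], 4, [(256,false)]⟩,
   ⟨[6,6,3,5,4,1,3,2,0,1], [6,6,4,3,5,1,1,4,0,2], 1, [(257,false)]⟩,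
   ⟨[8,6,3,5,4,1,3,2,0,1], [7,6,4,3,5,1,1,4,0,2], 0, [(258,false)]⟩,
   ⟨[6,4,4,4,3,1,3,1,0,0], [6,4,3,5,3,2,2,1,0,0], 6, [(129,false)]⟩,
   ⟨[6,4,3,5,3,2,2,2,0,0], [6,4,4,4,3,1,3,2,0,0], 7, [(260,true)]⟩,
   ⟨[6,4,3,5,3,2,2,2,0,2], [6,4,4,4,3,1,3,2,0,2], 9, [(261,false)]⟩,
   ⟨[6,4,3,5,3,2,2,3,0,2], [6,4,4,4,3,1,3,3,0,2], 7, [(262,false)]⟩,
   ⟨[6,4,3,5,4,2,2,3,0,2], [6,4,4,4,4,1,3,3,0,2], 4, [(263,false)]⟩,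
   ⟨[6,4,3,5,3,2,2,2,0,0], [6,5,3,4,3,1,1,1,0,0], 3, [(133,false)]⟩,
   ⟨[6,4,4,3,3,1,2,1,0,0], [6,4,3,4,3,2,1,1,0,0], 4, [(175,false)]⟩,
   ⟨[6,5,4,3,3,1,2,1,0,0], [6,5,3,4,3,2,1,1,0,0], 1, [(266,false)]⟩,
   ⟨[6,5,4,3,3,3,2,1,0,0], [6,5,3,4,3,1,1,1,0,0], 5, [(267,false)]⟩,
   ⟨[6,4,3,5,3,2,2,2,0,2], [6,5,4,3,3,3,2,1,0,1], 9, [(265,false),(268,true)]⟩,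
   ⟨[6,4,3,5,3,2,2,3,0,2], [6,5,4,3,3,3,2,3,0,1], 7, [(269,false)]⟩,
   ⟨[6,5,4,3,5,3,2,3,0,1], [6,4,3,5,4,2,2,3,0,2], 4, [(270,true)]⟩,
   ⟨[6,5,4,3,3,3,2,1,0,1], [6,5,3,4,3,1,1,1,0,1], 9, [(268,false)]⟩,
   ⟨[6,5,4,3,3,3,2,3,0,1], [6,5,3,4,3,1,1,3,0,1], 7, [(272,false)]⟩,
   ⟨[6,5,4,3,5,3,2,3,0,1], [6,5,3,4,5,1,1,3,0,1], 4, [(273,false)]⟩,
   ⟨[4,4,3,3,3,2,2,2,0,2], [5,5,3,3,3,1,1,1,0,1], 9, [(132,true)]⟩,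
   ⟨[5,5,3,3,3,1,1,3,0,1], [4,4,3,3,3,2,2,3,0,2], 7, [(275,true)]⟩,
   ⟨[5,5,3,3,5,1,1,3,0,1], [4,4,3,3,4,2,2,3,0,2], 4, [(276,false)]⟩,
   ⟨[6,4,4,5,3,1,2,2,0,0], [6,4,3,3,3,2,1,2,0,0], 7, [(177,false)]⟩,
   ⟨[6,4,4,5,3,1,2,2,0,2], [6,4,3,3,3,2,1,2,0,2], 9, [(278,false)]⟩,
   ⟨[6,4,4,5,3,1,2,3,0,2], [6,4,3,3,3,2,1,3,0,2], 7, [(279,false)]⟩,
   ⟨[6,4,4,5,4,1,2,3,0,2], [6,4,3,3,4,2,1,3,0,2], 4, [(280,false)]⟩,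
   ⟨[7,6,4,5,3,1,2,2,0,2], [4,3,3,3,3,2,1,2,0,2], 9, [(169,false)]⟩,
   ⟨[5,3,3,3,3,1,2,1,0,1], [7,6,4,5,3,1,2,2,0,2], 9, [(161,false)]⟩,
   ⟨[6,4,4,3,3,1,1,2,0,0], [6,4,3,4,3,2,3,2,0,0], 7, [(141,false)]⟩,
   ⟨[6,4,3,5,3,2,2,1,0,0], [6,5,3,4,3,1,1,2,0,0], 3, [(116,false)]⟩,
   ⟨[5,5,4,3,4,1,2,2,0,1], [5,5,3,4,4,2,1,2,0,1], 1, [(190,false)]⟩,
   ⟨[7,5,4,3,4,1,2,2,0,1], [7,5,3,4,4,2,1,2,0,1], 0, [(286,false)]⟩,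
   ⟨[7,5,4,3,4,1,2,2,0,1], [7,5,6,4,4,2,1,2,0,1], 2, [(287,false)]⟩,
   ⟨[6,4,4,5,2,1,2,1,0,1], [6,4,3,3,2,2,1,1,0,1], 9, [(176,false)]⟩,
   ⟨[6,4,4,5,2,1,2,2,0,1], [6,4,3,3,2,2,1,2,0,1], 7, [(289,false)]⟩,
   ⟨[6,4,4,5,4,1,2,2,0,1], [6,4,3,3,4,2,1,2,0,1], 4, [(290,false)]⟩,
   ⟨[6,6,4,5,4,1,2,2,0,1], [6,6,3,3,4,2,1,2,0,1], 1, [(291,false)]⟩,
   ⟨[5,4,2,3,2,1,2,1,0,1], [5,4,4,4,2,2,1,1,0,1], 9, [(173,false)]⟩,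
   ⟨[5,4,2,3,2,1,2,2,0,1], [5,4,4,4,2,2,1,2,0,1], 7, [(293,false)]⟩,
   ⟨[5,4,2,3,4,1,2,2,0,1], [5,4,4,4,4,2,1,2,0,1], 4, [(294,false)]⟩,
   ⟨[7,4,5,4,1,4,2,0,1,0], [4,3,2,2,2,1,1,0,1,0], 5, [(104,false)]⟩,
   ⟨[7,4,6,4,1,4,2,0,1,0], [4,3,3,2,2,1,1,0,1,0], 2, [(296,false)]⟩,
   ⟨[7,4,6,4,1,4,2,0,3,0], [4,3,3,2,2,1,1,0,0,0], 8, [(297,false)]⟩,
   ⟨[7,5,4,4,4,1,2,1,0,0], [4,2,3,2,1,2,1,1,0,0], 4, [(43,false)]⟩,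
   ⟨[7,6,4,4,4,1,2,1,0,0], [4,3,3,2,1,2,1,1,0,0], 1, [(299,false)]⟩,
   ⟨[7,6,4,4,4,3,2,1,0,0], [4,3,3,2,1,1,1,1,0,0], 5, [(300,false)]⟩,
   ⟨[7,6,4,4,4,3,2,3,0,0], [4,3,3,2,1,1,1,0,0,0], 7, [(301,false)]⟩,
   ⟨[7,6,4,4,5,3,2,3,0,0], [4,3,3,2,2,1,1,0,0,0], 4, [(302,false)]⟩,
   ⟨[7,4,5,4,3,2,2,0,1,0], [4,3,2,2,1,2,1,0,1,0], 4, [(104,false)]⟩,
   ⟨[7,4,5,4,3,4,2,0,1,0], [4,3,2,2,1,1,1,0,1,0], 5, [(304,false)]⟩,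
   ⟨[7,4,6,4,3,4,2,0,1,0], [4,3,3,2,1,1,1,0,1,0], 2, [(305,false)]⟩,
   ⟨[7,4,6,4,3,4,2,0,3,0], [4,3,3,2,1,1,1,0,0,0], 8, [(306,false)]⟩,
   ⟨[7,4,5,4,3,4,2,0,3,0], [4,3,2,2,1,1,1,0,0,0], 8, [(305,false)]⟩,
   ⟨[2,2,2,1,1,1,1,0,0,0], [7,4,4,5,2,2,2,0,0,0], 6, [(59,false)]⟩,
   ⟨[2,2,2,2,1,1,1,0,0,0], [7,4,4,4,2,2,2,0,0,0], 3, [(309,false)]⟩,
   ⟨[4,2,2,2,1,1,1,0,0,0], [5,4,4,4,2,2,2,0,0,0], 0, [(310,false)]⟩,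
   ⟨[4,3,2,2,1,1,1,0,0,0], [5,3,4,4,2,2,2,0,0,0], 1, [(311,false)]⟩,
   ⟨[7,4,6,4,3,4,2,0,3,0], [5,3,3,4,2,2,2,0,0,0], 2, [(308,false),(312,false)]⟩,
   ⟨[7,6,4,4,5,3,2,3,0,0], [5,3,3,4,1,2,2,0,0,0], 4, [(302,false),(307,true),(313,false)]⟩,
   ⟨[7,4,6,4,1,5,2,0,3,0], [5,3,3,4,1,1,2,0,0,0], 5, [(298,false),(303,true),(314,false)]⟩,
   ⟨[7,4,6,4,1,5,2,0,3,0], [4,3,3,2,2,2,1,0,0,0], 5, [(298,false)]⟩,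
   ⟨[7,6,4,4,4,1,2,3,0,0], [4,3,3,2,1,2,1,0,0,0], 7, [(300,false)]⟩,
   ⟨[7,6,4,4,5,1,2,3,0,0], [4,3,3,2,2,2,1,0,0,0], 4, [(317,false)]⟩,
   ⟨[5,3,3,4,1,1,2,1,0,0], [7,6,4,4,5,1,2,2,0,0], 7, [(315,true),(316,false),(318,true)]⟩,
   ⟨[5,3,3,4,1,1,2,1,0,1], [7,6,4,4,5,1,2,2,0,2], 9, [(319,false)]⟩,
   ⟨[7,4,4,4,3,1,2,1,0,0], [4,4,3,2,3,2,1,1,0,0], 4, [(165,false)]⟩,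
   ⟨[7,6,4,4,3,1,2,1,0,0], [4,3,3,2,3,2,1,1,0,0], 1, [(321,false)]⟩,
   ⟨[7,6,4,4,3,1,2,2,0,0], [4,3,3,2,3,2,1,2,0,0], 7, [(322,false)]⟩,
   ⟨[7,6,4,4,5,1,2,2,0,0], [4,3,3,2,2,2,1,2,0,0], 4, [(323,false)]⟩,
   ⟨[7,6,4,4,5,1,2,2,0,2], [4,3,3,2,2,2,1,2,0,2], 9, [(324,false)]⟩,
   ⟨[5,4,2,4,3,1,2,1,0,0], [5,4,4,2,3,2,1,1,0,0], 4, [(163,false)]⟩,
   ⟨[5,4,2,4,3,1,2,2,0,0], [5,4,4,2,3,2,1,2,0,0], 7, [(326,false)]⟩,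
   ⟨[5,4,2,4,3,1,2,2,0,2], [5,4,4,2,3,2,1,2,0,2], 9, [(327,false)]⟩,
   ⟨[5,4,2,4,3,1,2,3,0,2], [5,4,4,2,3,2,1,3,0,2], 7, [(328,false)]⟩,
   ⟨[5,4,2,4,4,1,2,3,0,2], [5,4,4,2,4,2,1,3,0,2], 4, [(329,false)]⟩,
   ⟨[5,5,2,4,4,1,2,3,0,2], [5,5,4,2,4,2,1,3,0,2], 1, [(330,false)]⟩,
   ⟨[6,5,2,4,4,1,2,3,0,2], [6,5,4,2,4,2,1,3,0,2], 0, [(331,false)]⟩,
   ⟨[6,5,5,4,4,1,2,3,0,2], [6,5,4,2,4,2,1,3,0,2], 2, [(332,false)]⟩,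
   ⟨[6,4,4,3,2,3,1,1,0,0], [6,4,3,4,2,1,3,1,0,0], 5, [(127,false)]⟩,
   ⟨[6,4,4,3,2,3,1,1,0,1], [6,4,3,4,2,1,3,1,0,1], 9, [(334,false)]⟩,
   ⟨[6,4,4,3,2,3,1,2,0,1], [6,4,3,4,2,1,3,2,0,1], 7, [(335,false)]⟩,
   ⟨[6,4,4,3,4,3,1,2,0,1], [6,4,3,4,4,1,3,2,0,1], 4, [(336,false)]⟩,
   ⟨[6,6,4,3,4,3,1,2,0,1], [6,6,3,4,4,1,3,2,0,1], 1, [(337,false)]⟩,
   ⟨[7,6,4,3,4,3,1,2,0,1], [7,6,3,4,4,1,3,2,0,1], 0, [(338,false)]⟩,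
   ⟨[7,6,4,5,4,3,1,2,0,1], [7,6,3,6,4,1,3,2,0,1], 3, [(339,false)]⟩,
   ⟨[7,6,4,5,5,3,1,3,0,1], [7,6,3,6,5,1,3,3,0,1], 3, [(148,false)]⟩,
   ⟨[7,6,4,5,5,3,1,3,0,1], [8,6,4,5,4,1,1,3,0,2], 3, [(140,false)]⟩,
   ⟨[4,3,3,2,2,1,2,1,0,1], [4,3,2,3,2,2,1,1,0,1], 9, [(38,false)]⟩,
   ⟨[4,3,3,2,2,1,2,2,0,1], [4,3,2,3,2,2,1,2,0,1], 7, [(343,false)]⟩,
   ⟨[4,3,3,2,3,1,2,2,0,1], [4,3,2,3,3,2,1,2,0,1], 4, [(344,false)]⟩,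
   ⟨[5,5,3,3,3,1,2,1,0,0], [7,4,4,5,3,1,2,2,0,0], 1, [(161,false)]⟩,
   ⟨[6,5,3,3,3,1,2,1,0,0], [6,4,4,5,3,1,2,2,0,0], 0, [(346,false)]⟩,
   ⟨[6,4,4,3,3,1,2,2,0,0], [6,5,3,5,3,1,2,1,0,0], 3, [(347,true)]⟩,
   ⟨[6,4,4,3,3,1,2,2,0,0], [6,4,3,4,3,2,1,2,0,0], 7, [(266,false)]⟩,
   ⟨[8,6,4,5,3,1,2,1,0,0], [5,3,3,3,3,2,1,1,0,0], 0, [(168,false)]⟩,
   ⟨[8,6,4,5,3,1,2,2,0,0], [5,3,3,3,3,2,1,2,0,0], 7, [(350,false)]⟩,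
   ⟨[4,3,2,3,2,1,2,0,0,0], [8,6,5,5,4,1,2,3,0,0], 4, [(65,false),(68,true)]⟩,
   ⟨[5,3,3,3,2,1,1,0,0,0], [4,3,3,3,1,2,2,0,0,0], 10, [(50,false),(70,true)]⟩,
   ⟨[5,3,3,3,1,2,2,0,0,0], [4,3,3,3,2,1,1,0,0,0], 10, [(76,true)]⟩,
   ⟨[5,3,3,3,1,2,1,0,0,0], [4,3,3,3,2,1,2,0,0,0], 10, [(77,true),(78,true)]⟩,
   ⟨[5,3,3,3,2,1,2,0,0,0], [4,3,3,3,1,2,1,0,0,0], 10, [(79,true)]⟩,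
   ⟨[5,3,3,3,1,1,2,0,0,0], [4,3,3,3,2,2,1,0,0,0], 10, [(80,false),(82,false)]⟩,
   ⟨[4,3,3,3,3,2,2,2,0,0], [5,3,3,3,3,1,1,1,0,0], 10, [(85,true)]⟩,
   ⟨[6,4,3,5,3,1,3,1,0,0], [6,5,4,3,3,1,1,2,0,0], 10, [(97,false),(117,false)]⟩,
   ⟨[4,3,3,2,2,2,0,1,0,1], [4,3,2,3,2,0,2,1,0,1], 10, [(118,false)]⟩,
   ⟨[6,4,5,3,2,2,1,1,0,0], [6,4,3,5,2,1,2,1,0,0], 10, [(95,true)]⟩,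
   ⟨[4,3,4,2,2,2,1,1,0,0], [4,3,2,4,2,1,2,1,0,0], 10, [(120,true)]⟩,
   ⟨[8,6,4,4,4,1,1,3,0,2], [7,6,3,4,5,1,3,3,0,1], 10, [(140,true),(148,false)]⟩,
   ⟨[7,6,3,4,4,2,3,2,0,1], [7,6,4,3,4,1,1,2,0,1], 10, [(153,true)]⟩,
   ⟨[4,3,3,4,2,1,2,1,0,0], [4,3,2,2,2,2,1,1,0,0], 10, [(39,false)]⟩,
   ⟨[4,4,3,2,3,2,0,2,0,1], [4,4,2,3,3,0,2,2,0,1], 10, [(156,false)]⟩,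
   ⟨[4,3,2,3,3,2,2,2,0,1], [4,3,3,2,3,1,0,2,0,1], 10, [(159,true)]⟩,
   ⟨[5,3,3,3,3,1,2,1,0,0], [4,3,3,3,3,2,1,2,0,0], 10, [(161,false),(169,false)]⟩,
   ⟨[6,5,3,3,3,2,1,3,0,2], [6,4,3,3,3,1,2,3,0,1], 10, [(181,true),(187,true)]⟩,
   ⟨[5,4,4,3,4,1,2,2,0,1], [5,4,3,4,4,2,1,2,0,1], 10, [(190,false)]⟩,
   ⟨[6,6,5,3,4,2,1,2,0,1], [6,6,3,5,4,1,2,2,0,1], 10, [(194,true)]⟩,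
   ⟨[6,4,4,3,3,3,1,1,0,1], [6,4,3,4,3,1,3,1,0,1], 10, [(196,false)]⟩,
   ⟨[10,6,5,6,4,1,3,3,0,1], [7,6,5,6,4,1,3,3,0,1], 10, [(203,true),(222,false),(221,true),(202,false)]⟩,
   ⟨[6,4,3,4,3,2,3,1,0,1], [6,4,4,3,3,1,1,1,0,1], 10, [(223,true)]⟩,
   ⟨[6,5,4,4,3,1,1,2,0,0], [6,4,3,4,3,1,3,1,0,0], 10, [(225,false),(234,true),(195,false)]⟩,
   ⟨[6,6,5,3,4,2,2,2,0,1], [6,6,3,5,4,1,3,2,0,1], 10, [(239,true)]⟩,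
   ⟨[8,6,3,5,4,1,3,2,0,1], [7,6,4,3,5,1,1,4,0,2], 10, [(259,false)]⟩,
   ⟨[6,4,4,4,4,1,3,3,0,2], [6,5,3,4,5,1,1,3,0,1], 10, [(264,true),(271,true),(274,false)]⟩,
   ⟨[5,5,3,3,5,1,1,3,0,1], [4,4,3,3,4,2,2,3,0,2], 10, [(277,false)]⟩,
   ⟨[6,4,4,5,4,1,2,3,0,2], [6,4,3,3,4,2,1,3,0,2], 10, [(281,false)]⟩,
   ⟨[4,3,3,3,3,2,1,2,0,2], [5,3,3,3,3,1,2,1,0,1], 10, [(282,true),(283,true)]⟩,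
   ⟨[6,4,3,4,3,2,3,2,0,0], [6,4,4,3,3,1,1,2,0,0], 10, [(284,true)]⟩,
   ⟨[6,4,4,4,3,1,3,1,0,0], [6,5,3,4,3,1,1,2,0,0], 10, [(260,false),(285,false)]⟩,
   ⟨[6,5,3,3,3,1,1,2,0,0], [6,4,3,3,3,2,2,1,0,0], 10, [(116,true)]⟩,
   ⟨[6,4,4,3,3,1,2,1,0,0], [6,4,3,4,3,2,1,1,0,0], 10, [(266,false)]⟩,
   ⟨[7,5,6,4,4,2,1,2,0,1], [7,5,3,4,4,2,1,2,0,1], 10, [(288,true),(287,false)]⟩,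
   ⟨[4,3,4,3,2,2,1,1,0,0], [4,3,2,2,2,1,2,1,0,0], 10, [(119,true)]⟩,
   ⟨[6,6,4,5,4,1,2,2,0,1], [6,6,3,3,4,2,1,2,0,1], 10, [(292,false)]⟩,
   ⟨[5,4,4,4,4,2,1,2,0,1], [5,4,2,3,4,1,2,2,0,1], 10, [(295,true)]⟩,
   ⟨[5,3,3,4,1,1,2,1,0,1], [4,3,3,2,2,2,1,2,0,2], 10, [(320,false),(325,false)]⟩,
   ⟨[5,4,4,2,3,2,1,2,0,2], [5,4,2,4,3,1,2,2,0,2], 10, [(328,true)]⟩,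
   ⟨[6,5,5,4,4,1,2,3,0,2], [6,5,2,4,4,1,2,3,0,2], 10, [(333,false),(332,true)]⟩,
   ⟨[4,3,3,2,2,1,2,1,0,0], [4,3,2,3,2,2,1,1,0,0], 10, [(38,false)]⟩,
   ⟨[5,3,3,3,2,2,1,0,0,0], [4,3,3,3,1,1,2,0,0,0], 10, [(242,true),(69,true)]⟩,
   ⟨[7,6,4,5,4,3,1,2,0,1], [7,6,3,6,4,1,3,2,0,1], 10, [(340,false)]⟩,
   ⟨[7,6,3,6,5,1,3,3,0,1], [8,6,4,5,4,1,1,3,0,2], 10, [(341,true),(342,false)]⟩,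
   ⟨[4,3,3,2,3,1,2,2,0,1], [4,3,2,3,3,2,1,2,0,1], 10, [(345,false)]⟩,
   ⟨[6,4,5,3,3,2,1,1,0,0], [6,4,3,5,3,1,2,1,0,0], 10, [(96,true)]⟩,
   ⟨[6,5,3,5,3,1,2,1,0,0], [6,4,3,4,3,2,1,2,0,0], 10, [(348,true),(349,false)]⟩]

/-- certificate data -/
def env2 : List Entry :=
  [⟨[5,3,3,3,3,2,1,2,0,0], [4,3,3,3,3,1,2,1,0,0], 10, [(351,true),(183,true)]⟩,
   ⟨[5,3,4,3,1,2,1,0,0,0], [4,3,2,3,2,1,2,0,0,0], 10, [(67,true),(352,true)]⟩,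
   ⟨[6,4,4,3,2,2,1,0,0,0], [3,2,2,3,1,1,2,0,0,0], 10, [(63,true)]⟩]

/-- certificate data -/
def env : List Entry :=
  env0 ++ env1 ++ env2

/-- certificate data -/
def edges : List (List ℕ × List ℕ) :=
  [([5,3,3,3,2,1,1,0,0,0], [4,3,3,3,1,2,2,0,0,0]),
   ([5,3,3,3,1,2,2,0,0,0], [4,3,3,3,2,1,1,0,0,0]),
   ([5,3,3,3,1,2,1,0,0,0], [4,3,3,3,2,1,2,0,0,0]),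
   ([5,3,3,3,2,1,2,0,0,0], [4,3,3,3,1,2,1,0,0,0]),
   ([5,3,3,3,1,1,2,0,0,0], [4,3,3,3,2,2,1,0,0,0]),
   ([4,3,3,3,3,2,2,2,0,0], [5,3,3,3,3,1,1,1,0,0]),
   ([6,4,3,5,3,1,3,1,0,0], [6,5,4,3,3,1,1,2,0,0]),
   ([4,3,3,2,2,2,0,1,0,1], [4,3,2,3,2,0,2,1,0,1]),
   ([6,4,5,3,2,2,1,1,0,0], [6,4,3,5,2,1,2,1,0,0]),
   ([4,3,4,2,2,2,1,1,0,0], [4,3,2,4,2,1,2,1,0,0]),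
   ([8,6,4,4,4,1,1,3,0,2], [7,6,3,4,5,1,3,3,0,1]),
   ([7,6,3,4,4,2,3,2,0,1], [7,6,4,3,4,1,1,2,0,1]),
   ([4,3,3,4,2,1,2,1,0,0], [4,3,2,2,2,2,1,1,0,0]),
   ([4,4,3,2,3,2,0,2,0,1], [4,4,2,3,3,0,2,2,0,1]),
   ([4,3,2,3,3,2,2,2,0,1], [4,3,3,2,3,1,0,2,0,1]),
   ([5,3,3,3,3,1,2,1,0,0], [4,3,3,3,3,2,1,2,0,0]),
   ([6,5,3,3,3,2,1,3,0,2], [6,4,3,3,3,1,2,3,0,1]),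
   ([5,4,4,3,4,1,2,2,0,1], [5,4,3,4,4,2,1,2,0,1]),
   ([6,6,5,3,4,2,1,2,0,1], [6,6,3,5,4,1,2,2,0,1]),
   ([6,4,4,3,3,3,1,1,0,1], [6,4,3,4,3,1,3,1,0,1]),
   ([10,6,5,6,4,1,3,3,0,1], [7,6,5,6,4,1,3,3,0,1]),
   ([6,4,3,4,3,2,3,1,0,1], [6,4,4,3,3,1,1,1,0,1]),
   ([6,5,4,4,3,1,1,2,0,0], [6,4,3,4,3,1,3,1,0,0]),
   ([6,6,5,3,4,2,2,2,0,1], [6,6,3,5,4,1,3,2,0,1]),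
   ([8,6,3,5,4,1,3,2,0,1], [7,6,4,3,5,1,1,4,0,2]),
   ([6,4,4,4,4,1,3,3,0,2], [6,5,3,4,5,1,1,3,0,1]),
   ([5,5,3,3,5,1,1,3,0,1], [4,4,3,3,4,2,2,3,0,2]),
   ([6,4,4,5,4,1,2,3,0,2], [6,4,3,3,4,2,1,3,0,2]),
   ([4,3,3,3,3,2,1,2,0,2], [5,3,3,3,3,1,2,1,0,1]),
   ([6,4,3,4,3,2,3,2,0,0], [6,4,4,3,3,1,1,2,0,0]),
   ([6,4,4,4,3,1,3,1,0,0], [6,5,3,4,3,1,1,2,0,0]),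
   ([6,5,3,3,3,1,1,2,0,0], [6,4,3,3,3,2,2,1,0,0]),
   ([6,4,4,3,3,1,2,1,0,0], [6,4,3,4,3,2,1,1,0,0]),
   ([7,5,6,4,4,2,1,2,0,1], [7,5,3,4,4,2,1,2,0,1]),
   ([4,3,4,3,2,2,1,1,0,0], [4,3,2,2,2,1,2,1,0,0]),
   ([6,6,4,5,4,1,2,2,0,1], [6,6,3,3,4,2,1,2,0,1]),
   ([5,4,4,4,4,2,1,2,0,1], [5,4,2,3,4,1,2,2,0,1]),
   ([5,3,3,4,1,1,2,1,0,1], [4,3,3,2,2,2,1,2,0,2]),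
   ([5,4,4,2,3,2,1,2,0,2], [5,4,2,4,3,1,2,2,0,2]),
   ([6,5,5,4,4,1,2,3,0,2], [6,5,2,4,4,1,2,3,0,2]),
   ([4,3,3,2,2,1,2,1,0,0], [4,3,2,3,2,2,1,1,0,0]),
   ([5,3,3,3,2,2,1,0,0,0], [4,3,3,3,1,1,2,0,0,0]),
   ([7,6,4,5,4,3,1,2,0,1], [7,6,3,6,4,1,3,2,0,1]),
   ([7,6,3,6,5,1,3,3,0,1], [8,6,4,5,4,1,1,3,0,2]),
   ([4,3,3,2,3,1,2,2,0,1], [4,3,2,3,3,2,1,2,0,1]),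
   ([6,4,5,3,3,2,1,1,0,0], [6,4,3,5,3,1,2,1,0,0]),
   ([6,5,3,5,3,1,2,1,0,0], [6,4,3,4,3,2,1,2,0,0]),
   ([5,3,3,3,3,2,1,2,0,0], [4,3,3,3,3,1,2,1,0,0]),
   ([5,3,4,3,1,2,1,0,0,0], [4,3,2,3,2,1,2,0,0,0]),
   ([6,4,4,3,2,2,1,0,0,0], [3,2,2,3,1,1,2,0,0,0])]

/-- certificate data -/
def initNames : List (List ℕ × ℕ) :=
  [([0,2,0,1,3,0,4,1,5,2,0,3], 6), ([0], 2), ([1,0,2,0,1,3,0,4,1,5,2,0,3], 6), ([1,0], 2), ([0,1,2,0,3,0,1,2,0,4,1,5,2,0,3], 6), ([0,1,2,0], 3), ([2,0,1,3,0,2,5,2,0,1,3,0,2,4,1,0,3], 6), ([2,0,1,3,0,2], 5), ([0,1,2,0,3,4,1,0,2,5,2,0,1,3,0,2,4,1,0,3], 6), ([0,1,2,0,3,4,1,0,2], 5)]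

/-- certificate data -/
def initDel : List (ℕ × ℕ) :=
  [(108,0),(107,0),(106,0),(105,0),(104,0),(103,0),(102,0),(101,0),(100,0),(99,0),(98,0),(97,0),(96,0),(136,0),(135,0),(134,0),(133,0),(132,0),(131,0),(130,0),(129,0),(128,0),(162,0),(161,0),(160,0),(159,0),(158,0),(157,0),(186,0),(185,0),(184,0),(183,0),(182,0),(206,0),(205,0),(204,0),(203,0),(94,1),(93,1),(92,1),(92,0),(91,0),(90,0),(114,1),(114,0),(113,0),(112,0),(135,1),(135,0),(134,0),(88,2),(89,0),(87,1),(85,3),(80,5),(77,6),(138,6),(94,7),(112,10),(79,11),(81,10),(89,3),(75,5),(74,5),(73,6),(78,4),(72,5),(75,5),(79,0),(73,7),(65,8),(69,8),(62,6),(64,8),(60,11),(59,11),(67,10),(58,8),(70,9),(64,5),(63,5),(57,5),(61,4),(60,4),(55,8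),(60,6),(64,3),(62,4),(59,5),(54,6),(47,6),(44,8),(51,6),(42,11),(48,10),(43,9),(49,10),(56,5),(41,8),(40,8),(43,9),(40,4),(48,6),(45,8),(49,3),(39,5),(37,6),(36,6),(41,5),(38,4),(32,5),(29,5),(32,7),(26,5),(28,7),(27,7),(31,6),(26,4),(25,6),(30,4),(28,5),(32,3),(21,6),(23,4),(14,8),(18,7),(24,0),(23,3),(20,3),(21,2),(17,4),(19,2),(11,5),(11,4),(13,3),(14,2),(12,1),(8,3),(9,2),(9,2),(6,2),(7,2),(5,2),(5,1),(4,1),(2,1),(2,0),(1,0),(0,0)]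

/-- certificate data -/
def zSqDel : List (ℕ × ℕ) :=
  [(0,62),(34,31),(6,31),(33,29),(58,16),(68,10),(12,23),(32,21),(18,14),(45,17),(61,9),(29,21),(30,21),(44,21),(53,15),(29,16),(24,8),(42,8),(28,13),(35,10),(33,12),(43,10),(37,9),(44,10),(51,7),(56,6),(61,5),(6,29),(33,18),(27,20),(16,15),(11,8),(18,13),(15,15),(25,12),(18,11),(26,8),(31,6),(30,7),(24,6),(27,8),(31,7),(21,11),(29,8),(23,8),(11,11),(5,7),(1,6),(6,6),(5,6),(10,4),(7,3),(4,3),(6,3),(6,4),(3,2),(3,4),(1,3),(2,2),(3,1),(0,2),(0,1),(0,0)]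

/-- certificate data -/
def ops : List Op :=
  [.move 5 true [4,1,0,3,6,3,0,1,2,0,3,4,1,0,2] 5,
   .move 1 false [0] 2,
   .move 7 false [2,0,1,3,0,2] 5,
   .move 7 true [2,0,1,3,0,2] 5,
   .move 5 false [4,1,0,3,6,3,0,1,2,0,3,4,1,0,2] 5,
   .move 4 true [0,1,2,0] 3,
   .move 3 true [0,1,2,0] 3,
   .move 7 true [3,6,3,0,1,2,0,3,4,1,0,2] 5,
   .move 0 false [0,2,0,1,3,0,4,1,5,2,0,3] 6,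
   .move 6 false [4,1,0,3,6,3,0,1,2,0,3,4,1,0,2] 5,
   .move 7 true [0,1,4,1,0,2,3,0,1,5,2,0,3] 6,
   .move 5 false [4,1,5,2,0,3] 6,
   .move 6 true [0,1,4,1,0,2,3,0,1,5,2,0,3] 6,
   .move 5 true [0,1,4,1,0,2,3,0,1,5,2,0,3] 6,
   .move 4 true [0,1,4,1,0,2,3,0,1,5,2,0,3] 6,
   .move 4 true [0] 3,
   .move 0 false [3,0,4,1,5,2,0,3] 6,
   .move 6 false [2,3,0,1,5,2,0,3] 6,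
   .move 8 false [3] 6,
   .move 1 true [0] 2,
   .move 2 false [0,2,3,0,4,1,5,2,0,3] 6,
   .move 4 true [0,1,4,1,0,2,3,0,1,5,2,0,3] 6,
   .move 7 true [3,6,3,0,1,2,0,3,4,1,0,2] 5,
   .move 0 false [1,0,2,3,0,4,1,5,2,0,3] 6,
   .move 4 true [0] 3,
   .move 1 false [1,0,2,3,0,4,1,5,2,0,3] 6,
   .move 5 true [4,1,5,2,0,3] 6,
   .move 8 false [4,1,0,3] 6,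
   .move 2 false [1,0,2,3,0,4,1,5,2,0,3] 6,
   .move 6 false [0,1,4,1,0,2,3,0,1,5,2,0,3] 6,
   .move 0 true [0,1,2,0] 3,
   .move 0 true [1,2,0,4,1,5,2,0,3] 6,
   .move 1 true [] 1,
   .move 2 true [1,0,2,3,0,4,1,5,2,0,3] 6,
   .move 3 true [0] 3,
   .del 4,
   .move 4 false [2,0,1,3,0,2] 5,
   .move 6 false [0,1] 4,
   .move 3 true [3,6,3,0,1,2,0,3,4,1,0,2] 5,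
   .move 3 true [0] 3,
   .move 4 false [3,6,3,0,1,2,0,3,4,1,0,2] 5,
   .move 1 false [] 1,
   .move 4 true [3,6,3,0,1,2,0,3,4,1,0,2] 5,
   .move 0 true [0,2,3,0,4,1,5,2,0,3] 6,
   .move 0 true [1,0,3,0,1,2,0,4,1,5,2,0,3] 6,
   .move 5 false [2,0,1,3,0,2] 5,
   .move 5 true [2,0,1,3,0,2] 5,
   .move 6 true [0,1] 4,
   .move 5 false [2,0,1,3,0,2] 5,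
   .move 6 false [2,0,1,3,0,2] 5,
   .ins 2 [1,0,2,3,0,1,4] 7,
   .move 3 true [] 1,
   .move 7 false [0,1,2,0,3,4,1,0,2] 5,
   .move 6 false [3,6,3,0,1,2,0,3,4,1,0,2] 5,
   .move 8 false [0,1,2,0,3,4,1,0,2] 5,
   .move 4 false [0,2,3,0,1,4] 7,
   .move 8 true [0,1,2,0,3,4,1,0,2] 5,
   .move 1 true [1,0,2,3,0,1,4] 7,
   .move 0 true [1,0,2,3,0,1,4] 7,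
   .ins 6 [3] 6,
   .move 2 true [] 1,
   .move 3 false [0,2,0,3,4,1,0,5,2,6,3,0,1,4] 7,
   .move 9 true [0,1,2,0,3,4,1,0,2] 5,
   .move 9 true [3] 6,
   .del 6,
   .ins 0 [3,0,2,4,1,0,3,5,2,0,1,4,7] 9,
   .move 8 true [3] 6,
   .move 4 false [] 1,
   .move 7 true [3] 6,
   .move 1 false [3,0,2,4,1,0,3,5,2,0,1,4,7] 9,
   .move 8 true [0,1] 4,
   .move 5 true [0,2,0,3,4,1,0,5,2,6,3,0,1,4] 7,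
   .move 8 true [0,3,4,1,0,2,6,3,0,1,4] 7,
   .move 8 false [0,3,4,1,0,2,6,3,0,1,4] 7,
   .move 0 false [3,0,2,4,1,0,3,5,2,0,1,4,7] 9,
   .move 3 true [1,0,2,3,0,4,1,5,2,0,3] 6,
   .move 9 true [3,6,3,0,1,2,0,3,4,1,0,2] 5,
   .move 0 true [3,0,2,4,1,0,3,5,2,0,1,4,7] 9,
   .move 2 true [1,0,2,3,0,4,1,5,2,0,3] 6,
   .move 9 true [1,0,2,0,1,3,0,4,1,7,4,1,0,2,3,0,1,5,2,0,3] 6,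
   .move 3 false [0,1,2,0,5,2,6,3,0,1,4,7] 9,
   .move 10 true [2,0,1,3,0,2] 5,
   .move 1 false [3,0,1,2,0,3,4,1,0,2,5,7,4,1,0,2,3,0,1,4,7] 9,
   .move 10 false [2,0,1,3,0,2] 5,
   .move 2 true [0,1,2,3,0,5,2,6,3,0,1,4,7] 9,
   .move 3 false [0,2,0,3,4,1,0,5,2,6,3,0,1,4] 7,
   .move 7 false [3] 6,
   .move 6 false [1,0,2,0,3,4,1,0,5,2,6,3,0,1,4] 7,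
   .del 4,
   .move 1 true [0,1,2,3,0,5,2,6,3,0,1,4,7] 9,
   .move 2 true [1,2,0,3,4,1,0,2,5,7,4,1,0,2,3,0,1,4,7] 9,
   .move 1 true [1,2,0,3,4,1,0,2,5,7,4,1,0,2,3,0,1,4,7] 9,
   .ins 0 [2,0,1,5,2,0,3] 6,
   .move 9 true [0,3,4,1,0,2,6,3,0,1,4] 7,
   .move 5 true [1,3,4,5,2,0,1,7,4,1,0,2,3,0,1,5,2,0,3] 6,
   .del 0,
   .move 6 false [3] 6,
   .move 7 false [3] 6,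
   .move 3 true [0,3,6,3,0,1,2,0,3,5,2,0,1,4,7] 9,
   .move 5 false [1,0,2,0,3,4,1,0,5,2,6,3,0,1,4] 7,
   .move 8 true [2,0,1,3,0,2] 5,
   .move 6 false [1,0,2,0,3,4,1,0,5,2,6,3,0,1,4] 7,
   .move 5 true [0,1,2,0,3,4,1,0,2] 5,
   .move 2 true [0,3,6,3,0,1,2,0,3,5,2,0,1,4,7] 9,
   .move 7 false [1,0,2,0,3,4,1,0,5,2,6,3,0,1,4] 7,
   .move 4 true [0,1,2,0,3,4,1,0,2] 5,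
   .move 1 false [1,2,0,3,4,1,0,2,5,7,4,1,0,2,3,0,1,4,7] 9,
   .move 0 true [0,3,4,1,0,2,6,3,0,1,4] 7,
   .move 3 true [0,1,2,0,3,4,1,0,2] 5,
   .move 3 true [3,6,3,0,1,2,0,3,4,1,0,2] 5,
   .move 1 true [1,2,0,3,4,1,0,2,5,7,4,1,0,2,3,0,1,4,7] 9,
   .move 1 true [0,1,4,1,0,2,3,0,1,5,2,0,3] 6,
   .move 2 true [3,6,3,0,1,2,0,3,4,1,0,2] 5,
   .move 3 true [3] 6,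
   .del 4,
   .move 0 true [0,1,4,1,0,2,3,0,1,5,2,0,3] 6,
   .move 1 true [3,6,3,0,1,2,0,3,4,1,0,2] 5,
   .move 2 true [3] 6,
   .move 3 true [4,1,0,3,6,3,0,1,2,0,3,4,1,0,2] 5,
   .move 4 true [2,0,1,3,0,2] 5,
   .del 5,
   .move 1 false [3,6,3,0,1,2,0,3,4,1,0,2] 5,
   .move 4 true [2,3,0,1,5,2,0,3] 6,
   .move 3 true [2,3,0,1,5,2,0,3] 6,
   .move 0 true [0,1,2,0,3,4,1,0,2] 5,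
   .move 4 true [3] 6,
   .move 1 true [3,6,3,0,1,2,0,3,4,1,0,2] 5,
   .del 2,
   .move 0 true [3,6,3,0,1,2,0,3,4,1,0,2] 5,
   .del 1,
   .del 0]

end CfsgLib.ExtraspecialLarge.Fi23Data
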