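import Cfsg.Agent.Lib.ExtraspecialLarge.M24ClassData
import Cfsg.Agent.Lib.Golay.M24

/-!
Elements of order 2 and of order 3 in `Cfsg.M24`: each is conjugate to one of two representatives,
distinguished by the number of fixed points. Certificates: Sylow subgroups, listed.
-/

set_option autoImplicit false

namespace CfsgLib.ExtraspecialLarge.M24Classes

open Cfsg CfsgLib.Golay

/-- An entry of the certificate data. -/
def entry (D : List (List (ℕ × ℕ × ℕ × List ℕ × ℕ × ℕ × ℕ × ℕ))) (k : ℕ) : ℕ × ℕ × ℕ × List ℕ × ℕ × ℕ × ℕ × ℕ :=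
  (D.getD (k / 32) []).getD (k % 32) (0, 0, 0, [], 0, 0, 0, 0)

/-- The `k`-th table of a certificate. -/
def tblOf (D : List (List (ℕ × ℕ × ℕ × List ℕ × ℕ × ℕ × ℕ × ℕ))) (k : ℕ) : ℕ := (entry D k).1

/-- Iterated application of a table. -/
def iterAt (t : ℕ) : ℕ → ℕ → ℕ
  | 0, i => i
  | k + 1, i => tblAt t (iterAt t k i)

/-- `w * r = t * w` on tables. -/
def conjBy (t r w : ℕ) : Bool :=
  (List.range 24).all fun i => tblAt w (tblAt r i) == tblAt t (tblAt w i)

/-- The condition on a single entry. -/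
def entryOK (p len : ℕ) (gens : List ℕ) (r r' : ℕ) (D : List (List (ℕ × ℕ × ℕ × List ℕ × ℕ × ℕ × ℕ × ℕ)))
    (k : ℕ) : Bool :=
  match entry D k with
  | (t, i, j, nx, w, m, l, d) =>
    ((k == 0 && (List.range 24).all fun x => tblAt t x == x) ||
      (decide (i < k) && decide (j < gens.length) &&
        (entry D i).2.2.2.1.getD j 0 == k)) &&
    ((List.range gens.length).all fun l => decide (nx.getD l 0 < len) &&
      isCompTbl (tblOf D (nx.getD l 0)) t (gens.getD l 0)) &&
    (k == 0 ||
      (d == 0 && !(List.range 24).all fun x => iterAt t p x == x) ||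
      (d == 1 && inM24 w && (conjBy t r w || conjBy t r' w)) ||
      (decide (1 < d) && decide (0 < m) && decide (m < len) && decide (l < gens.length) &&
        (entry D m).2.2.2.2.2.2.2 == d - 1 && conjBy t (tblOf D m) (gens.getD l 0)))

/-- The listed entries exist and their tables increase strictly. -/
def incrOK (D : List (List (ℕ × ℕ × ℕ × List ℕ × ℕ × ℕ × ℕ × ℕ))) (len : ℕ) : List ℕ → Bool
  | [] => true
  | [a] => decide (a < len)
  | a :: b :: rest => decide (a < len) && decide (tblOf D a < tblOf D b) && incrOK D len (b :: rest)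

theorem incrOK_spec (D : List (List (ℕ × ℕ × ℕ × List ℕ × ℕ × ℕ × ℕ × ℕ))) (len : ℕ) :
    ∀ σ : List ℕ, incrOK D len σ = true → (∀ a ∈ σ, a < len) ∧ (σ.map (tblOf D)).Pairwise (· < ·)
  | [], _ => by simp
  | [a], h => by simpa [incrOK] using h
  | a :: b :: rest, h => by
    simp only [incrOK, Bool.and_eq_true, decide_eq_true_eq] at h
    obtain ⟨h1, h2⟩ := incrOK_spec D len (b :: rest) h.2
    refine ⟨fun x hx => ?_, ?_⟩
    · rcases List.mem_cons.mp hx with rfl | hx
      · exact h.1.1
      · exact h1 x hx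
    · rw [List.map_cons, List.pairwise_cons]
      refine ⟨fun y hy => ?_, h2⟩
      rw [List.map_cons, List.mem_cons] at hy
      rcases hy with rfl | hy
      · exact h.1.2
      · rw [List.map_cons, List.pairwise_cons] at h2
        exact h.1.2.trans (h2.1 y hy)

/-- The whole check. -/
def sylowOK (p len : ℕ) (gens : List ℕ) (r r' : ℕ) (σ : List ℕ)
    (D : List (List (ℕ × ℕ × ℕ × List ℕ × ℕ × ℕ × ℕ × ℕ))) : Bool :=
  gens.all inM24 && inM24 r && inM24 r' && ((List.range len).all fun k => entryOK p len gens r r' D k) &&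
    decide (σ.length = len) && incrOK D len σ &&
    (List.range len).all fun k => decide (tblOf D k < 2 ^ 120)

theorem tblOf_eq {s t : ℕ} (h : ∀ i < 24, tblAt s i = tblAt t i) (hs : s < 2 ^ 120) (ht : t < 2 ^ 120) :
    s = t := by
  apply Nat.eq_of_testBit_eq
  intro b
  rcases Nat.lt_or_ge b 120 with hb | hb
  · have e := congrArg (fun x => x.testBit (b % 5)) (h (b / 5) (by omega))
    simp only [tblAt, show (32 : ℕ) = 2 ^ 5 by norm_num, Nat.testBit_mod_two_pow,
      Nat.testBit_shiftRight, show b % 5 < 5 from Nat.mod_lt _ (by norm_num), decide_true,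
      Bool.true_and, Nat.div_add_mod] at e
    exact e
  · have h2 : 2 ^ 120 ≤ 2 ^ b := Nat.pow_le_pow_right two_pos hb
    rw [Nat.testBit_lt_two_pow (lt_of_lt_of_le hs h2), Nat.testBit_lt_two_pow (lt_of_lt_of_le ht h2)]

theorem iterAt_spec {g : Equiv.Perm GolayPt} {t : ℕ} (h : IsTbl g t) (p : GolayPt) :
    ∀ k, idx ((g ^ k) p) = iterAt t k (idx p)
  | 0 => by simp [iterAt]
  | k + 1 => by rw [pow_succ', Equiv.Perm.mul_apply, h, iterAt_spec h p k, iterAt]

theorem conjBy_spec {g r w : Equiv.Perm GolayPt} {tg tr tw : ℕ} (hg : IsTbl g tg) (hr : IsTbl r tr)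
    (hw : IsTbl w tw) (h : conjBy tg tr tw = true) : w * r * w⁻¹ = g := by
  rw [mul_inv_eq_iff_eq_mul]
  refine Equiv.ext fun p => idx_injective ?_
  simp only [conjBy, List.all_eq_true, List.mem_range, beq_iff_eq] at h
  rw [Equiv.Perm.mul_apply, Equiv.Perm.mul_apply, hw, hr, hg, hw]
  exact h _ (idx_lt p)

theorem exists_conj_rep {p n len : ℕ} [hp : Fact p.Prime] {gens : List ℕ} {tr tr' : ℕ} {σ : List ℕ}
    {D : List (List (ℕ × ℕ × ℕ × List ℕ × ℕ × ℕ × ℕ × ℕ))}
    (hok : sylowOK p len gens tr tr' σ D = true)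
    (hlen : len = p ^ n) (hn : (Nat.card M24).factorization p = n)
    {g : Equiv.Perm GolayPt} (hg : g ∈ M24) (hord : orderOf g = p) :
    ∃ w ∈ M24, ∃ r : Equiv.Perm GolayPt, (IsTbl r tr ∨ IsTbl r tr') ∧ w * r * w⁻¹ = g := by
  classical
  simp only [sylowOK, Bool.and_eq_true, List.all_eq_true, List.mem_range, decide_eq_true_eq] at hok
  obtain ⟨⟨⟨⟨⟨⟨hgens, hr⟩, hr'⟩, hent⟩, hσl⟩, hσ⟩, hsml⟩ := hok
  obtain ⟨hσlt, hσp⟩ := incrOK_spec D len σ hσ
  have hsmall : ∀ k : Fin len, tblOf D k < 2 ^ 120 := fun k => hsml k k.2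
  have hlen0 : 0 < len := hlen ▸ pow_pos hp.out.pos n
  let el : ℕ → ↥M24 := fun t => if h : ∃ x : ↥M24, IsTbl x.1 t then h.choose else 1
  have hel : ∀ {t}, inM24 t = true → IsTbl (el t).1 t := by
    intro t ht
    have hex : ∃ x : ↥M24, IsTbl x.1 t := by
      obtain ⟨x, hx⟩ := exists_isTbl (show okTbl t = true by
        simp only [inM24, Bool.and_eq_true] at ht; exact ht.1)
      exact ⟨⟨x, mem_M24_of_isTbl hx ht⟩, hx⟩
    simp only [el, dif_pos hex]
    exact hex.choose_spec
  let gs : Set ↥M24 := {x | ∃ j < gens.length, x = el (gens.getD j 0)}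
  have hgj : ∀ j < gens.length, inM24 (gens.getD j 0) = true := fun j hj => by
    rw [List.getD_eq_getElem _ _ hj]; exact hgens _ (List.getElem_mem hj)
  have hmem : ∀ k, k < len → ∃ x ∈ Subgroup.closure gs, IsTbl (x : ↥M24).1 (tblOf D k) := by
    intro k
    induction k using Nat.strong_induction_on with
    | _ k ih =>
      intro hk
      have h := hent k hk
      rw [entryOK] at h
      rcases he : entry D k with ⟨t, i, j, nx, w, m, l, d⟩
      rw [he] at h
      have ht : tblOf D k = t := congrArg Prod.fst he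
      simp only [Bool.and_eq_true, Bool.or_eq_true, beq_iff_eq, decide_eq_true_eq, List.all_eq_true,
        List.mem_range] at h
      rcases h.1.1 with ⟨-, h0⟩ | ⟨⟨hi, hj⟩, hc⟩
      · refine ⟨1, one_mem _, fun q => ?_⟩
        rw [ht]; simpa using (h0 _ (idx_lt q)).symm
      · obtain ⟨x, hx, hxt⟩ := ih i hi (by omega)
        refine ⟨x * el (gens.getD j 0), mul_mem hx (Subgroup.subset_closure ⟨j, hj, rfl⟩), ?_⟩
        have h2 := hent i (by omega)
        rw [entryOK] at h2
        rcases he2 : entry D i with ⟨t2, i2, j2, nx2, w2, m2, l2, d2⟩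
        rw [he2] at h2 hc
        simp only [Bool.and_eq_true, Bool.or_eq_true, beq_iff_eq, decide_eq_true_eq, List.all_eq_true,
          List.mem_range] at h2
        obtain ⟨-, hc2⟩ := h2.1.2 j hj
        rw [show nx2.getD j 0 = k from hc] at hc2
        rw [show tblOf D i = t2 from congrArg Prod.fst he2] at hxt
        exact hxt.mul (hel (hgj j hj)) hc2
  let S : Set ↥M24 := {x | ∃ k < len, IsTbl x.1 (tblOf D k)}
  have hS : (Subgroup.closure gs : Set ↥M24) = S := by
    refine Set.Subset.antisymm (fun x hx => ?_) ?_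
    · have hx' : x ∈ Submonoid.closure gs := by
        rw [← Subgroup.closure_toSubmonoid_of_finite]; exact hx
      clear hx
      induction hx' using Submonoid.closure_induction_right with
      | one =>
        refine ⟨0, hlen0, fun q => ?_⟩
        have h := hent 0 hlen0
        rw [entryOK] at h
        rcases he : entry D 0 with ⟨t, i, j, nx, w, m, l, d⟩
        rw [he] at h
        simp only [Bool.and_eq_true, Bool.or_eq_true, beq_iff_eq, decide_eq_true_eq, List.all_eq_true,
          List.mem_range, Nat.not_lt_zero, false_and, or_false, true_and] at h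
        rw [show tblOf D 0 = t from congrArg Prod.fst he]
        simpa using (h.1.1 _ (idx_lt q)).symm
      | mul_right x hx y hy ih =>
        obtain ⟨k, hk, hxk⟩ := ih
        obtain ⟨j, hj, rfl⟩ := hy
        have h := hent k hk
        rw [entryOK] at h
        rcases he : entry D k with ⟨t, i, j', nx, w, m, l, d⟩
        rw [he] at h
        simp only [Bool.and_eq_true, Bool.or_eq_true, beq_iff_eq, decide_eq_true_eq, List.all_eq_true,
          List.mem_range] at h
        obtain ⟨hlt, hc⟩ := h.1.2 j hj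
        rw [show tblOf D k = t from congrArg Prod.fst he] at hxk
        exact ⟨_, hlt, hxk.mul (hel (hgj j hj)) hc⟩
    · rintro x ⟨k, hk, hxk⟩
      obtain ⟨y, hy, hyk⟩ := hmem k hk
      rwa [show x = y from Subtype.ext (hxk.ext hyk)]
  have hcard : Nat.card (Subgroup.closure gs) = p ^ n := by
    rw [← hlen]
    have hex : ∀ k : Fin len, ∃ x : ↥(Subgroup.closure gs), IsTbl x.1.1 (tblOf D k) := fun k => by
      obtain ⟨x, hx, hxk⟩ := hmem k k.2; exact ⟨⟨x, hx⟩, hxk⟩
    choose f hf using hex
    let e : Fin len → ↥(Subgroup.closure gs) := fun a =>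
      f ⟨σ[a.1]'(by omega), hσlt _ (List.getElem_mem (by omega))⟩
    have hinj : Function.Injective e := by
      intro a b h'
      have ha := hf ⟨σ[a.1]'(by omega), hσlt _ (List.getElem_mem (by omega))⟩
      have hb := hf ⟨σ[b.1]'(by omega), hσlt _ (List.getElem_mem (by omega))⟩
      simp only [e] at h'
      rw [h'] at ha
      have hbit : ∀ i < 24, tblAt (tblOf D (σ[a.1]'(by omega))) i = tblAt (tblOf D (σ[b.1]'(by omega))) i :=
        fun i hi => by
          have e1 := ha (pt i); have e2 := hb (pt i)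
          rw [idx_pt hi] at e1 e2
          exact e1.symm.trans e2
      have heq := tblOf_eq hbit (hsmall ⟨_, hσlt _ (List.getElem_mem (by omega))⟩)
        (hsmall ⟨_, hσlt _ (List.getElem_mem (by omega))⟩)
      have hnd : (σ.map (tblOf D)).Nodup := hσp.imp (fun h => ne_of_lt h)
      refine Fin.ext ((hnd.getElem_inj_iff (hi := by simp; omega) (hj := by simp; omega)).mp ?_)
      simpa using heq
    have hsurj : Function.Surjective f := by
      rintro ⟨x, hx⟩
      obtain ⟨k, hk, hxk⟩ : x ∈ S := hS ▸ hx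
      exact ⟨⟨k, hk⟩, Subtype.ext (Subtype.ext ((hf ⟨k, hk⟩).ext hxk))⟩
    apply le_antisymm
    · have := Nat.card_le_card_of_surjective f hsurj; rwa [Nat.card_fin] at this
    · have := Nat.card_le_card_of_injective e hinj; rwa [Nat.card_fin] at this
  let P : Sylow p ↥M24 := Sylow.ofCard (Subgroup.closure gs) (by rw [hcard, hn])
  obtain ⟨G, hG⟩ : ∃ G : ↥M24, (G : Equiv.Perm GolayPt) = g := ⟨⟨g, hg⟩, rfl⟩
  have hGo : orderOf G = p := by rw [← Subgroup.orderOf_coe, hG, hord]
  have hZ : IsPGroup p (Subgroup.zpowers G) := IsPGroup.of_card (n := 1) (by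
    rw [Nat.card_zpowers, hGo, pow_one])
  obtain ⟨Q, hQ⟩ := hZ.exists_le_sylow
  obtain ⟨c, hc⟩ := MulAction.exists_smul_eq ↥M24 P Q
  have hin : c⁻¹ * G * c ∈ Subgroup.closure gs := by
    have h1 : G ∈ ((c • P : Sylow p ↥M24) : Subgroup ↥M24) := hc.symm ▸ hQ (Subgroup.mem_zpowers G)
    rw [Sylow.coe_subgroup_smul, Subgroup.mem_pointwise_smul_iff_inv_smul_mem] at h1
    have h2 : c⁻¹ * G * c ∈ (P : Subgroup ↥M24) := by simpa [MulAut.smul_def] using h1
    exact h2
  obtain ⟨k, hk, hxk⟩ : c⁻¹ * G * c ∈ S := hS ▸ hin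
  have hord' : orderOf (c⁻¹ * G * c) = p := by
    rw [show c⁻¹ * G * c = MulAut.conj c⁻¹ G by simp, MulEquiv.orderOf_eq, hGo]
  have hk0 : k ≠ 0 := by
    rintro rfl
    apply hp.out.ne_one
    rw [← hord', orderOf_eq_one_iff]
    have h0 := hent 0 hlen0
    rw [entryOK] at h0
    rcases he : entry D 0 with ⟨t, i, j, nx, w, m, l, d⟩
    rw [he] at h0
    rw [show tblOf D 0 = t from congrArg Prod.fst he] at hxk
    simp only [Bool.and_eq_true, Bool.or_eq_true, beq_iff_eq, decide_eq_true_eq, List.all_eq_true,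
      List.mem_range, Nat.not_lt_zero, false_and, or_false, true_and] at h0
    exact Subtype.ext (hxk.ext (fun q => by simpa using (h0.1.1 _ (idx_lt q)).symm))
  -- every listed element of order p is conjugate to a representative
  have main : ∀ d k, k < len → k ≠ 0 → (entry D k).2.2.2.2.2.2.2 = d → ∀ x : ↥M24,
      IsTbl x.1 (tblOf D k) → x ^ p = 1 →
      ∃ w ∈ M24, ∃ r : Equiv.Perm GolayPt, (IsTbl r tr ∨ IsTbl r tr') ∧ w * r * w⁻¹ = x.1 := by
    intro d
    induction d using Nat.strong_induction_on with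
    | _ d ih =>
      intro k hk hk0 hd x hx hxp
      have h := hent k hk
      rw [entryOK] at h
      rcases he : entry D k with ⟨t, i, j, nx, tw, m, l, d'⟩
      rw [he] at h hd
      rw [show tblOf D k = t from congrArg Prod.fst he] at hx
      simp only [Bool.and_eq_true, Bool.or_eq_true, Bool.not_eq_true', beq_iff_eq,
        decide_eq_true_eq] at h
      simp only at hd
      subst hd
      have hpow : ((List.range 24).all fun y => iterAt t p y == y) = true := by
        simp only [List.all_eq_true, List.mem_range, beq_iff_eq]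
        intro y hy
        have := iterAt_spec hx (pt y) p
        rw [idx_pt hy] at this
        rw [← this, ← Subgroup.coe_pow, hxp, Subgroup.coe_one, Equiv.Perm.one_apply, idx_pt hy]
      rcases h.2 with ((h' | ⟨-, h'⟩) | ⟨⟨-, hw⟩, hcb⟩) | ⟨⟨⟨⟨⟨hd1, hm0⟩, hm⟩, hl⟩, hdm⟩, hcb⟩
      · exact absurd h' hk0
      · rw [hpow] at h'; exact absurd h' (by simp)
      · obtain ⟨w, hwt⟩ := exists_isTbl (show okTbl tw = true by
          simp only [inM24, Bool.and_eq_true] at hw; exact hw.1)
        rcases hcb with hcb | hcb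
        · obtain ⟨r, hr1⟩ := exists_isTbl (show okTbl tr = true by
            simp only [inM24, Bool.and_eq_true] at hr; exact hr.1)
          exact ⟨w, mem_M24_of_isTbl hwt hw, r, Or.inl hr1, conjBy_spec hx hr1 hwt hcb⟩
        · obtain ⟨r, hr1⟩ := exists_isTbl (show okTbl tr' = true by
            simp only [inM24, Bool.and_eq_true] at hr'; exact hr'.1)
          exact ⟨w, mem_M24_of_isTbl hwt hw, r, Or.inr hr1, conjBy_spec hx hr1 hwt hcb⟩
      · obtain ⟨y, -, hyt⟩ := hmem m hm
        have hg' := hel (hgj l hl)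
        have hc := conjBy_spec hx hyt hg' hcb
        have hyp : y ^ p = 1 := by
          have e : y = (el (gens.getD l 0))⁻¹ * x * el (gens.getD l 0) :=
            Subtype.ext (by rw [Subgroup.coe_mul, Subgroup.coe_mul, ← hc]; simp [mul_assoc])
          rw [e]
          have := conj_pow (i := p) (a := (el (gens.getD l 0))⁻¹) (b := x)
          rw [inv_inv] at this
          rw [this, hxp]; simp
        obtain ⟨w, hw, r, hr1, hwr⟩ := ih _ (by omega) m hm (by omega) hdm y hyt hyp
        refine ⟨(el (gens.getD l 0)).1 * w, mul_mem (el (gens.getD l 0)).2 hw, r, hr1, ?_⟩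
        rw [← hc, ← hwr]; group
  obtain ⟨w, hw, r, hr1, hwr⟩ := main _ k hk hk0 rfl _ hxk (by rw [← hord', pow_orderOf_eq_one])
  refine ⟨(c : Equiv.Perm GolayPt) * w, mul_mem c.2 hw, r, hr1, ?_⟩
  rw [← hG]
  calc (c : Equiv.Perm GolayPt) * w * r * ((c : Equiv.Perm GolayPt) * w)⁻¹
      = (c : Equiv.Perm GolayPt) * (w * r * w⁻¹) * (c : Equiv.Perm GolayPt)⁻¹ := by group
    _ = (G : Equiv.Perm GolayPt) := by rw [hwr]; simp [mul_assoc]

set_option maxRecDepth 100000 in
theorem sylow_two_ok : sylowOK 2 1024 sylGens2 repFix2 repFree2 sylSort2 sylData2 = true := by decide +kernel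

set_option maxRecDepth 100000 in
theorem sylow_three_ok : sylowOK 3 27 sylGens3 repFix3 repFree3 sylSort3 sylData3 = true := by decide +kernel

/-- An involution of `M24` is conjugate to one of the two representatives. -/
theorem exists_conj_two {g : Equiv.Perm GolayPt} (hg : g ∈ M24) (hord : orderOf g = 2) :
    ∃ w ∈ M24, ∃ r : Equiv.Perm GolayPt, (IsTbl r repFix2 ∨ IsTbl r repFree2) ∧ w * r * w⁻¹ = g := by
  have : Fact (Nat.Prime 2) := ⟨Nat.prime_two⟩
  refine exists_conj_rep (n := 10) sylow_two_ok (by norm_num) ?_ hg hord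
  rw [natCard_M24]
  refine ((Nat.prime_two.pow_dvd_iff_le_factorization (by norm_num)).mp (by norm_num)).antisymm' ?_
  by_contra hlt
  exact absurd ((Nat.prime_two.pow_dvd_iff_le_factorization (by norm_num)).mpr
    (show 11 ≤ (244823040 : ℕ).factorization 2 by omega)) (by norm_num)

/-- An element of order 3 of `M24` is conjugate to one of the two representatives. -/
theorem exists_conj_three {g : Equiv.Perm GolayPt} (hg : g ∈ M24) (hord : orderOf g = 3) :
    ∃ w ∈ M24, ∃ r : Equiv.Perm GolayPt, (IsTbl r repFix3 ∨ IsTbl r repFree3) ∧ w * r * w⁻¹ = g := by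
  have : Fact (Nat.Prime 3) := ⟨Nat.prime_three⟩
  refine exists_conj_rep (n := 3) sylow_three_ok (by norm_num) ?_ hg hord
  rw [natCard_M24]
  refine ((Nat.prime_three.pow_dvd_iff_le_factorization (by norm_num)).mp (by norm_num)).antisymm' ?_
  by_contra hlt
  exact absurd ((Nat.prime_three.pow_dvd_iff_le_factorization (by norm_num)).mpr
    (show 4 ≤ (244823040 : ℕ).factorization 3 by omega)) (by norm_num)

end CfsgLib.ExtraspecialLarge.M24Classes

namespace CfsgLib.ExtraspecialLarge.M24Classes

open Cfsg CfsgLib.Golay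

/-- Fixed points of a table permutation, counted. -/
theorem card_fixed {g : Equiv.Perm GolayPt} {t : ℕ} (h : IsTbl g t) :
    (Finset.univ.filter fun p => g p = p).card =
      (Finset.univ.filter fun p : GolayPt => tblAt t (idx p) = idx p).card := by
  congr 1
  ext p
  simp only [Finset.mem_filter, Finset.mem_univ, true_and]
  exact ⟨fun e => by rw [← h, e], fun e => idx_injective (by rw [h, e])⟩

theorem card_fixed_conj (g w : Equiv.Perm GolayPt) :
    (Finset.univ.filter fun p => (w * g * w⁻¹) p = p).card =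
      (Finset.univ.filter fun p => g p = p).card := by
  refine Finset.card_bij' (fun p _ => w⁻¹ p) (fun p _ => w p) ?_ ?_ ?_ ?_
  · intro p hp
    rw [Finset.mem_filter] at hp ⊢
    refine ⟨Finset.mem_univ _, w.injective ?_⟩
    simpa [Equiv.Perm.mul_apply] using hp.2
  · intro p hp
    rw [Finset.mem_filter] at hp ⊢
    refine ⟨Finset.mem_univ _, ?_⟩
    simp [Equiv.Perm.mul_apply, hp.2]
  · intro p _; simp
  · intro p _; simp

theorem rep_fixed_counts :
    (Finset.univ.filter fun p : GolayPt => tblAt repFix2 (idx p) = idx p).card = 8 ∧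
    (Finset.univ.filter fun p : GolayPt => tblAt repFree2 (idx p) = idx p).card = 0 ∧
    (Finset.univ.filter fun p : GolayPt => tblAt repFix3 (idx p) = idx p).card = 6 ∧
    (Finset.univ.filter fun p : GolayPt => tblAt repFree3 (idx p) = idx p).card = 0 := by
  decide +kernel

/-- Involutions of `M24`: fixed points 8 or 0; conjugacy to the representative with as many. -/
theorem involution_cases {g : Equiv.Perm GolayPt} (hg : g ∈ M24) (hord : orderOf g = 2) :
    ((Finset.univ.filter fun p => g p = p).card = 8 ∧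
      ∃ w ∈ M24, ∃ r : Equiv.Perm GolayPt, IsTbl r repFix2 ∧ w * r * w⁻¹ = g) ∨
    ((Finset.univ.filter fun p => g p = p).card = 0 ∧
      ∃ w ∈ M24, ∃ r : Equiv.Perm GolayPt, IsTbl r repFree2 ∧ w * r * w⁻¹ = g) := by
  obtain ⟨w, hw, r, hr | hr, he⟩ := exists_conj_two hg hord
  · refine Or.inl ⟨?_, w, hw, r, hr, he⟩
    rw [← he, card_fixed_conj, card_fixed hr, rep_fixed_counts.1]
  · refine Or.inr ⟨?_, w, hw, r, hr, he⟩
    rw [← he, card_fixed_conj, card_fixed hr, rep_fixed_counts.2.1]

/-- Elements of order 3 of `M24`: fixed points 6 or 0; conjugacy to the representative with as many. -/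
theorem order_three_cases {g : Equiv.Perm GolayPt} (hg : g ∈ M24) (hord : orderOf g = 3) :
    ((Finset.univ.filter fun p => g p = p).card = 6 ∧
      ∃ w ∈ M24, ∃ r : Equiv.Perm GolayPt, IsTbl r repFix3 ∧ w * r * w⁻¹ = g) ∨
    ((Finset.univ.filter fun p => g p = p).card = 0 ∧
      ∃ w ∈ M24, ∃ r : Equiv.Perm GolayPt, IsTbl r repFree3 ∧ w * r * w⁻¹ = g) := by
  obtain ⟨w, hw, r, hr | hr, he⟩ := exists_conj_three hg hord
  · refine Or.inl ⟨?_, w, hw, r, hr, he⟩
    rw [← he, card_fixed_conj, card_fixed hr, rep_fixed_counts.2.2.1]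
  · refine Or.inr ⟨?_, w, hw, r, hr, he⟩
    rw [← he, card_fixed_conj, card_fixed hr, rep_fixed_counts.2.2.2]

theorem rep_checks : inM24 repFix2 = true ∧ inM24 repFree2 = true ∧ inM24 repFix3 = true ∧
    inM24 repFree3 = true ∧ ((List.range 24).all fun x => iterAt repFix3 3 x == x) = true ∧
    ((List.range 24).all fun x => iterAt repFree3 3 x == x) = true := by
  decide +kernel

theorem exists_rep3 {t : ℕ} (ht : inM24 t = true)
    (h3 : ((List.range 24).all fun x => iterAt t 3 x == x) = true)
    (hfix : (Finset.univ.filter fun p : GolayPt => tblAt t (idx p) = idx p).card ≠ 24) :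
    ∃ g ∈ M24, IsTbl g t ∧ orderOf g = 3 := by
  obtain ⟨g, hg⟩ := exists_isTbl (show okTbl t = true by
    simp only [inM24, Bool.and_eq_true] at ht; exact ht.1)
  have : Fact (Nat.Prime 3) := ⟨Nat.prime_three⟩
  refine ⟨g, mem_M24_of_isTbl hg ht, hg, orderOf_eq_prime ?_ ?_⟩
  · refine Equiv.ext fun p => idx_injective ?_
    rw [iterAt_spec hg p 3, Equiv.Perm.one_apply]
    simp only [List.all_eq_true, List.mem_range, beq_iff_eq] at h3
    exact h3 _ (idx_lt p)
  · rintro rfl
    apply hfix
    rw [← card_fixed hg]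
    simp [Finset.card_univ, GolayPt]

end CfsgLib.ExtraspecialLarge.M24Classes
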