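/-! Data on the 15 trios through the base octad. -/

set_option autoImplicit false

namespace CfsgLib.ExtraspecialLarge.OctadTrios

/-- Ranks of the trios through the base octad. -/
def trioRanks : List Nat := [0, 1, 2, 3, 4, 5, 6, 7, 8, 9, 10, 11, 12, 13, 14]

/-- Orbit tree on ordered pairs of these trios. -/
def pairTree : Nat := 0x2000e31c104d1c00981810c72010681c10412010ae1c00901800ca14108b2000941c10c51810832000c31c108d1800171400121010161c006018109a2010631c00421800561410e92400762010291c10de1810701400b510000e0c10a41c102c1c003c1810d81800811410711c10892000141c001518101e2410a220109d2000581c10e718000b1400a01010ba1c100d20106c1c004818105714103b2000741c10251c003d1810d31c10cd20104c1c00c81800871400721000260c006908109c24004520105e24003a2000db1c00301810da1c10cb2010431c00c21800861410791c108e1c001b1810101400a51000be0c10041c10592000341c00d518103e18007b14002010106a2010822000131c101d2010ec2000bc1c00081810a714109b2000541c10e51c00bd1810031c106d1800471400521000e60c004908005c0410e82010ed1c100718105b2010351c10231800d21410361810d918008514007e1010242400a62010b91c106e2010971c00eb18004014105a24100220105d1c10372010d12000801c007a18102b2400b42010051c105320102d1c00d71800321400d61000390c10dc20107d2810e424000c2000a81c10b72010311c002a18106b1c10931800e21410461c101a2410732000b21c00061810a91c10b018006514009e1010c42410d420107c2400092000ac1c10b82010381c00211810611800e014104a2400512010e11c000a1810ab2410d02010752000ad1c10b31c00271800621400961000c90c008c0810782400502000ea1c104b2010a32400282000671c00921810c62410b624002e2000641c00951800ce1410842000911c10c120104e1c00c018108a14001910001c0c10180800a10400b1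

/-- Sets fixed by an element fixing the trios and point 1. -/
def kernelSets : List Nat := [2, 8391797, 307594, 987906, 1164162, 1728778, 2605066, 2908802, 3322370, 3739786, 4346506, 4845570, 5709954, 6062602, 6365962, 6979970, 7622914]

/-- Refinement certificate. -/
def kernelCert : List Nat := [31554, 57883, 63108, 72588, 10558]

end CfsgLib.ExtraspecialLarge.OctadTrios
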