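import Cfsg.Agent.Lib.ExtraspecialLarge.RootReflectionCert

/-! Certificate data for the arm relations of Y₅₅₅ with the spider relation (11 nodes `a b1 b2 b3 c1 c2 c3 d1 d2 e1 f1`). -/

set_option autoImplicit false

namespace CfsgLib.ExtraspecialLarge.Y555

open RootRefl

/-- certificate data -/
def p6names : List (List ℕ × ℕ) :=
  [([4,1,0,2,3,0,1,4], 7),
   ([0,1,2,0], 3),
   ([], 7),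
   ([], 3),
   ([], 2),
   ([], 1)]

/-- certificate data -/
def thAname : List ℕ × ℕ :=
  ([5,2,0,1,3,0,2,4,1,0,3,5,2,0,1,4], 7)

/-- certificate data -/
def thBname : List ℕ × ℕ :=
  ([6,3,0,1,2,0,3,4,1,0,2,6,3,0,1,4], 7)

/-- certificate data -/
def th8name : List ℕ × ℕ :=
  ([9,7,4,1,0,2,3,0,1,4,5,2,0,1,3,0,2,5,7,4,1,0,2,3,0,1,4,7], 9)

/-- certificate data -/
def env1 : List Entry :=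
  [⟨[0,0,0,0,0,0,0,1,0,0,0], [12,9,7,8,6,2,4,1,0,0,0], 11, []⟩,
   ⟨[0,0,0,0,0,0,0,0,1,0,0], [12,7,9,8,2,6,4,0,1,0,0], 11, []⟩,
   ⟨[0,0,0,0,1,0,0,1,0,0,0], [12,9,7,8,4,2,4,1,0,0,0], 4, [(0,false)]⟩,
   ⟨[0,1,0,0,1,0,0,1,0,0,0], [12,7,7,8,4,2,4,1,0,0,0], 1, [(2,false)]⟩,
   ⟨[1,1,0,0,1,0,0,1,0,0,0], [10,7,7,8,4,2,4,1,0,0,0], 0, [(3,false)]⟩,
   ⟨[1,1,1,0,1,0,0,1,0,0,0], [10,7,5,8,4,2,4,1,0,0,0], 2, [(4,false)]⟩,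
   ⟨[1,1,1,1,1,0,0,1,0,0,0], [10,7,5,6,4,2,4,1,0,0,0], 3, [(5,false)]⟩,
   ⟨[2,1,1,1,1,0,0,1,0,0,0], [8,7,5,6,4,2,4,1,0,0,0], 0, [(6,false)]⟩,
   ⟨[2,2,1,1,1,0,0,1,0,0,0], [8,5,5,6,4,2,4,1,0,0,0], 1, [(7,false)]⟩,
   ⟨[2,2,1,1,2,0,0,1,0,0,0], [8,5,5,6,2,2,4,1,0,0,0], 4, [(8,false)]⟩,
   ⟨[2,2,1,1,2,0,1,1,0,0,0], [8,5,5,6,2,2,2,1,0,0,0], 6, [(9,false)]⟩,
   ⟨[2,2,1,2,2,0,1,1,0,0,0], [8,5,5,4,2,2,2,1,0,0,0], 3, [(10,false)]⟩,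
   ⟨[3,2,1,2,2,0,1,1,0,0,0], [6,5,5,4,2,2,2,1,0,0,0], 0, [(11,false)]⟩,
   ⟨[3,3,1,2,2,0,1,1,0,0,0], [6,3,5,4,2,2,2,1,0,0,0], 1, [(12,false)]⟩,
   ⟨[3,3,2,2,2,0,1,1,0,0,0], [6,3,3,4,2,2,2,1,0,0,0], 2, [(13,false)]⟩,
   ⟨[4,3,2,2,2,0,1,1,0,0,0], [4,3,3,4,2,2,2,1,0,0,0], 0, [(14,false)]⟩,
   ⟨[4,3,2,3,2,0,1,1,0,0,0], [4,3,3,2,2,2,2,1,0,0,0], 3, [(15,false)]⟩,
   ⟨[4,3,2,3,2,0,2,1,0,0,0], [4,3,3,2,2,2,0,1,0,0,0], 6, [(16,false)]⟩,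
   ⟨[4,3,3,2,2,2,0,1,0,0,0], [4,3,2,3,2,0,2,1,0,0,0], 11, [(17,true)]⟩,
   ⟨[0,0,0,0,0,1,0,0,1,0,0], [12,7,9,8,2,4,4,0,1,0,0], 5, [(1,false)]⟩,
   ⟨[0,0,1,0,0,1,0,0,1,0,0], [12,7,7,8,2,4,4,0,1,0,0], 2, [(19,false)]⟩,
   ⟨[1,0,1,0,0,1,0,0,1,0,0], [10,7,7,8,2,4,4,0,1,0,0], 0, [(20,false)]⟩,
   ⟨[1,1,1,0,0,1,0,0,1,0,0], [10,5,7,8,2,4,4,0,1,0,0], 1, [(21,false)]⟩,
   ⟨[1,1,1,1,0,1,0,0,1,0,0], [10,5,7,6,2,4,4,0,1,0,0], 3, [(22,false)]⟩,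
   ⟨[2,1,1,1,0,1,0,0,1,0,0], [8,5,7,6,2,4,4,0,1,0,0], 0, [(23,false)]⟩,
   ⟨[2,1,2,1,0,1,0,0,1,0,0], [8,5,5,6,2,4,4,0,1,0,0], 2, [(24,false)]⟩,
   ⟨[2,1,2,1,0,2,0,0,1,0,0], [8,5,5,6,2,2,4,0,1,0,0], 5, [(25,false)]⟩,
   ⟨[2,1,2,1,0,2,1,0,1,0,0], [8,5,5,6,2,2,2,0,1,0,0], 6, [(26,false)]⟩,
   ⟨[2,1,2,2,0,2,1,0,1,0,0], [8,5,5,4,2,2,2,0,1,0,0], 3, [(27,false)]⟩,
   ⟨[3,1,2,2,0,2,1,0,1,0,0], [6,5,5,4,2,2,2,0,1,0,0], 0, [(28,false)]⟩,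
   ⟨[3,2,2,2,0,2,1,0,1,0,0], [6,3,5,4,2,2,2,0,1,0,0], 1, [(29,false)]⟩,
   ⟨[3,2,3,2,0,2,1,0,1,0,0], [6,3,3,4,2,2,2,0,1,0,0], 2, [(30,false)]⟩,
   ⟨[4,2,3,2,0,2,1,0,1,0,0], [4,3,3,4,2,2,2,0,1,0,0], 0, [(31,false)]⟩,
   ⟨[4,2,3,3,0,2,1,0,1,0,0], [4,3,3,2,2,2,2,0,1,0,0], 3, [(32,false)]⟩,
   ⟨[4,2,3,3,0,2,2,0,1,0,0], [4,3,3,2,2,2,0,0,1,0,0], 6, [(33,false)]⟩,
   ⟨[4,3,3,2,2,2,0,0,1,0,0], [4,2,3,3,0,2,2,0,1,0,0], 11, [(34,true)]⟩,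
   ⟨[4,3,3,2,2,2,0,1,2,0,0], [4,3,2,3,2,0,2,1,0,0,0], 8, [(18,false)]⟩,
   ⟨[4,3,3,2,2,1,0,1,0,0,0], [4,3,3,2,2,3,0,1,2,0,0], 5, [(18,false),(36,true)]⟩,
   ⟨[4,3,2,2,2,1,0,1,0,0,0], [4,3,4,2,2,3,0,1,2,0,0], 2, [(37,false)]⟩,
   ⟨[4,3,2,2,2,1,0,1,0,1,0], [4,3,4,2,2,3,0,1,2,1,0], 9, [(38,false)]⟩,
   ⟨[4,3,2,2,2,1,0,2,0,1,0], [4,3,4,2,2,3,0,2,2,1,0], 7, [(39,false)]⟩,
   ⟨[4,3,2,2,3,1,0,2,0,1,0], [4,3,4,2,3,3,0,2,2,1,0], 4, [(40,false)]⟩,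
   ⟨[4,4,2,2,3,1,0,2,0,1,0], [4,4,4,2,3,3,0,2,2,1,0], 1, [(41,false)]⟩,
   ⟨[4,4,2,2,3,1,0,2,0,1,0], [6,4,4,2,3,3,0,2,2,1,0], 0, [(42,false)]⟩,
   ⟨[4,4,2,2,3,1,0,2,0,1,0], [6,4,4,4,3,3,0,2,2,1,0], 3, [(43,false)]⟩,
   ⟨[4,3,3,2,2,1,0,1,0,1,0], [4,3,3,2,2,3,0,1,2,1,0], 9, [(37,false)]⟩,
   ⟨[4,3,3,2,2,1,0,2,0,1,0], [4,3,3,2,2,3,0,2,2,1,0], 7, [(45,false)]⟩,
   ⟨[4,3,3,2,3,1,0,2,0,1,0], [4,3,3,2,3,3,0,2,2,1,0], 4, [(46,false)]⟩,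
   ⟨[4,4,3,2,3,1,0,2,0,1,0], [4,4,3,2,3,3,0,2,2,1,0], 1, [(47,false)]⟩,
   ⟨[5,4,3,2,3,1,0,2,0,1,0], [5,4,3,2,3,3,0,2,2,1,0], 0, [(48,false)]⟩,
   ⟨[5,4,3,2,3,1,0,2,0,1,0], [5,4,5,2,3,3,0,2,2,1,0], 2, [(49,false)]⟩,
   ⟨[5,4,3,3,3,1,0,2,0,1,0], [5,4,5,3,3,3,0,2,2,1,0], 3, [(50,false)]⟩,
   ⟨[5,4,3,3,3,1,0,2,0,1,0], [7,4,5,3,3,3,0,2,2,1,0], 0, [(51,false)]⟩,
   ⟨[5,4,3,3,3,1,0,2,0,1,0], [7,6,5,3,3,3,0,2,2,1,0], 1, [(52,false)]⟩,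
   ⟨[5,4,3,3,3,2,0,2,0,1,0], [7,6,5,3,3,4,0,2,2,1,0], 5, [(53,false)]⟩,
   ⟨[5,4,4,3,3,2,0,2,0,1,0], [7,6,6,3,3,4,0,2,2,1,0], 2, [(54,false)]⟩,
   ⟨[4,3,3,2,2,1,0,1,0,0,0], [4,3,2,3,2,2,2,1,0,0,0], 5, [(18,false)]⟩,
   ⟨[4,3,3,2,2,1,0,1,1,0,0], [4,3,2,3,2,2,2,1,2,0,0], 8, [(56,false)]⟩,
   ⟨[4,3,3,2,2,3,0,1,1,0,0], [4,3,2,3,2,2,2,1,2,0,0], 5, [(57,false)]⟩,
   ⟨[4,3,2,2,2,1,0,1,1,0,0], [4,3,4,2,2,3,0,1,1,0,0], 2, [(57,false),(58,true)]⟩,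
   ⟨[3,3,2,2,2,1,0,1,1,0,0], [5,3,4,2,2,3,0,1,1,0,0], 0, [(59,false)]⟩,
   ⟨[3,3,2,1,2,1,0,1,1,0,0], [5,3,4,3,2,3,0,1,1,0,0], 3, [(60,false)]⟩,
   ⟨[4,3,2,2,2,1,0,1,0,0,0], [4,3,4,3,2,2,2,1,0,0,0], 2, [(56,false)]⟩,
   ⟨[4,3,2,2,2,1,0,1,1,0,0], [4,3,4,3,2,2,2,1,2,0,0], 8, [(62,false)]⟩,
   ⟨[4,3,2,2,2,2,0,1,1,0,0], [4,3,4,3,2,4,2,1,2,0,0], 5, [(63,false)]⟩,
   ⟨[4,3,4,2,2,2,0,1,1,0,0], [4,3,4,3,2,4,2,1,2,0,0], 2, [(64,false)]⟩,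
   ⟨[3,3,2,2,2,2,0,1,1,0,0], [5,3,4,2,2,2,0,1,1,0,0], 0, [(64,false),(65,true)]⟩,
   ⟨[3,3,2,1,2,2,0,1,1,0,0], [5,3,4,3,2,2,0,1,1,0,0], 3, [(66,false)]⟩,
   ⟨[3,3,2,1,2,2,0,1,1,1,0], [5,3,4,3,2,2,0,1,1,1,0], 9, [(67,false)]⟩,
   ⟨[4,3,3,2,1,2,0,0,1,0,0], [4,2,3,3,2,2,2,0,1,0,0], 4, [(35,false)]⟩,
   ⟨[4,2,3,2,1,2,0,0,1,0,0], [4,4,3,3,2,2,2,0,1,0,0], 1, [(69,false)]⟩,
   ⟨[4,2,3,2,1,2,0,1,1,0,0], [4,4,3,3,2,2,2,2,1,0,0], 7, [(70,false)]⟩,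
   ⟨[4,2,3,2,2,2,0,1,1,0,0], [4,4,3,3,4,2,2,2,1,0,0], 4, [(71,false)]⟩,
   ⟨[4,4,3,2,2,2,0,1,1,0,0], [4,4,3,3,4,2,2,2,1,0,0], 1, [(72,false)]⟩,
   ⟨[3,2,3,2,2,2,0,1,1,0,0], [5,4,3,2,2,2,0,1,1,0,0], 0, [(72,false),(73,true)]⟩,
   ⟨[3,2,3,2,2,2,0,1,1,1,0], [5,4,3,2,2,2,0,1,1,1,0], 9, [(74,false)]⟩,
   ⟨[3,2,3,2,2,2,0,2,1,1,0], [5,4,3,2,2,2,0,2,1,1,0], 7, [(75,false)]⟩,
   ⟨[6,4,4,4,3,3,0,2,2,1,0], [4,4,2,2,3,1,0,2,0,1,0], 11, [(44,true)]⟩,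
   ⟨[7,6,6,3,3,4,0,2,2,1,0], [5,4,4,3,3,2,0,2,0,1,0], 11, [(55,true)]⟩,
   ⟨[5,4,3,2,2,2,0,2,1,1,0], [3,2,3,2,2,2,0,2,1,1,0], 11, [(76,true)]⟩]

/-- certificate data -/
def env2 : List Entry :=
  [⟨[0,0,0,0,0,0,0,1,0,0,0], [12,9,7,8,6,2,4,1,0,0,0], 11, []⟩,
   ⟨[0,0,0,0,0,0,0,0,0,0,1], [12,10,8,6,8,4,0,6,0,4,1], 11, []⟩,
   ⟨[0,0,0,0,1,0,0,1,0,0,0], [12,9,7,8,4,2,4,1,0,0,0], 4, [(0,false)]⟩,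
   ⟨[0,1,0,0,1,0,0,1,0,0,0], [12,7,7,8,4,2,4,1,0,0,0], 1, [(2,false)]⟩,
   ⟨[1,1,0,0,1,0,0,1,0,0,0], [10,7,7,8,4,2,4,1,0,0,0], 0, [(3,false)]⟩,
   ⟨[1,1,1,0,1,0,0,1,0,0,0], [10,7,5,8,4,2,4,1,0,0,0], 2, [(4,false)]⟩,
   ⟨[1,1,1,1,1,0,0,1,0,0,0], [10,7,5,6,4,2,4,1,0,0,0], 3, [(5,false)]⟩,
   ⟨[2,1,1,1,1,0,0,1,0,0,0], [8,7,5,6,4,2,4,1,0,0,0], 0, [(6,false)]⟩,
   ⟨[2,2,1,1,1,0,0,1,0,0,0], [8,5,5,6,4,2,4,1,0,0,0], 1, [(7,false)]⟩,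
   ⟨[2,2,1,1,2,0,0,1,0,0,0], [8,5,5,6,2,2,4,1,0,0,0], 4, [(8,false)]⟩,
   ⟨[2,2,1,1,2,0,1,1,0,0,0], [8,5,5,6,2,2,2,1,0,0,0], 6, [(9,false)]⟩,
   ⟨[2,2,1,2,2,0,1,1,0,0,0], [8,5,5,4,2,2,2,1,0,0,0], 3, [(10,false)]⟩,
   ⟨[3,2,1,2,2,0,1,1,0,0,0], [6,5,5,4,2,2,2,1,0,0,0], 0, [(11,false)]⟩,
   ⟨[3,3,1,2,2,0,1,1,0,0,0], [6,3,5,4,2,2,2,1,0,0,0], 1, [(12,false)]⟩,
   ⟨[3,3,2,2,2,0,1,1,0,0,0], [6,3,3,4,2,2,2,1,0,0,0], 2, [(13,false)]⟩,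
   ⟨[4,3,2,2,2,0,1,1,0,0,0], [4,3,3,4,2,2,2,1,0,0,0], 0, [(14,false)]⟩,
   ⟨[4,3,2,3,2,0,1,1,0,0,0], [4,3,3,2,2,2,2,1,0,0,0], 3, [(15,false)]⟩,
   ⟨[4,3,2,3,2,0,2,1,0,0,0], [4,3,3,2,2,2,0,1,0,0,0], 6, [(16,false)]⟩,
   ⟨[4,3,3,2,2,2,0,1,0,1,0], [4,3,2,3,2,0,2,1,0,1,0], 9, [(17,true)]⟩,
   ⟨[4,3,3,2,2,2,0,2,0,1,0], [4,3,2,3,2,0,2,2,0,1,0], 7, [(18,false)]⟩,
   ⟨[4,3,3,2,3,2,0,2,0,1,0], [4,3,2,3,3,0,2,2,0,1,0], 4, [(19,false)]⟩,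
   ⟨[4,4,3,2,3,2,0,2,0,1,0], [4,4,2,3,3,0,2,2,0,1,0], 1, [(20,false)]⟩,
   ⟨[5,4,3,2,3,2,0,2,0,1,0], [5,4,2,3,3,0,2,2,0,1,0], 0, [(21,false)]⟩,
   ⟨[5,4,4,2,3,2,0,2,0,1,0], [5,4,3,3,3,0,2,2,0,1,0], 2, [(22,false)]⟩,
   ⟨[4,3,2,3,2,0,1,1,0,1,0], [4,3,3,2,2,2,2,1,0,1,0], 9, [(16,false)]⟩,
   ⟨[4,3,2,3,2,0,1,2,0,1,0], [4,3,3,2,2,2,2,2,0,1,0], 7, [(24,false)]⟩,
   ⟨[4,3,2,3,3,0,1,2,0,1,0], [4,3,3,2,3,2,2,2,0,1,0], 4, [(25,false)]⟩,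
   ⟨[4,4,2,3,3,0,1,2,0,1,0], [4,4,3,2,3,2,2,2,0,1,0], 1, [(26,false)]⟩,
   ⟨[5,4,2,3,3,0,1,2,0,1,0], [5,4,3,2,3,2,2,2,0,1,0], 0, [(27,false)]⟩,
   ⟨[5,4,3,3,3,0,1,2,0,1,0], [5,4,4,2,3,2,2,2,0,1,0], 2, [(28,false)]⟩,
   ⟨[5,4,3,3,3,0,1,2,0,1,0], [5,4,4,5,3,2,2,2,0,1,0], 3, [(29,false)]⟩,
   ⟨[5,4,3,3,3,0,2,2,0,1,0], [5,4,4,5,3,2,3,2,0,1,0], 6, [(30,false)]⟩,
   ⟨[5,4,4,2,3,2,0,2,0,1,1], [5,4,4,5,3,2,3,2,0,1,1], 10, [(23,false),(31,false)]⟩,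
   ⟨[0,0,0,0,0,0,0,0,0,1,1], [12,10,8,6,8,4,0,6,0,3,1], 9, [(1,false)]⟩,
   ⟨[0,0,0,0,0,0,0,1,0,1,1], [12,10,8,6,8,4,0,5,0,3,1], 7, [(33,false)]⟩,
   ⟨[0,0,0,0,1,0,0,1,0,1,1], [12,10,8,6,7,4,0,5,0,3,1], 4, [(34,false)]⟩,
   ⟨[0,1,0,0,1,0,0,1,0,1,1], [12,9,8,6,7,4,0,5,0,3,1], 1, [(35,false)]⟩,
   ⟨[1,1,0,0,1,0,0,1,0,1,1], [11,9,8,6,7,4,0,5,0,3,1], 0, [(36,false)]⟩,
   ⟨[1,1,1,0,1,0,0,1,0,1,1], [11,9,7,6,7,4,0,5,0,3,1], 2, [(37,false)]⟩,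
   ⟨[1,1,1,1,1,0,0,1,0,1,1], [11,9,7,5,7,4,0,5,0,3,1], 3, [(38,false)]⟩,
   ⟨[2,1,1,1,1,0,0,1,0,1,1], [10,9,7,5,7,4,0,5,0,3,1], 0, [(39,false)]⟩,
   ⟨[2,2,1,1,1,0,0,1,0,1,1], [10,8,7,5,7,4,0,5,0,3,1], 1, [(40,false)]⟩,
   ⟨[2,2,1,1,2,0,0,1,0,1,1], [10,8,7,5,6,4,0,5,0,3,1], 4, [(41,false)]⟩,
   ⟨[2,2,1,1,2,1,0,1,0,1,1], [10,8,7,5,6,3,0,5,0,3,1], 5, [(42,false)]⟩,
   ⟨[2,2,2,1,2,1,0,1,0,1,1], [10,8,6,5,6,3,0,5,0,3,1], 2, [(43,false)]⟩,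
   ⟨[3,2,2,1,2,1,0,1,0,1,1], [9,8,6,5,6,3,0,5,0,3,1], 0, [(44,false)]⟩,
   ⟨[3,3,2,1,2,1,0,1,0,1,1], [9,7,6,5,6,3,0,5,0,3,1], 1, [(45,false)]⟩,
   ⟨[3,3,2,2,2,1,0,1,0,1,1], [9,7,6,4,6,3,0,5,0,3,1], 3, [(46,false)]⟩,
   ⟨[4,3,2,2,2,1,0,1,0,1,1], [8,7,6,4,6,3,0,5,0,3,1], 0, [(47,false)]⟩,
   ⟨[4,3,3,2,2,1,0,1,0,1,1], [8,7,5,4,6,3,0,5,0,3,1], 2, [(48,false)]⟩,
   ⟨[4,3,3,2,2,2,0,1,0,1,1], [8,7,5,4,6,2,0,5,0,3,1], 5, [(49,false)]⟩,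
   ⟨[4,3,3,2,2,2,0,2,0,1,1], [8,7,5,4,6,2,0,4,0,3,1], 7, [(50,false)]⟩,
   ⟨[4,3,3,2,3,2,0,2,0,1,1], [8,7,5,4,5,2,0,4,0,3,1], 4, [(51,false)]⟩,
   ⟨[4,4,3,2,3,2,0,2,0,1,1], [8,6,5,4,5,2,0,4,0,3,1], 1, [(52,false)]⟩,
   ⟨[5,4,3,2,3,2,0,2,0,1,1], [7,6,5,4,5,2,0,4,0,3,1], 0, [(53,false)]⟩,
   ⟨[5,4,4,2,3,2,0,2,0,1,1], [7,6,4,4,5,2,0,4,0,3,1], 2, [(54,false)]⟩,
   ⟨[5,4,3,3,3,0,1,2,0,1,1], [5,4,4,5,3,2,2,2,0,1,1], 10, [(30,false)]⟩,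
   ⟨[4,3,2,3,2,0,1,1,0,1,1], [4,3,3,2,2,2,2,1,0,1,1], 10, [(24,false)]⟩,
   ⟨[4,3,3,2,2,2,2,1,0,1,1], [8,7,5,4,6,2,4,5,0,3,1], 6, [(50,false)]⟩,
   ⟨[4,3,2,3,2,0,1,2,0,1,1], [8,7,5,4,6,2,4,4,0,3,1], 7, [(57,false),(58,false)]⟩,
   ⟨[4,3,2,3,3,0,1,2,0,1,1], [8,7,5,4,5,2,4,4,0,3,1], 4, [(59,false)]⟩,
   ⟨[4,4,2,3,3,0,1,2,0,1,1], [8,6,5,4,5,2,4,4,0,3,1], 1, [(60,false)]⟩,
   ⟨[5,4,2,3,3,0,1,2,0,1,1], [7,6,5,4,5,2,4,4,0,3,1], 0, [(61,false)]⟩,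
   ⟨[5,4,3,3,3,0,1,2,0,1,1], [7,6,4,4,5,2,4,4,0,3,1], 2, [(62,false)]⟩,
   ⟨[4,3,2,2,2,2,1,1,0,0,0], [4,3,3,4,2,1,2,1,0,0,0], 5, [(15,false)]⟩,
   ⟨[4,3,4,2,2,2,1,1,0,0,0], [4,3,2,4,2,1,2,1,0,0,0], 2, [(64,false)]⟩,
   ⟨[4,3,2,4,2,1,2,1,0,1,0], [4,3,4,2,2,2,1,1,0,1,0], 9, [(65,true)]⟩,
   ⟨[4,3,2,4,2,1,2,2,0,1,0], [4,3,4,2,2,2,1,2,0,1,0], 7, [(66,false)]⟩,
   ⟨[4,3,2,4,3,1,2,2,0,1,0], [4,3,4,2,3,2,1,2,0,1,0], 4, [(67,false)]⟩,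
   ⟨[4,4,2,4,3,1,2,2,0,1,0], [4,4,4,2,3,2,1,2,0,1,0], 1, [(68,false)]⟩,
   ⟨[4,3,2,2,2,2,1,1,0,1,0], [4,3,3,4,2,1,2,1,0,1,0], 9, [(64,false)]⟩,
   ⟨[4,3,2,2,2,2,1,2,0,1,0], [4,3,3,4,2,1,2,2,0,1,0], 7, [(70,false)]⟩,
   ⟨[4,3,2,2,3,2,1,2,0,1,0], [4,3,3,4,3,1,2,2,0,1,0], 4, [(71,false)]⟩,
   ⟨[4,4,2,2,3,2,1,2,0,1,0], [4,4,3,4,3,1,2,2,0,1,0], 1, [(72,false)]⟩,
   ⟨[4,4,2,2,3,2,1,2,0,1,0], [7,4,3,4,3,1,2,2,0,1,0], 0, [(73,false)]⟩,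
   ⟨[4,4,4,2,3,2,1,2,0,1,0], [7,4,5,4,3,1,2,2,0,1,0], 2, [(74,false)]⟩,
   ⟨[4,4,2,2,3,1,2,2,0,1,0], [7,4,5,5,3,1,2,2,0,1,0], 3, [(69,false),(75,false)]⟩,
   ⟨[4,4,2,2,3,1,0,2,0,1,0], [7,4,5,5,3,1,3,2,0,1,0], 6, [(76,false)]⟩,
   ⟨[4,4,2,2,3,1,0,2,0,1,1], [7,4,5,5,3,1,3,2,0,1,1], 10, [(77,false)]⟩,
   ⟨[4,4,2,2,3,1,0,2,0,2,1], [7,4,5,5,3,1,3,2,0,2,1], 9, [(78,false)]⟩,
   ⟨[4,4,2,2,3,1,2,2,0,1,1], [7,4,5,5,3,1,2,2,0,1,1], 10, [(76,false)]⟩,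
   ⟨[4,4,2,2,3,1,2,2,0,2,1], [7,4,5,5,3,1,2,2,0,2,1], 9, [(80,false)]⟩,
   ⟨[5,4,3,3,3,0,1,2,0,2,1], [5,4,4,5,3,2,2,2,0,2,1], 9, [(56,false)]⟩,
   ⟨[5,4,3,3,3,0,1,3,0,2,1], [5,4,4,5,3,2,2,3,0,2,1], 7, [(82,false)]⟩,
   ⟨[5,4,3,3,4,0,1,3,0,2,1], [5,4,4,5,4,2,2,3,0,2,1], 4, [(83,false)]⟩,
   ⟨[5,5,3,3,4,0,1,3,0,2,1], [5,5,4,5,4,2,2,3,0,2,1], 1, [(84,false)]⟩,
   ⟨[6,5,3,3,4,0,1,3,0,2,1], [9,5,4,5,4,2,2,3,0,2,1], 0, [(85,false)]⟩,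
   ⟨[6,5,3,3,4,0,1,3,0,2,1], [9,5,7,5,4,2,2,3,0,2,1], 2, [(86,false)]⟩,
   ⟨[6,5,3,4,4,0,1,3,0,2,1], [9,5,7,6,4,2,2,3,0,2,1], 3, [(87,false)]⟩,
   ⟨[5,4,3,3,3,0,1,2,0,1,1], [5,4,4,2,3,2,2,2,0,1,1], 10, [(29,false)]⟩,
   ⟨[5,4,3,3,3,0,1,2,0,2,1], [5,4,4,2,3,2,2,2,0,2,1], 9, [(89,false)]⟩,
   ⟨[5,4,3,3,3,0,1,3,0,2,1], [5,4,4,2,3,2,2,3,0,2,1], 7, [(90,false)]⟩,
   ⟨[5,4,3,3,4,0,1,3,0,2,1], [5,4,4,2,4,2,2,3,0,2,1], 4, [(91,false)]⟩,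
   ⟨[5,5,3,3,4,0,1,3,0,2,1], [5,5,4,2,4,2,2,3,0,2,1], 1, [(92,false)]⟩,
   ⟨[6,5,3,3,4,0,1,3,0,2,1], [6,5,4,2,4,2,2,3,0,2,1], 0, [(93,false)]⟩,
   ⟨[6,5,3,4,4,0,1,3,0,2,1], [6,5,4,6,4,2,2,3,0,2,1], 3, [(94,false)]⟩,
   ⟨[3,2,2,2,2,0,1,1,0,0,0], [6,5,3,4,2,2,2,1,0,0,0], 2, [(12,false)]⟩,
   ⟨[3,2,2,2,2,2,1,1,0,0,0], [6,5,3,4,2,1,2,1,0,0,0], 5, [(96,false)]⟩,
   ⟨[3,2,2,2,2,2,1,1,0,1,0], [6,5,3,4,2,1,2,1,0,1,0], 9, [(97,false)]⟩,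
   ⟨[3,2,2,2,2,2,1,2,0,1,0], [6,5,3,4,2,1,2,2,0,1,0], 7, [(98,false)]⟩,
   ⟨[3,2,2,2,2,2,1,2,0,1,0], [6,5,3,4,5,1,2,2,0,1,0], 4, [(99,false)]⟩,
   ⟨[3,3,2,2,2,2,1,2,0,1,0], [6,6,3,4,5,1,2,2,0,1,0], 1, [(100,false)]⟩,
   ⟨[4,3,2,2,2,2,1,2,0,1,0], [7,6,3,4,5,1,2,2,0,1,0], 0, [(101,false)]⟩,
   ⟨[4,3,4,2,2,2,1,2,0,1,0], [7,6,5,4,5,1,2,2,0,1,0], 2, [(102,false)]⟩,
   ⟨[4,3,2,2,2,1,2,2,0,1,0], [7,6,5,5,5,1,2,2,0,1,0], 3, [(67,false),(103,false)]⟩,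
   ⟨[3,3,2,2,2,1,2,2,0,1,0], [9,6,5,5,5,1,2,2,0,1,0], 0, [(104,false)]⟩,
   ⟨[3,2,2,2,2,1,2,2,0,1,0], [9,8,5,5,5,1,2,2,0,1,0], 1, [(105,false)]⟩,
   ⟨[3,2,2,2,2,1,0,2,0,1,0], [9,8,5,5,5,1,3,2,0,1,0], 6, [(106,false)]⟩,
   ⟨[5,4,3,3,3,0,1,2,0,1,0], [8,4,4,5,3,2,2,2,0,1,0], 0, [(30,false)]⟩,
   ⟨[5,4,3,3,3,0,1,2,0,1,0], [8,7,4,5,3,2,2,2,0,1,0], 1, [(108,false)]⟩,
   ⟨[5,4,3,3,3,0,1,2,0,1,1], [8,7,4,5,3,2,2,2,0,1,1], 10, [(109,false)]⟩,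
   ⟨[5,4,3,3,3,0,1,2,0,2,1], [8,7,4,5,3,2,2,2,0,2,1], 9, [(110,false)]⟩,
   ⟨[5,4,3,3,3,0,1,3,0,2,1], [8,7,4,5,3,2,2,3,0,2,1], 7, [(111,false)]⟩,
   ⟨[5,4,3,3,4,0,1,3,0,2,1], [8,7,4,5,7,2,2,3,0,2,1], 4, [(112,false)]⟩,
   ⟨[5,5,3,3,4,0,1,3,0,2,1], [8,8,4,5,7,2,2,3,0,2,1], 1, [(113,false)]⟩,
   ⟨[6,5,3,3,4,0,1,3,0,2,1], [9,8,4,5,7,2,2,3,0,2,1], 0, [(114,false)]⟩,
   ⟨[6,5,3,3,4,0,1,3,0,2,1], [9,8,7,5,7,2,2,3,0,2,1], 2, [(115,false)]⟩,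
   ⟨[6,5,3,4,4,0,1,3,0,2,1], [9,8,7,6,7,2,2,3,0,2,1], 3, [(116,false)]⟩,
   ⟨[6,5,3,4,4,0,1,3,0,2,1], [12,8,7,6,7,2,2,3,0,2,1], 0, [(117,false)]⟩,
   ⟨[6,5,3,4,4,0,1,3,0,2,1], [12,11,7,6,7,2,2,3,0,2,1], 1, [(118,false)]⟩,
   ⟨[5,4,4,5,3,2,3,2,0,1,1], [7,6,4,4,5,2,0,4,0,3,1], 11, [(32,true),(55,false)]⟩,
   ⟨[5,4,4,5,3,2,2,2,0,1,1], [7,6,4,4,5,2,4,4,0,3,1], 11, [(56,true),(63,false)]⟩,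
   ⟨[7,4,5,5,3,1,3,2,0,2,1], [4,4,2,2,3,1,0,2,0,2,1], 11, [(79,true)]⟩,
   ⟨[7,4,5,5,3,1,2,2,0,2,1], [4,4,2,2,3,1,2,2,0,2,1], 11, [(81,true)]⟩,
   ⟨[9,5,7,6,4,2,2,3,0,2,1], [6,5,4,6,4,2,2,3,0,2,1], 11, [(88,true),(95,false)]⟩,
   ⟨[9,8,5,5,5,1,3,2,0,1,0], [3,2,2,2,2,1,0,2,0,1,0], 11, [(107,true)]⟩,
   ⟨[9,8,5,5,5,1,2,2,0,1,0], [3,2,2,2,2,1,2,2,0,1,0], 11, [(106,true)]⟩,
   ⟨[12,11,7,6,7,2,2,3,0,2,1], [6,5,4,6,4,2,2,3,0,2,1], 11, [(119,true),(95,false)]⟩]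

/-- certificate data -/
def sysWord0 : List ℕ :=
  [0,2,5,1,4,7,9,0,1,4,1,0]

/-- certificate data -/
def sysWord1 : List ℕ :=
  [3,0,2,5,8,0,3,9,7,4,1,0,2,5,0,1,4,7,9,7,4,0]

/-- certificate data -/
def sysWord2 : List ℕ :=
  [1,0,2,5,8,4,1,0,2,5,4,7,9,1,4,0]

/-- certificate data -/
def trioA : List (List ℕ) :=
  [[0,0,0,0,1,0,0,0,0,0,0], [2,1,1,1,1,0,0,1,0,0,0], [2,1,1,1,1,1,0,1,0,1,0], [4,4,2,2,3,1,0,2,0,1,0]]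

/-- certificate data -/
def trioB : List (List ℕ) :=
  [[1,1,1,0,1,1,0,1,0,0,0], [1,1,1,0,1,0,0,1,0,1,0], [3,2,2,1,1,1,0,0,0,0,0], [5,4,4,3,3,2,0,2,0,1,0]]

/-- certificate data -/
def trioA2 : List (List ℕ) :=
  [[0,0,0,0,1,0,0,0,0,0,0], [2,1,1,1,1,0,0,1,0,0,0], [2,1,1,1,1,1,0,1,0,1,0], [6,4,4,4,3,3,0,2,2,1,0]]

/-- certificate data -/
def trioC : List (List ℕ) :=
  [[1,0,1,0,0,1,0,0,1,0,0], [5,3,4,3,2,3,0,1,1,0,0], [5,3,4,3,2,2,0,1,1,1,0], [3,2,3,2,2,2,0,2,1,1,0]]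

/-- certificate data -/
def trioB3 : List (List ℕ) :=
  [[1,1,1,0,1,1,0,1,0,0,0], [1,1,1,0,1,0,0,1,0,1,0], [3,2,2,1,1,1,0,0,0,0,0], [7,6,6,3,3,4,0,2,2,1,0]]

/-- certificate data -/
def trioC3 : List (List ℕ) :=
  [[1,0,1,0,0,1,0,0,1,0,0], [3,3,2,1,2,1,0,1,1,0,0], [3,3,2,1,2,2,0,1,1,1,0], [5,4,3,2,2,2,0,2,1,1,0]]

/-- certificate data -/
def fname : List ℕ × ℕ :=
  ([], 10)

/-- certificate data -/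
def e1name : List ℕ × ℕ :=
  ([], 9)

/-- certificate data -/
def fline0 : List ℕ × ℕ :=
  ([9,7,4,1,0,2,3,0,1,4,5,2,0,1,3,0,2,5,7,4,1,0,2,3,0,1,4,7], 9)

/-- certificate data -/
def fline1 : List ℕ × ℕ :=
  ([], 10)

/-- certificate data -/
def fline2 : List ℕ × ℕ :=
  ([7,4,1,0,2,3,0,1,4,5,2,0,1,3,0,2,5,7,4,1,0,2,3,0,1,4,7], 9)

/-- certificate data -/
def fline3 : List ℕ × ℕ :=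
  ([9], 10)

/-- certificate data -/
def fline4 : List ℕ × ℕ :=
  ([], 9)

/-- certificate data -/
def fline5 : List ℕ × ℕ :=
  ([7,4,1,0,2,3,0,1,4,5,2,0,1,3,0,2,5,7,4,1,0,2,3,0,1,4,7,9], 10)

/-- certificate data -/
def tauConj1 : List ℕ :=
  [9]

/-- certificate data -/
def tauConj2 : List ℕ :=
  [7,4,1,0,3,2,5,0,2,1,0,3,4,1,0,2,7,4,1,0,3,5,2,0,1,4,7,9]

/-- certificate data -/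
def lineWord0 : List ℕ :=
  [3,0,1,4,7,9,10,9,2,5,4,1,0,3,2,0,1,4,7]

/-- certificate data -/
def lineWord1 : List ℕ :=
  [6,3,0,1,4,7,9,10,9,2,5,4,1,0,3,2,0,1,4,7]

/-- certificate data -/
def lineWord2 : List ℕ :=
  [10,3,0,1,4,7,9,6,3,0,1,4,7]

/-- certificate data -/
def lineWord3 : List ℕ :=
  [9,10,2,5,0,3,2,0,1,4,7,9,6,3,0,1,4,7]

/-- certificate data -/
def lineWord4 : List ℕ :=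
  [1,0,2,5,4,1,0,3,2,0,1,4,7,9,6,3,0,1,4,7]

/-- certificate data -/
def points : List (List ℕ × List ℕ) :=
  [([0,0,0,0,0,0,1,0,0,0,0], [6,5,4,6,4,2,2,3,0,2,1]),
   ([7,6,4,4,5,2,0,4,0,3,1], [1,1,0,1,1,0,0,1,0,1,0]),
   ([4,4,2,2,3,1,0,2,0,2,1], [2,1,2,1,1,1,0,1,0,0,0]),
   ([3,2,2,2,2,1,0,2,0,1,0], [3,3,2,1,2,1,0,1,0,1,1]),
   ([7,6,4,4,5,2,4,4,0,3,1], [1,1,0,1,1,0,1,1,0,1,0]),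
   ([4,4,2,2,3,1,2,2,0,2,1], [2,1,2,1,1,1,1,1,0,0,0]),
   ([3,2,2,2,2,1,2,2,0,1,0], [3,3,2,1,2,1,1,1,0,1,1])]

/-- certificate data -/
def cUComm0 : List (ℕ × ℕ) :=
  [(119,1),(118,1),(117,1),(115,2),(116,0),(114,1),(113,1),(111,2),(112,0),(110,1),(109,1),(107,2),(108,0),(106,1),(105,1),(103,2),(104,0),(102,1),(101,1),(100,1),(98,2),(99,0),(97,1),(96,1),(94,2),(95,0),(93,1),(92,1),(91,1),(90,1),(89,1),(87,2),(88,0),(86,1),(85,1),(83,2),(84,0),(82,1),(81,1),(80,1),(78,2),(79,0),(77,1),(76,1),(74,2),(75,0),(73,1),(72,1),(70,2),(71,0),(69,1),(68,1),(66,2),(67,0),(65,1),(64,1),(63,1),(62,1),(60,2),(61,0),(59,1),(58,1),(56,2),(57,0),(55,1),(53,2),(54,0),(52,1),(51,1),(50,1),(48,2),(49,0),(47,1),(46,1),(45,1),(43,2),(44,0),(42,1),(41,1),(40,1),(38,2),(39,0),(37,1),(35,2),(36,0),(34,1),(33,1),(31,2),(32,0),(30,1),(26,7),(22,9),(26,5),(29,2),(26,2),(21,4),(24,2),(19,4),(22,2),(20,1),(17,2),(18,0),(17,0),(16,1),(14,2),(15,0),(13,1),(12,1),(10,2),(11,0),(9,1),(8,1),(7,1),(5,2),(6,0),(4,1),(3,1),(1,2),(2,0),(0,1),(0,0)]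

/-- certificate data -/
def cUComm1 : List (ℕ × ℕ) :=
  [(119,1),(118,1),(116,2),(117,0),(115,1),(114,1),(113,1),(112,1),(110,2),(111,0),(109,1),(108,1),(106,2),(107,0),(104,2),(105,0),(103,1),(102,1),(101,1),(100,1),(99,1),(96,3),(98,1),(95,2),(96,0),(94,1),(93,1),(92,1),(91,1),(90,1),(89,1),(88,1),(85,3),(87,1),(84,2),(85,0),(83,1),(82,1),(81,1),(80,1),(79,1),(77,2),(78,0),(75,2),(76,0),(74,1),(73,1),(71,2),(72,0),(70,1),(69,1),(68,1),(67,1),(65,2),(66,0),(64,1),(63,1),(62,1),(61,1),(59,2),(60,0),(57,2),(58,0),(56,1),(55,1),(54,1),(52,2),(53,0),(51,1),(49,2),(50,0),(48,1),(47,1),(46,1),(45,1),(44,1),(42,2),(43,0),(41,1),(39,2),(40,0),(38,1),(37,1),(36,1),(34,2),(35,0),(32,2),(33,0),(31,1),(29,1),(29,0),(28,1),(27,1),(26,1),(24,2),(25,0),(22,2),(23,0),(21,1),(19,2),(20,0),(17,2),(18,0),(15,2),(16,0),(14,1),(13,1),(12,1),(11,1),(9,2),(10,0),(8,1),(6,2),(7,0),(5,1),(4,1),(3,1),(2,1),(0,2),(1,0),(0,0)]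

/-- certificate data -/
def cUComm4 : List (ℕ × ℕ) :=
  [(240,0),(119,1),(117,2),(118,0),(116,1),(115,1),(114,1),(113,1),(112,1),(111,1),(109,3),(108,3),(107,3),(105,5),(101,6),(106,4),(100,5),(104,3),(99,4),(102,2),(98,3),(100,1),(97,2),(98,0),(96,1),(95,1),(94,1),(93,1),(92,1),(91,1),(90,1),(89,1),(88,1),(87,1),(86,1),(80,6),(85,4),(79,5),(83,3),(78,4),(81,2),(76,4),(79,2),(76,3),(75,3),(74,3),(72,3),(74,1),(72,1),(71,1),(70,1),(69,1),(68,1),(67,1),(66,1),(64,2),(65,0),(63,1),(62,1),(61,1),(60,1),(58,3),(55,4),(58,2),(54,3),(56,1),(53,2),(54,0),(52,1),(50,2),(51,0),(49,1),(48,1),(47,1),(46,1),(45,1),(44,1),(43,1),(41,2),(42,0),(40,1),(36,4),(39,2),(35,3),(37,1),(33,3),(35,1),(33,1),(32,1),(31,1),(30,1),(28,3),(27,3),(24,7),(22,9),(19,13),(17,15),(9,16),(22,8),(20,9),(23,9),(19,3),(18,3),(17,4),(16,4),(8,8),(15,6),(6,8),(13,6),(5,7),(11,5),(7,5),(4,2),(3,2),(7,2),(6,2),(2,3),(4,1),(0,2),(1,0),(0,0)]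

/-- certificate data -/
def cUComm7 : List (ℕ × ℕ) :=
  [(118,2),(119,0),(117,1),(116,1),(115,1),(114,1),(113,1),(112,1),(111,1),(110,1),(109,1),(108,1),(107,1),(106,1),(105,1),(104,1),(103,1),(102,1),(90,12),(101,10),(89,11),(99,9),(88,10),(97,8),(87,9),(91,7),(97,3),(96,3),(95,3),(86,4),(85,4),(84,5),(88,3),(83,4),(86,2),(82,3),(84,1),(81,2),(82,0),(80,1),(79,1),(78,1),(77,1),(76,1),(75,1),(74,1),(73,1),(72,1),(71,1),(70,1),(69,1),(68,1),(67,1),(66,1),(65,1),(63,2),(64,0),(62,1),(61,1),(60,1),(59,1),(58,1),(57,1),(56,1),(51,9),(45,10),(54,8),(44,9),(52,7),(43,8),(50,6),(46,5),(42,3),(48,3),(40,4),(45,4),(39,5),(43,3),(38,4),(41,2),(37,3),(39,1),(37,1),(36,1),(35,1),(34,1),(33,1),(32,1),(31,1),(30,1),(29,1),(28,1),(26,1),(26,0),(25,1),(24,1),(23,1),(22,1),(21,1),(20,1),(19,1),(18,1),(17,1),(7,10),(16,8),(6,9),(14,7),(5,8),(12,6),(8,5),(4,3),(3,3),(8,3),(7,3),(2,4),(5,2),(1,3),(3,1),(0,2),(1,0),(0,0)]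

/-- certificate data -/
def cUComm9 : List (ℕ × ℕ) :=
  [(119,0),(90,57),(89,57),(88,57),(87,57),(86,57),(85,57),(84,57),(83,57),(82,57),(26,56),(54,55),(108,27),(98,35),(71,33),(53,17),(52,17),(51,17),(49,18),(48,18),(47,18),(90,28),(89,28),(87,29),(87,28),(86,28),(85,28),(84,29),(96,24),(83,13),(82,13),(80,14),(105,25),(80,27),(105,22),(104,22),(118,23),(79,24),(78,24),(77,25),(101,10),(89,22),(88,23),(87,23),(64,23),(63,23),(62,23),(40,23),(45,22),(61,14),(74,5),(73,11),(71,12),(69,13),(68,17),(80,7),(80,7),(60,17),(55,14),(68,18),(67,18),(35,19),(49,17),(34,14),(33,14),(60,16),(41,17),(32,17),(47,13),(56,13),(44,11),(31,14),(38,14),(40,13),(52,8),(30,9),(36,13),(43,12),(35,13),(29,6),(40,10),(34,9),(13,18),(10,10),(15,7),(9,5),(20,10),(13,9),(21,6),(20,6),(19,12),(19,12),(18,14),(15,13),(24,11),(33,2),(31,3),(30,5),(15,8),(22,7),(19,4),(18,4),(12,5),(14,3),(13,4),(12,4),(15,3),(11,3),(10,3),(8,3),(10,1),(8,1),(7,1),(6,1),(5,1),(4,1),(3,1),(2,1),(1,1),(0,1),(0,0)]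

/-- certificate data -/
def cUComm2 : List (ℕ × ℕ) :=
  [(119,1),(118,1),(117,1),(116,1),(114,2),(115,0),(112,2),(113,0),(111,1),(110,1),(109,1),(108,1),(105,3),(107,1),(104,2),(105,0),(103,1),(102,1),(101,1),(99,2),(100,0),(98,1),(97,1),(96,1),(95,1),(93,2),(94,0),(92,1),(91,1),(90,1),(88,2),(89,0),(87,1),(86,1),(85,1),(84,1),(82,2),(83,0),(81,1),(80,1),(79,1),(76,3),(78,1),(75,2),(76,0),(74,1),(73,1),(72,1),(71,1),(69,2),(70,0),(67,2),(68,0),(66,1),(65,1),(64,1),(63,1),(61,2),(62,0),(60,1),(59,1),(58,1),(57,1),(55,3),(54,3),(51,4),(54,2),(50,3),(52,1),(49,2),(50,0),(48,1),(47,1),(46,1),(45,1),(44,1),(40,4),(43,2),(39,3),(41,1),(38,3),(36,3),(38,1),(36,1),(35,1),(34,1),(33,1),(32,1),(30,2),(31,0),(28,1),(28,0),(27,1),(26,1),(23,3),(25,1),(22,2),(23,0),(21,1),(18,3),(20,1),(17,2),(18,0),(16,1),(15,1),(13,2),(14,0),(11,2),(12,0),(10,1),(9,1),(8,1),(7,1),(6,1),(4,2),(5,0),(2,2),(3,0),(1,1),(0,1),(0,0)]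

/-- certificate data -/
def cUComm5 : List (ℕ × ℕ) :=
  [(119,1),(118,1),(117,1),(116,1),(115,1),(113,3),(109,5),(113,3),(108,4),(111,2),(107,3),(109,1),(106,2),(107,0),(105,1),(104,1),(103,1),(102,1),(100,2),(101,0),(99,1),(98,1),(97,1),(96,1),(95,1),(94,1),(92,2),(93,0),(91,1),(89,2),(90,0),(88,1),(87,1),(86,1),(85,1),(84,1),(83,1),(81,2),(82,0),(80,1),(79,1),(78,1),(77,1),(72,5),(76,3),(71,4),(74,2),(70,3),(72,1),(68,3),(70,1),(68,1),(67,1),(66,1),(65,1),(64,1),(62,1),(62,0),(51,21),(50,21),(49,21),(28,20),(47,20),(66,19),(46,19),(24,22),(19,6),(25,20),(23,18),(22,20),(38,19),(34,16),(46,8),(45,11),(44,11),(51,14),(62,6),(52,10),(48,3),(43,7),(49,8),(29,15),(38,14),(28,17),(27,17),(26,17),(41,12),(45,15),(37,13),(29,10),(24,6),(21,2),(27,7),(30,7),(32,8),(26,7),(35,9),(14,11),(16,8),(22,6),(17,6),(12,4),(19,4),(17,6),(15,6),(7,8),(5,7),(11,1),(9,3),(11,1),(8,3),(9,3),(7,2),(6,2),(3,2),(4,1),(3,1),(2,1),(1,1),(0,1),(0,0)]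

/-- certificate data -/
def cUComm3 : List (ℕ × ℕ) :=
  [(119,1),(118,1),(117,1),(116,1),(113,3),(115,1),(112,2),(113,0),(111,1),(110,1),(108,2),(109,0),(107,1),(106,1),(105,1),(104,1),(102,2),(103,0),(101,1),(100,1),(99,1),(97,2),(98,0),(95,2),(96,0),(94,1),(93,1),(92,1),(91,1),(90,1),(89,1),(88,1),(86,2),(87,0),(84,2),(85,0),(83,1),(82,1),(81,1),(79,2),(80,0),(78,1),(77,1),(76,1),(75,1),(73,2),(74,0),(72,1),(71,1),(68,3),(70,1),(67,2),(68,0),(66,1),(65,1),(64,1),(63,1),(62,1),(61,1),(58,3),(60,1),(57,2),(58,0),(56,1),(54,2),(55,0),(53,1),(52,1),(51,1),(50,1),(49,1),(47,2),(48,0),(46,1),(44,2),(45,0),(43,1),(42,1),(41,1),(40,1),(39,1),(37,2),(38,0),(36,1),(33,3),(35,1),(32,2),(33,0),(31,1),(30,1),(29,1),(27,1),(27,0),(26,1),(20,6),(25,4),(19,5),(21,3),(23,1),(18,3),(20,1),(17,2),(18,0),(16,1),(15,1),(12,3),(14,1),(11,2),(12,0),(10,1),(9,1),(8,1),(7,1),(6,1),(3,3),(5,1),(2,2),(3,0),(1,1),(0,1),(0,0)]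

/-- certificate data -/
def cUPow : List (ℕ × ℕ) :=
  [(119,0),(109,26),(108,26),(125,25),(107,17),(106,17),(105,18),(104,18),(103,19),(102,19),(92,17),(108,12),(107,16),(106,16),(105,16),(104,16),(103,16),(102,16),(101,16),(113,18),(111,5),(120,10),(116,7),(122,5),(110,6),(108,5),(112,5),(100,20),(62,29),(61,29),(60,29),(58,30),(58,29),(57,29),(56,29),(84,29),(55,29),(54,29),(53,29),(51,29),(50,29),(50,28),(49,28),(48,28),(47,28),(84,44),(27,47),(28,47),(78,48),(123,6),(76,45),(79,42),(78,42),(62,44),(52,27),(73,8),(71,2),(51,19),(23,27),(71,28),(87,25),(104,15),(70,16),(88,18),(103,2),(80,11),(100,11),(90,10),(87,10),(72,15),(93,15),(75,17),(55,20),(70,4),(69,7),(67,18),(65,20),(83,18),(64,18),(79,10),(72,10),(81,5),(73,8),(82,9),(78,3),(80,8),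(63,10),(71,8),(67,7),(62,4),(71,4),(62,13),(53,8),(52,10),(51,10),(60,5),(46,6),(51,7),(45,7),(50,5),(54,0),(53,4),(51,6),(55,1),(47,3),(47,3),(48,3),(44,3),(44,2),(43,3),(42,4),(40,2),(41,3),(39,1),(38,3),(37,4),(35,3),(36,3),(34,1),(32,4),(33,5),(31,1),(30,1),(28,2),(29,2),(30,1),(27,2),(28,1),(24,3),(26,1),(24,1),(23,1),(23,0),(22,0),(21,0),(20,0),(19,0),(18,0),(17,0),(16,0),(15,0),(14,0),(13,0),(12,0),(11,0),(10,0),(9,0),(8,0),(7,0),(6,0),(5,0),(4,0),(3,0),(2,0),(1,0),(0,0)]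

/-- certificate data -/
def cZ : List (ℕ × ℕ) :=
  [(61,1),(58,3),(50,16),(46,7),(41,5),(40,12),(53,15),(50,7),(65,16),(44,22),(38,15),(25,19),(20,5),(35,16),(41,10),(49,10),(45,8),(52,10),(24,11),(33,12),(40,11),(27,12),(38,10),(17,12),(25,12),(35,4),(17,11),(31,12),(26,12),(5,13),(11,14),(15,13),(27,4),(21,6),(25,3),(24,3),(21,6),(16,9),(23,11),(11,11),(19,12),(23,9),(22,9),(12,9),(8,4),(16,4),(9,7),(14,8),(18,5),(10,7),(8,2),(6,3),(5,3),(3,4),(6,3),(8,2),(2,4),(5,2),(1,3),(2,2),(3,0),(0,1),(0,0)]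

/-- certificate data -/
def cZbC3 : List (ℕ × ℕ) :=
  [(62,0),(51,21),(50,21),(49,21),(27,21),(47,20),(46,20),(65,19),(24,22),(22,3),(25,20),(23,18),(39,20),(57,18),(72,3),(41,15),(38,17),(53,13),(52,14),(30,16),(45,6),(44,6),(43,8),(39,5),(46,10),(21,12),(28,17),(41,16),(26,14),(26,15),(45,15),(36,14),(29,8),(32,9),(24,7),(29,1),(19,4),(26,10),(34,3),(20,7),(33,8),(14,10),(16,8),(17,6),(21,4),(13,7),(17,6),(15,6),(7,8),(5,7),(11,1),(9,3),(11,1),(8,3),(4,3),(5,3),(6,1),(5,1),(4,1),(3,1),(2,1),(1,1),(0,1),(0,0)]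

/-- certificate data -/
def cZbD2 : List (ℕ × ℕ) :=
  [(62,1),(61,1),(60,1),(59,1),(58,1),(57,1),(56,1),(55,1),(54,1),(53,1),(52,1),(51,1),(50,1),(49,1),(48,1),(47,1),(46,1),(45,1),(44,1),(43,1),(42,1),(41,1),(40,1),(39,1),(38,1),(37,1),(36,1),(35,1),(34,1),(33,1),(32,1),(31,1),(30,1),(29,1),(28,1),(27,1),(26,1),(25,1),(24,1),(23,1),(22,1),(21,1),(20,1),(19,1),(18,1),(17,1),(16,1),(15,1),(14,1),(13,1),(12,1),(11,1),(10,1),(9,1),(8,1),(7,1),(6,1),(5,1),(4,1),(3,1),(2,1),(1,1),(0,1),(0,0)]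

/-- certificate data -/
def cLine : List (ℕ × ℕ) :=
  [(57,0),(56,0),(55,0),(54,0),(53,0),(52,0),(51,0),(50,0),(49,0),(48,0),(47,0),(46,0),(45,0),(44,0),(43,0),(42,0),(41,0),(40,0),(39,0),(38,0),(37,0),(36,0),(35,0),(34,0),(33,0),(32,0),(31,0),(30,0),(29,0),(57,0),(56,0),(55,0),(54,0),(53,0),(52,0),(51,0),(50,0),(49,0),(48,0),(47,0),(46,0),(45,0),(44,0),(43,0),(42,0),(41,0),(40,0),(39,0),(38,0),(37,0),(36,0),(35,0),(34,0),(33,0),(32,0),(31,0),(30,0),(28,1),(27,1),(26,1),(25,1),(24,1),(23,1),(22,1),(21,1),(20,1),(19,1),(18,1),(17,1),(16,1),(15,1),(14,1),(13,1),(12,1),(11,1),(10,1),(9,1),(8,1),(7,1),(6,1),(5,1),(4,1),(3,1),(2,1),(0,2),(1,0),(0,0)]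

/-- certificate data -/
def cPF : List (ℕ × ℕ) :=
  [(62,1),(61,1),(60,1),(59,1),(58,1),(57,1),(56,1),(55,1),(54,1),(53,1),(52,1),(51,1),(50,1),(49,1),(48,1),(47,1),(46,1),(45,1),(44,1),(43,1),(42,1),(41,1),(40,1),(39,1),(38,1),(37,1),(36,1),(35,1),(34,1),(33,1),(32,1),(31,1),(30,1),(29,1),(28,1),(27,1),(26,1),(25,1),(24,1),(23,1),(22,1),(21,1),(20,1),(19,1),(18,1),(17,1),(16,1),(15,1),(14,1),(13,1),(12,1),(11,1),(10,1),(9,1),(8,1),(7,1),(6,1),(5,1),(4,1),(3,1),(2,1),(1,1),(0,1),(0,0)]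

/-- certificate data -/
def spiderWord0 : List ℕ :=
  [0,1,4,0,2,5,0,3,6]

/-- certificate data -/
def trans0A : List (List ℕ × Bool) :=
  [([3,6,2,5,3,1], false), ([5], false)]

/-- certificate data -/
def trans0B : List (List ℕ × Bool) :=
  [([3,6,2,5,3,1], true), ([5], true)]

/-- certificate data -/
def spiderWord1 : List ℕ :=
  [0,1,4,0,3,6,0,2,5]

/-- certificate data -/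
def trans1A : List (List ℕ × Bool) :=
  [([6,2,5,1,4,0], true), ([], true)]

/-- certificate data -/
def trans1B : List (List ℕ × Bool) :=
  [([6,2,5,1,4,0], false), ([], false)]

/-- certificate data -/
def spiderWord2 : List ℕ :=
  [0,2,5,0,1,4,0,3,6]

/-- certificate data -/
def trans2A : List (List ℕ × Bool) :=
  [([3,6,1,4,3,2], true), ([4], true)]

/-- certificate data -/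
def trans2B : List (List ℕ × Bool) :=
  [([3,6,1,4,3,2], false), ([4], false)]

/-- certificate data -/
def spiderWord3 : List ℕ :=
  [0,3,6,0,1,4,0,2,5]

/-- certificate data -/
def trans3A : List (List ℕ × Bool) :=
  [([0,2,5,3,1,0], false), ([5], false)]

/-- certificate data -/
def trans3B : List (List ℕ × Bool) :=
  [([0,2,5,3,1,0], true), ([5], true)]

/-- certificate data -/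
def spiderWord4 : List ℕ :=
  [0,2,5,0,3,6,0,1,4]

/-- certificate data -/
def trans4A : List (List ℕ × Bool) :=
  [([6,2,5,1,4,0], false), ([], false)]

/-- certificate data -/
def trans4B : List (List ℕ × Bool) :=
  [([6,2,5,1,4,0], true), ([], true)]

/-- certificate data -/
def spiderWord5 : List ℕ :=
  [0,3,6,0,2,5,0,1,4]

/-- certificate data -/
def trans5A : List (List ℕ × Bool) :=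
  [([0,1,4,3,2,0], true), ([4], true)]

/-- certificate data -/
def trans5B : List (List ℕ × Bool) :=
  [([0,1,4,3,2,0], false), ([4], false)]

end CfsgLib.ExtraspecialLarge.Y555
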